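import Mathlib

/-!
Tools for the lower bound on the degree of representations of alternating groups: explicit
three-cycles, transitivity of the alternating group on short lists, and weight vectors.
-/

set_option autoImplicit false

namespace CfsgAltMinDeg

open Equiv Equiv.Perm

section Cycles

variable {α : Type*} [Fintype α] [DecidableEq α]

/-- The three-cycle `a ↦ b ↦ c ↦ a`, as an even permutation (trivial on degenerate input). -/
def cyc (a b c : α) : alternatingGroup α :=
  if h : a ≠ b ∧ b ≠ c then
    ⟨swap a b * swap b c, by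
      rw [mem_alternatingGroup, map_mul, sign_swap h.1, sign_swap h.2]; simp⟩
  else 1

theorem coe_cyc {a b c : α} (hab : a ≠ b) (hbc : b ≠ c) :
    (cyc a b c : Perm α) = swap a b * swap b c := by
  simp [cyc, hab, hbc]

theorem cyc_apply_left {a b c : α} (hab : a ≠ b) (hbc : b ≠ c) (hac : a ≠ c) :
    (cyc a b c : Perm α) a = b := by
  rw [coe_cyc hab hbc]; simp [swap_apply_of_ne_of_ne hab hac]

theorem cyc_apply_mid {a b c : α} (hab : a ≠ b) (hbc : b ≠ c) (hac : a ≠ c) :
    (cyc a b c : Perm α) b = c := by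
  rw [coe_cyc hab hbc]; simp [swap_apply_of_ne_of_ne hac.symm hbc.symm]

theorem cyc_apply_right {a b c : α} (hab : a ≠ b) (hbc : b ≠ c) :
    (cyc a b c : Perm α) c = a := by
  rw [coe_cyc hab hbc]; simp

theorem cyc_apply_other {a b c x : α} (ha : x ≠ a) (hb : x ≠ b) (hc : x ≠ c) :
    (cyc a b c : Perm α) x = x := by
  unfold cyc
  split
  · simp [swap_apply_of_ne_of_ne hb hc, swap_apply_of_ne_of_ne ha hb]
  · simp

theorem cyc_ne_one {a b c : α} (hab : a ≠ b) (hbc : b ≠ c) (hac : a ≠ c) : cyc a b c ≠ 1 := by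
  intro h
  have := cyc_apply_left hab hbc hac
  rw [h] at this
  simp at this
  exact hab this

theorem conj_cyc (g : alternatingGroup α) (a b c : α) :
    g * cyc a b c * g⁻¹ = cyc ((g : Perm α) a) ((g : Perm α) b) ((g : Perm α) c) := by
  by_cases h : a ≠ b ∧ b ≠ c
  · have h' : (g : Perm α) a ≠ (g : Perm α) b ∧ (g : Perm α) b ≠ (g : Perm α) c :=
      ⟨fun e => h.1 ((g : Perm α).injective e), fun e => h.2 ((g : Perm α).injective e)⟩
    apply Subtype.ext
    rw [Subgroup.coe_mul, Subgroup.coe_mul, Subgroup.coe_inv, coe_cyc h.1 h.2, coe_cyc h'.1 h'.2]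
    rw [show (g : Perm α) * (swap a b * swap b c) * (g : Perm α)⁻¹ =
      ((g : Perm α) * swap a b * (g : Perm α)⁻¹) * ((g : Perm α) * swap b c * (g : Perm α)⁻¹) by
      group]
    rw [swap_apply_apply, swap_apply_apply]
  · have h' : ¬ ((g : Perm α) a ≠ (g : Perm α) b ∧ (g : Perm α) b ≠ (g : Perm α) c) := by
      simpa [(g : Perm α).injective.eq_iff] using h
    simp [cyc, dif_neg h, dif_neg h']

theorem cyc_cube {a b c : α} (hab : a ≠ b) (hbc : b ≠ c) (hac : a ≠ c) :
    cyc a b c ^ 3 = 1 := by
  apply Subtype.ext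
  apply Equiv.ext
  intro x
  have key : ∀ y : α, (cyc a b c ^ 3 : alternatingGroup α).1 y =
      (cyc a b c : Perm α) ((cyc a b c : Perm α) ((cyc a b c : Perm α) y)) := by
    intro y
    simp [pow_succ]
  rw [key]
  by_cases h1 : x = a
  · subst h1; simp [cyc_apply_left hab hbc hac, cyc_apply_mid hab hbc hac, cyc_apply_right hab hbc]
  by_cases h2 : x = b
  · subst h2; simp [cyc_apply_left hab hbc hac, cyc_apply_mid hab hbc hac, cyc_apply_right hab hbc]
  by_cases h3 : x = c
  · subst h3; simp [cyc_apply_left hab hbc hac, cyc_apply_mid hab hbc hac, cyc_apply_right hab hbc]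
  simp [cyc_apply_other h1 h2 h3]

/-- The alternating group is transitive on duplicate-free lists leaving two points free. -/
theorem exists_map_list (l m : List α) (hl : l.Nodup) (hm : m.Nodup) (hlen : l.length = m.length)
    (hr : l.length + 2 ≤ Fintype.card α) :
    ∃ σ : alternatingGroup α, l.map (σ : Perm α) = m := by
  classical
  let e : {x // x ∈ l} ≃ {x // x ∈ m} :=
    (List.Nodup.getEquiv l hl).symm.trans
      ((finCongr hlen).trans (List.Nodup.getEquiv m hm))
  have key : ∀ (i : ℕ) (hi : i < l.length), e.extendSubtype l[i] = m[i]'(hlen ▸ hi) := by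
    intro i hi
    rw [Equiv.extendSubtype_apply_of_mem e l[i] (List.getElem_mem hi)]
    simp [e, List.Nodup.idxOf_getElem hl]
  have hmap : l.map e.extendSubtype = m := by
    apply List.ext_getElem (by simp [hlen])
    intro i h1 h2
    simp only [List.getElem_map]
    exact key i (by simpa using h1)
  by_cases hs : sign e.extendSubtype = 1
  · exact ⟨⟨e.extendSubtype, hs⟩, hmap⟩
  have hneg : sign e.extendSubtype = -1 := (Int.units_eq_one_or _).resolve_left hs
  have hcard : 1 < m.toFinsetᶜ.card := by
    rw [Finset.card_compl, List.toFinset_card_of_nodup hm]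
    omega
  obtain ⟨u, hu, v, hv, huv⟩ := Finset.one_lt_card.mp hcard
  simp only [Finset.mem_compl, List.mem_toFinset] at hu hv
  refine ⟨⟨swap u v * e.extendSubtype, ?_⟩, ?_⟩
  · rw [mem_alternatingGroup, map_mul, sign_swap huv, hneg]; simp
  · apply List.ext_getElem (by simp [hlen])
    intro i h1 h2
    simp only [List.getElem_map, Perm.mul_apply]
    rw [key i (by simpa using h1)]
    exact swap_apply_of_ne_of_ne (fun e => hu (e ▸ List.getElem_mem h2))
      (fun e => hv (e ▸ List.getElem_mem h2))

theorem exists_notMem (l : List α) (h : l.length < Fintype.card α) : ∃ x, x ∉ l := by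
  by_contra hc
  push Not at hc
  have : Fintype.card α ≤ l.toFinset.card := by
    rw [← Finset.card_univ]
    exact Finset.card_le_card fun x _ => List.mem_toFinset.mpr (hc x)
  have := l.toFinset_card_le
  omega

end Cycles

section Weights

variable {K : Type*} [Field K] {V : Type*} [AddCommGroup V] [Module K V]

/-- Common eigenvectors with pairwise distinct weights are linearly independent. -/
theorem linearIndependent_of_weights {ι J : Type*} (T : J → Module.End K V) (v : ι → V)
    (χ : ι → J → K) (hv : ∀ i, v i ≠ 0) (hχ : Function.Injective χ)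
    (h : ∀ i j, T j (v i) = χ i j • v i) : LinearIndependent K v := by
  classical
  rw [linearIndependent_iff']
  intro s
  induction s using Finset.induction_on with
  | empty => simp
  | @insert a s ha ih =>
    intro c hc
    have hs : ∀ i ∈ s, c i = 0 := by
      intro i hi
      have hia : i ≠ a := fun e => ha (e ▸ hi)
      obtain ⟨j, hj⟩ : ∃ j, χ i j ≠ χ a j := by
        by_contra hcon
        push Not at hcon
        exact hia (hχ (funext hcon))
      have h1 : ∑ k ∈ insert a s, (c k * χ k j) • v k = 0 := by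
        have := congrArg (T j) hc
        simpa [map_sum, h, smul_smul] using this
      have h2 : ∑ k ∈ insert a s, (c k * χ a j) • v k = 0 := by
        have := congrArg (fun w => χ a j • w) hc
        simpa [Finset.smul_sum, smul_smul, mul_comm] using this
      have h3 : ∑ k ∈ s, (c k * (χ k j - χ a j)) • v k = 0 := by
        have h4 : ∑ k ∈ insert a s, (c k * (χ k j - χ a j)) • v k = 0 := by
          simp [mul_sub, sub_smul, Finset.sum_sub_distrib, h1, h2]
        simpa [Finset.sum_insert ha] using h4
      have := ih _ h3 i hi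
      exact (mul_eq_zero.mp this).resolve_right (sub_ne_zero.mpr hj)
    intro i hi
    rcases Finset.mem_insert.mp hi with rfl | hi
    · rw [Finset.sum_insert ha, Finset.sum_eq_zero (fun k hk => by simp [hs k hk]), add_zero] at hc
      exact (smul_eq_zero.mp hc).resolve_right (hv i)
    · exact hs i hi

/-- The number of distinct weights is at most the dimension. -/
theorem card_le_finrank_of_weights [FiniteDimensional K V] {ι J : Type*} [Fintype ι]
    (T : J → Module.End K V) (v : ι → V) (χ : ι → J → K) (hv : ∀ i, v i ≠ 0)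
    (hχ : Function.Injective χ) (h : ∀ i j, T j (v i) = χ i j • v i) :
    Fintype.card ι ≤ Module.finrank K V :=
  (linearIndependent_of_weights T v χ hv hχ h).fintype_card_le_finrank

variable [IsAlgClosed K] [FiniteDimensional K V]

/-- A commuting set of operators has a common eigenvector in each nonzero invariant subspace. -/
theorem exists_common_eigen (S : Set (Module.End K V)) (hS : ∀ a ∈ S, ∀ b ∈ S, Commute a b)
    (W₀ : Submodule K V) (hW₀ : W₀ ≠ ⊥) (hinv : ∀ a ∈ S, ∀ w ∈ W₀, a w ∈ W₀) :
    ∃ v ∈ W₀, v ≠ 0 ∧ ∀ a ∈ S, ∃ c : K, a v = c • v := by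
  classical
  let P : ℕ → Prop := fun d => ∃ W : Submodule K V, W ≠ ⊥ ∧ W ≤ W₀ ∧
    (∀ a ∈ S, ∀ w ∈ W, a w ∈ W) ∧ Module.finrank K W = d
  have hP : ∃ d, P d := ⟨_, W₀, hW₀, le_rfl, hinv, rfl⟩
  obtain ⟨W, hW, hle, hWinv, hd⟩ := Nat.find_spec hP
  obtain ⟨v, hvW, hv⟩ := (Submodule.ne_bot_iff W).mp hW
  refine ⟨v, hle hvW, hv, fun a ha => ?_⟩
  haveI : Nontrivial W := Submodule.nontrivial_iff_ne_bot.mpr hW
  obtain ⟨c, hc⟩ := Module.End.exists_eigenvalue (a.restrict (hWinv a ha))
  obtain ⟨u, hu, hu0⟩ := hc.exists_hasEigenvector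
  let W' : Submodule K V := W ⊓ Module.End.eigenspace a c
  have hu' : (u : V) ∈ W' := Submodule.mem_inf.mpr ⟨u.2, by
    rw [Module.End.mem_eigenspace_iff] at hu ⊢
    exact congrArg Subtype.val hu⟩
  have hW' : W' ≠ ⊥ := fun e => hu0 (Subtype.ext ((Submodule.eq_bot_iff _).mp e _ hu'))
  have hW'inv : ∀ b ∈ S, ∀ w ∈ W', b w ∈ W' := by
    intro b hb w hw
    refine ⟨hWinv b hb w hw.1, ?_⟩
    have h1 : a w = c • w := Module.End.mem_eigenspace_iff.mp hw.2
    exact Module.End.mem_eigenspace_iff.mpr (by
      rw [← Module.End.mul_apply, (hS a ha b hb).eq, Module.End.mul_apply, h1, map_smul])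
  have hmin : Module.finrank K W ≤ Module.finrank K W' :=
    hd ▸ Nat.find_le ⟨W', hW', inf_le_left.trans hle, hW'inv, rfl⟩
  have heq : W' = W := Submodule.eq_of_le_of_finrank_le inf_le_left hmin
  exact ⟨c, Module.End.mem_eigenspace_iff.mp (show v ∈ W' from heq ▸ hvW).2⟩

/-- An operator of finite order prime to the characteristic is diagonalisable. -/
theorem iSup_eigenspace_of_pow_eq_one (T : Module.End K V) {k : ℕ} (hk : (k : K) ≠ 0)
    (hT : T ^ k = 1) : ⨆ μ : K, Module.End.eigenspace T μ = ⊤ := by
  apply Module.End.IsSemisimple.iSup_eigenspace_eq_top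
  apply Module.End.isSemisimple_of_squarefree_aeval_eq_zero
    (p := (Polynomial.X ^ k - 1 : Polynomial K))
  · exact (Polynomial.X_pow_sub_one_separable_iff.mpr hk).squarefree
  · simp [hT]

end Weights

end CfsgAltMinDeg
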