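import Cfsg.Agent.AltMinDeg.Natural

/-!
From planes indexed by triples of points to lines indexed by pairs.
-/

set_option autoImplicit false

namespace CfsgAltMinDeg

open Equiv Equiv.Perm

variable {r : ℕ} {K : Type} [Field K] {V : Type} [AddCommGroup V] [Module K V]

/-- Symmetric planes on triples permuted by the alternating group, disjoint triples giving
independent planes. -/
structure PlaneSystem (K V : Type) [Field K] [AddCommGroup V] [Module K V] (r : ℕ) where
  /-- the plane of a triple -/
  P : Fin r → Fin r → Fin r → Submodule K V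
  rot : ∀ {a b c}, [a, b, c].Nodup → P b c a = P a b c
  swap : ∀ {a b c}, [a, b, c].Nodup → P a c b = P a b c
  move : ∀ σ : alternatingGroup (Fin r), ∃ T : V →ₗ[K] V, Function.Injective T ∧
    ∀ {a b c}, [a, b, c].Nodup → (P a b c).map T = P (σ.1 a) (σ.1 b) (σ.1 c)
  ne_bot : ∀ {a b c}, [a, b, c].Nodup → P a b c ≠ ⊥
  disjoint : ∀ {a b c d e f}, [a, b, c, d, e, f].Nodup → P a b c ⊓ P d e f = ⊥

namespace PlaneSystem

variable (S : PlaneSystem K V r)

/-- Planes of triples meeting in two points differ. -/
theorem ne (hr : 6 ≤ r) {a b c d : Fin r} (h : [a, b, c, d].Nodup) : S.P a b c ≠ S.P a b d := by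
  intro he
  have all : ∀ {x y z w : Fin r}, [x, y, z, w].Nodup → S.P x y z = S.P x y w := by
    intro x y z w hn
    obtain ⟨σ, hσ⟩ := exists_map_fin [a, b, c, d] [x, y, z, w] h hn rfl (by simp; omega)
    simp only [List.map_cons, List.map_nil, List.cons.injEq, and_true] at hσ
    obtain ⟨T, -, hT⟩ := S.move σ
    have h' := congrArg (Submodule.map T) he
    rw [hT (by simp at h ⊢; grind), hT (by simp at h ⊢; grind), hσ.1, hσ.2.1, hσ.2.2.1,
      hσ.2.2.2] at h'
    exact h'
  obtain ⟨e, hE⟩ := exists_notMem_fin [a, b, c, d] (by simp; omega)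
  obtain ⟨f, hF⟩ := exists_notMem_fin [a, b, c, d, e] (by simp; omega)
  simp only [List.mem_cons, List.not_mem_nil, or_false, not_or] at hE hF
  simp only [List.nodup_cons, List.mem_cons, List.not_mem_nil, or_false, not_or] at h
  have h1 := all (x := a) (y := b) (z := c) (w := d) (by simp; grind)
  have h2 := all (x := d) (y := a) (z := b) (w := e) (by simp; grind)
  have h3 := all (x := d) (y := e) (z := a) (w := f) (by simp; grind)
  rw [S.rot (a := d) (b := a) (c := b) (by simp; grind), h2,
    ← S.swap (a := d) (b := a) (c := e) (by simp; grind), h3] at h1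
  have h6 := S.disjoint (a := a) (b := b) (c := c) (d := d) (e := e) (f := f) (by simp; grind)
  rw [← h1, inf_idem] at h6
  exact S.ne_bot (by simp; grind) h6

variable [FiniteDimensional K V]

/-- The line configuration of a plane system, given that planes through two points meet and
are not coplanar. -/
theorem bound (hr : 7 ≤ r)
    (hdim : ∀ {a b c}, [a, b, c].Nodup → Module.finrank K (S.P a b c) = 2)
    (hinter : ∀ {a b c d}, [a, b, c, d].Nodup → S.P a b c ⊓ S.P a b d ≠ ⊥)
    (hcop : ∀ {a b c d e}, [a, b, c, d, e].Nodup → ¬ S.P a b e ≤ S.P a b c ⊔ S.P a b d) :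
    r ≤ Module.finrank K V + 2 ∧ ((r : K) ≠ 0 → r ≤ Module.finrank K V + 1) := by
  classical
  let l : Fin r → Fin r → Submodule K V := fun a b =>
    ⨅ (c : Fin r) (_ : [a, b, c].Nodup), S.P a b c
  have hline : ∀ {a b c d}, [a, b, c, d].Nodup →
      Module.finrank K (S.P a b c ⊓ S.P a b d : Submodule K V) = 1 := by
    intro a b c d h
    have h3 : [a, b, c].Nodup := by simp at h ⊢; grind
    have h4 : [a, b, d].Nodup := by simp at h ⊢; grind
    have h0 : 0 < Module.finrank K (S.P a b c ⊓ S.P a b d : Submodule K V) :=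
      Nat.pos_of_ne_zero fun e => hinter h (Submodule.finrank_eq_zero.mp e)
    have hle := Submodule.finrank_mono (inf_le_left : S.P a b c ⊓ S.P a b d ≤ S.P a b c)
    rw [hdim h3] at hle
    by_contra hne
    have e1 : S.P a b c ⊓ S.P a b d = S.P a b c :=
      Submodule.eq_of_le_of_finrank_le inf_le_left (by rw [hdim h3]; omega)
    exact S.ne (by omega) h (Submodule.eq_of_le_of_finrank_le (inf_eq_left.mp e1)
      (by rw [hdim h3, hdim h4]))
  have hcommon : ∀ {a b c d e}, [a, b, c, d, e].Nodup →
      S.P a b c ⊓ S.P a b d ≤ S.P a b e := by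
    intro a b c d e h
    by_contra hne
    have h4 : [a, b, c, d].Nodup := by simp at h ⊢; grind
    have h5 : [a, b, e, c].Nodup := by simp at h ⊢; grind
    have h6 : [a, b, e, d].Nodup := by simp at h ⊢; grind
    refine hcop h ?_
    have hsum := Submodule.finrank_sup_add_finrank_inf_eq (S.P a b e ⊓ S.P a b c)
      (S.P a b e ⊓ S.P a b d)
    have h0 : (S.P a b e ⊓ S.P a b c) ⊓ (S.P a b e ⊓ S.P a b d) = ⊥ := by
      by_contra hz
      have hle : (S.P a b e ⊓ S.P a b c) ⊓ (S.P a b e ⊓ S.P a b d) ≤ S.P a b c ⊓ S.P a b d :=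
        le_inf (inf_le_left.trans inf_le_right) (inf_le_right.trans inf_le_right)
      have heq := Submodule.eq_of_le_of_finrank_le hle (by
        rw [hline h4]
        exact Nat.pos_of_ne_zero fun z => hz (Submodule.finrank_eq_zero.mp z))
      exact hne (heq ▸ inf_le_left.trans inf_le_left)
    rw [h0, finrank_bot, hline h5, hline h6] at hsum
    have hle : (S.P a b e ⊓ S.P a b c) ⊔ (S.P a b e ⊓ S.P a b d) ≤ S.P a b e :=
      sup_le inf_le_left inf_le_left
    have heq := Submodule.eq_of_le_of_finrank_le hle (by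
      rw [hdim (by simp at h ⊢; grind)]; omega)
    rw [← heq]
    exact sup_le_sup inf_le_right inf_le_right
  have hl_eq : ∀ {a b c d}, [a, b, c, d].Nodup → l a b = S.P a b c ⊓ S.P a b d := by
    intro a b c d h
    have h3 : [a, b, c].Nodup := by simp at h ⊢; grind
    have h4 : [a, b, d].Nodup := by simp at h ⊢; grind
    refine le_antisymm (le_inf (iInf₂_le c h3) (iInf₂_le d h4)) (le_iInf₂ fun e he => ?_)
    by_cases hec : e = c
    · rw [hec]; exact inf_le_left
    by_cases hed : e = d
    · rw [hed]; exact inf_le_right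
    exact hcommon (by simp at h he ⊢; grind)
  have hpick : ∀ {a b : Fin r}, a ≠ b → ∃ c d, [a, b, c, d].Nodup := by
    intro a b hab
    obtain ⟨c, hc⟩ := exists_notMem_fin [a, b] (by simp; omega)
    obtain ⟨d, hd⟩ := exists_notMem_fin [a, b, c] (by simp; omega)
    simp only [List.mem_cons, List.not_mem_nil, or_false, not_or] at hc hd
    exact ⟨c, d, by simp; grind⟩
  have hl_le : ∀ {a b c}, [a, b, c].Nodup → l a b ≤ S.P a b c := fun {a b c} h =>
    iInf₂_le (f := fun x (_ : [a, b, x].Nodup) => S.P a b x) c h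
  have hl_dim : ∀ {a b : Fin r}, a ≠ b → Module.finrank K (l a b) = 1 := by
    intro a b hab
    obtain ⟨c, d, h⟩ := hpick hab
    rw [hl_eq h, hline h]
  have hsymm : ∀ {a b : Fin r}, a ≠ b → l a b = l b a := by
    intro a b hab
    obtain ⟨c, d, h⟩ := hpick hab
    have e : ∀ x, [a, b, x].Nodup → S.P b a x = S.P a b x := by
      intro x hx
      rw [← S.swap (a := b) (b := a) (c := x) (by simp at hx ⊢; grind), S.rot hx]
    rw [hl_eq h, hl_eq (a := b) (b := a) (c := c) (d := d) (by simp at h ⊢; grind),
      e c (by simp at h ⊢; grind), e d (by simp at h ⊢; grind)]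
  have hmove : ∀ (σ : alternatingGroup (Fin r)) (T : V →ₗ[K] V), Function.Injective T →
      (∀ {a b c}, [a, b, c].Nodup → (S.P a b c).map T = S.P (σ.1 a) (σ.1 b) (σ.1 c)) →
      ∀ i j, i ≠ j → (l i j).map T = l (σ.1 i) (σ.1 j) := by
    intro σ T hT hTP i j hij
    obtain ⟨c, d, h⟩ := hpick hij
    rw [hl_eq h, Submodule.map_inf T hT, hTP (by simp at h ⊢; grind), hTP (by simp at h ⊢; grind),
      hl_eq (h.map σ.1.injective)]
  have hlne : ∀ {a b c}, [a, b, c].Nodup → l a b ≠ l a c := by
    intro a b c h he
    have all : ∀ {x y z : Fin r}, [x, y, z].Nodup → l x y = l x z := by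
      intro x y z hn
      obtain ⟨σ, hσ⟩ := exists_map_fin [a, b, c] [x, y, z] h hn rfl (by simp; omega)
      simp only [List.map_cons, List.map_nil, List.cons.injEq, and_true] at hσ
      obtain ⟨T, hT, hTP⟩ := S.move σ
      have h' := congrArg (Submodule.map T) he
      simp only [List.nodup_cons, List.mem_cons, List.not_mem_nil, or_false, not_or] at h
      rwa [hmove σ T hT hTP a b (by grind), hmove σ T hT hTP a c (by grind), hσ.1, hσ.2.1,
        hσ.2.2] at h'
    obtain ⟨d, hd⟩ := exists_notMem_fin [a, b, c] (by simp; omega)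
    obtain ⟨e, hE⟩ := exists_notMem_fin [a, b, c, d] (by simp; omega)
    obtain ⟨f, hF⟩ := exists_notMem_fin [a, b, c, d, e] (by simp; omega)
    simp only [List.mem_cons, List.not_mem_nil, or_false, not_or] at hd hE hF
    simp only [List.nodup_cons, List.mem_cons, List.not_mem_nil, or_false, not_or] at h
    have h1 : l a b = l d e := by
      rw [all (x := a) (y := b) (z := d) (by simp; grind), hsymm (by grind),
        all (x := d) (y := a) (z := e) (by simp; grind)]
    have hle : l a b ≤ S.P a b c ⊓ S.P d e f :=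
      le_inf (hl_le (by simp; grind)) (h1 ▸ hl_le (by simp; grind))
    rw [S.disjoint (by simp; grind), le_bot_iff] at hle
    have := hl_dim (a := a) (b := b) (by grind)
    rw [hle, finrank_bot] at this
    omega
  have hplane : ∀ {a b c}, [a, b, c].Nodup → l a b ⊔ l a c = S.P a b c := by
    intro a b c h
    have h' : [a, c, b].Nodup := by simp at h ⊢; grind
    have hle : l a b ⊔ l a c ≤ S.P a b c := sup_le (hl_le h) (S.swap h ▸ hl_le h')
    refine Submodule.eq_of_le_of_finrank_le hle ?_
    have hsum := Submodule.finrank_sup_add_finrank_inf_eq (l a b) (l a c)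
    have hab : a ≠ b := by simp at h; grind
    have hac : a ≠ c := by simp at h; grind
    have h0 : Module.finrank K (l a b ⊓ l a c : Submodule K V) = 0 := by
      by_contra hz
      have e1 := Submodule.eq_of_le_of_finrank_le (inf_le_left : l a b ⊓ l a c ≤ l a b)
        (by rw [hl_dim hab]; omega)
      exact hlne h (Submodule.eq_of_le_of_finrank_le (inf_eq_left.mp e1)
        (by rw [hl_dim hab, hl_dim hac]))
    rw [hl_dim hab, hl_dim hac, h0] at hsum
    rw [hdim h]
    omega
  let C : LineConfig K V r :=
    { l := l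
      finrank_l := fun h => hl_dim h
      symm := fun h => hsymm h
      ne := fun h => hlne h
      le_sup := fun {a b c} h => by
        rw [hplane h, ← S.rot h]
        exact hl_le (by simp at h ⊢; grind)
      inf_le := fun {a b c d} h => by
        have h1 : [a, b, c].Nodup := by simp at h ⊢; grind
        have h2 : [d, b, c].Nodup := by simp at h ⊢; grind
        rw [hplane h1, hplane h2, ← S.rot h1, ← S.rot h2,
          hl_eq (a := b) (b := c) (c := a) (d := d) (by simp at h ⊢; grind)]
      move := fun {a b c} h => by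
        obtain ⟨T, hT, hTP⟩ := S.move (cyc a b c)
        exact ⟨T, hT, hmove _ T hT hTP⟩ }
  exact C.bound (by omega)

end PlaneSystem

end CfsgAltMinDeg
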