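import Cfsg.Agent.AltMinDeg.QuadSpace
import Cfsg.Agent.AltMinDeg.Planes

/-!
Characteristic different from two: lifts of three-cycles fixing the spaces moved by disjoint
four-groups.
-/

set_option autoImplicit false

namespace CfsgAltMinDeg

open Equiv Equiv.Perm

/-- Entries at distinct positions of a duplicate-free list are distinct. -/
theorem nodup_sub {α : Type*} {l m : List α} (h : l.Nodup) (is : List ℕ) (his : is.Nodup)
    (e : is.map (fun i => l[i]?) = m.map some) : m.Nodup := by
  refine List.Nodup.of_map some ?_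
  rw [← e]
  refine List.Nodup.map_on (fun i hi j hj hij => ?_) his
  have hs : l[i]? ∈ m.map some := e ▸ List.mem_map_of_mem hi
  obtain ⟨x, -, hx⟩ := List.mem_map.mp hs
  exact List.getElem?_inj (List.getElem?_eq_some_iff.mp hx.symm).1 h |>.mp hij

variable {r : ℕ} {K : Type} [Field K] {V : Type} [AddCommGroup V] [Module K V]
  [FiniteDimensional K V]
  {H : Type} [Group H] {ρ : H →* Module.End K V} {φ : H →* alternatingGroup (Fin r)}

/-- Lifts of three-cycles fix the spaces of disjoint four-groups. -/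
def QuadFixing (hR : IsAltRep ρ φ) : Prop :=
  ∀ {a b c d e f g : Fin r}, [a, b, c, d, e, f, g].Nodup →
    ∀ v ∈ quadSpace hR a b c d, hR.L e f g v = v

theorem quadSpace_le_fix {hR : IsAltRep ρ φ} (hfix : QuadFixing hR) {a b c d e f g h : Fin r}
    (hn : [a, b, c, d, e, f, g, h].Nodup) : quadSpace hR a b c d ≤ quadFix hR e f g h := by
  intro v hv
  have e1 := hfix (e := e) (f := f) (g := g) (nodup_sub hn [0, 1, 2, 3, 4, 5, 6] (by decide) rfl) v hv
  have e2 := hfix (e := e) (f := f) (g := h) (nodup_sub hn [0, 1, 2, 3, 4, 5, 7] (by decide) rfl) v hv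
  simp [quadFix, quadLift, e1, e2]

theorem quadSpace_disjoint [Nontrivial V] {hR : IsAltRep ρ φ} (hr : 9 ≤ r) (hu : Unsigned hR)
    (h2 : (2 : K) ≠ 0) (hfix : QuadFixing hR) {a b c d e f g h : Fin r}
    (hn : [a, b, c, d, e, f, g, h].Nodup) :
    quadSpace hR a b c d ⊓ quadSpace hR e f g h = ⊥ := by
  rw [← le_bot_iff]
  exact (inf_le_inf le_rfl (quadSpace_le_fix hfix
    (nodup_sub hn [4, 5, 6, 7, 0, 1, 2, 3] (by decide) rfl))).trans
      (quadSpace_inf_quadFix hR hr hu h2 (nodup_sub hn [0, 1, 2, 3] (by decide) rfl)).le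

theorem quadSpace_last [Nontrivial V] {hR : IsAltRep ρ φ} (hr : 9 ≤ r) (hu : Unsigned hR)
    {a b c d : Fin r} (h : [a, b, c, d].Nodup) :
    quadSpace hR d a b c = quadSpace hR a b c d := by
  rw [(quadSpace_rel hR hr hu (nodup_sub h [0, 3, 1, 2] (by decide) rfl :
      [a, d, b, c].Nodup)).2.1,
    (quadSpace_rel hR hr hu (nodup_sub h [0, 1, 3, 2] (by decide) rfl : [a, b, d, c].Nodup)).2.2,
    (quadSpace_rel hR hr hu h).1]

theorem quadSpace_ne [Nontrivial V] {hR : IsAltRep ρ φ} (hr : 11 ≤ r) (hu : Unsigned hR)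
    (h2 : (2 : K) ≠ 0) (hfix : QuadFixing hR)
    (hQ3 : ∀ {a b c d}, [a, b, c, d].Nodup → Module.finrank K (quadSpace hR a b c d) = 3)
    {a b c d e : Fin r} (h : [a, b, c, d, e].Nodup) :
    quadSpace hR a b c d ≠ quadSpace hR a b c e := by
  intro he
  have hr9 : 9 ≤ r := by omega
  have all : ∀ {x y z u w : Fin r}, [x, y, z, u, w].Nodup →
      quadSpace hR x y z u = quadSpace hR x y z w := by
    intro x y z u w hn
    obtain ⟨σ, hσ⟩ := exists_map_fin [a, b, c, d, e] [x, y, z, u, w] h hn rfl (by simp; omega)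
    simp only [List.map_cons, List.map_nil, List.cons.injEq, and_true] at hσ
    obtain ⟨g, hg⟩ := hR.surj σ
    have h' := congrArg (Submodule.map (ρ g)) he
    rw [map_quadSpace hR hr9 g (nodup_sub h [0, 1, 2, 3] (by decide) rfl),
      map_quadSpace hR hr9 g (nodup_sub h [0, 1, 2, 4] (by decide) rfl), hg, hσ.1, hσ.2.1, hσ.2.2.1,
      hσ.2.2.2.1, hσ.2.2.2.2] at h'
    exact h'
  obtain ⟨f, hf⟩ := exists_notMem_fin [a, b, c, d, e] (by simp; omega)
  obtain ⟨g, hg⟩ := exists_notMem_fin [f, a, b, c, d, e] (by simp; omega)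
  obtain ⟨k, hk⟩ := exists_notMem_fin [g, f, a, b, c, d, e] (by simp; omega)
  have h8 : [k, g, f, a, b, c, d, e].Nodup :=
    List.nodup_cons.mpr ⟨hk, List.nodup_cons.mpr ⟨hg, List.nodup_cons.mpr ⟨hf, h⟩⟩⟩
  have c1 : quadSpace hR a b c d = quadSpace hR e a b c := by
    rw [he, quadSpace_last hr9 hu (nodup_sub h [0, 1, 2, 4] (by decide) rfl)]
  have c2 : quadSpace hR e a b c = quadSpace hR f e a b := by
    rw [all (nodup_sub h8 [7, 3, 4, 5, 2] (by decide) rfl : [e, a, b, c, f].Nodup),
      quadSpace_last hr9 hu (nodup_sub h8 [7, 3, 4, 2] (by decide) rfl)]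
  have c3 : quadSpace hR f e a b = quadSpace hR g f e a := by
    rw [all (nodup_sub h8 [2, 7, 3, 4, 1] (by decide) rfl : [f, e, a, b, g].Nodup),
      quadSpace_last hr9 hu (nodup_sub h8 [2, 7, 3, 1] (by decide) rfl)]
  have c4 : quadSpace hR g f e a = quadSpace hR g f e k :=
    all (nodup_sub h8 [1, 2, 7, 3, 0] (by decide) rfl)
  have hd := quadSpace_disjoint hr9 hu h2 hfix
    (nodup_sub h8 [3, 4, 5, 6, 1, 2, 7, 0] (by decide) rfl : [a, b, c, d, g, f, e, k].Nodup)
  rw [← c4, ← c3, ← c2, ← c1, inf_idem] at hd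
  have := hQ3 (nodup_sub h [0, 1, 2, 3] (by decide) rfl : [a, b, c, d].Nodup)
  rw [hd, finrank_bot] at this
  omega

theorem quad_grow [Nontrivial V] {hR : IsAltRep ρ φ} (hr : 11 ≤ r) (hu : Unsigned hR)
    (h2 : (2 : K) ≠ 0) (hfix : QuadFixing hR)
    (hQ3 : ∀ {a b c d}, [a, b, c, d].Nodup → Module.finrank K (quadSpace hR a b c d) = 3)
    {a b c i : Fin r} (U : Finset (Fin r)) (hn : [a, b, c, i].Nodup)
    (hout : ∀ x ∈ U, x ∉ [a, b, c, i]) (hle : U.card + 6 ≤ r) :
    ¬ quadSpace hR a b c i ≤ U.sup (fun x => quadSpace hR a b c x) := by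
  intro hsub
  have hr9 : 9 ≤ r := by omega
  obtain ⟨j, hj⟩ := exists_notMem_fin ([a, b, c, i] ++ U.toList) (by simp; omega)
  obtain ⟨k, hk⟩ := exists_notMem_fin ([j, a, b, c, i] ++ U.toList) (by simp; omega)
  rw [List.mem_append, not_or, Finset.mem_toList] at hj hk
  have h6 : [k, j, a, b, c, i].Nodup :=
    List.nodup_cons.mpr ⟨hk.1, List.nodup_cons.mpr ⟨hj.1, hn⟩⟩
  have hijk : [i, j, k].Nodup := nodup_sub h6 [5, 1, 0] (by decide) rfl
  obtain ⟨g, hg, hLg⟩ := hR.L_eq_rho hr9 hijk
  have hid : ∀ v ∈ quadSpace hR a b c i, ρ g v = v := by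
    intro v hv
    have hker : U.sup (fun x => quadSpace hR a b c x) ≤ LinearMap.ker (hR.L i j k - 1) := by
      refine Finset.sup_le fun x hx u hu' => ?_
      have hx6 : x ∉ [k, j, a, b, c, i] := by
        have := hout x hx
        have h1 : x ≠ k := fun e => hk.2 (e ▸ hx)
        have h2' : x ≠ j := fun e => hj.2 (e ▸ hx)
        simp only [List.mem_cons, not_or] at this ⊢
        exact ⟨h1, h2', this⟩
      have h7 : [x, k, j, a, b, c, i].Nodup := List.nodup_cons.mpr ⟨hx6, h6⟩
      simp [hfix (e := i) (f := j) (g := k) (nodup_sub h7 [3, 4, 5, 0, 6, 2, 1] (by decide) rfl)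
        u hu']
    have := hker (hsub hv)
    rw [LinearMap.mem_ker, LinearMap.sub_apply, Module.End.one_apply, sub_eq_zero, hLg] at this
    exact this
  have e := map_quadSpace hR hr9 g hn
  have hd := h6
  simp only [List.nodup_cons, List.mem_cons, List.not_mem_nil, or_false, not_or] at hd
  obtain ⟨⟨hkj, hka, hkb, hkc, hki⟩, ⟨hja, hjb, hjc, hji⟩, ⟨-, -, hai⟩, ⟨-, hbi⟩, hci, -⟩ := hd
  rw [hg, cyc_apply_other hai (Ne.symm hja) (Ne.symm hka), cyc_apply_other hbi (Ne.symm hjb) (Ne.symm hkb),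
    cyc_apply_other hci (Ne.symm hjc) (Ne.symm hkc),
    cyc_apply_left (Ne.symm hji) (Ne.symm hkj) (Ne.symm hki)] at e
  have hsame : (quadSpace hR a b c i).map (ρ g) = quadSpace hR a b c i := by
    ext v
    constructor
    · rintro ⟨u, hu', rfl⟩; rw [hid u hu']; exact hu'
    · intro hv; exact ⟨v, hv, hid v hv⟩
  rw [hsame] at e
  exact quadSpace_ne hr hu h2 hfix hQ3
    (nodup_sub h6 [2, 3, 4, 5, 1] (by decide) rfl : [a, b, c, i, j].Nodup) e

set_option maxHeartbeats 800000 in
theorem quad_inter [Nontrivial V] {hR : IsAltRep ρ φ} (hr : 11 ≤ r) (hu : Unsigned hR)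
    (h2 : (2 : K) ≠ 0) (hfix : QuadFixing hR)
    (hQ3 : ∀ {a b c d}, [a, b, c, d].Nodup → Module.finrank K (quadSpace hR a b c d) = 3)
    (hbig : ¬ r ≤ Module.finrank K V + 1) {a b c d e : Fin r} (h : [a, b, c, d, e].Nodup) :
    Module.finrank K (quadSpace hR a b c d ⊓ quadSpace hR a b c e : Submodule K V) = 2 := by
  have hr9 : 9 ≤ r := by omega
  have hd4 : [a, b, c, d].Nodup := nodup_sub h [0, 1, 2, 3] (by decide) rfl
  have he4 : [a, b, c, e].Nodup := nodup_sub h [0, 1, 2, 4] (by decide) rfl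
  have hle := Submodule.finrank_mono
    (inf_le_left : quadSpace hR a b c d ⊓ quadSpace hR a b c e ≤ quadSpace hR a b c d)
  rw [hQ3 hd4] at hle
  by_contra hne2
  by_cases h3' : Module.finrank K (quadSpace hR a b c d ⊓ quadSpace hR a b c e : Submodule K V) = 3
  · have e1 := Submodule.eq_of_le_of_finrank_le
      (inf_le_left : quadSpace hR a b c d ⊓ quadSpace hR a b c e ≤ quadSpace hR a b c d)
      (by rw [hQ3 hd4]; omega)
    exact quadSpace_ne hr hu h2 hfix hQ3 h
      (Submodule.eq_of_le_of_finrank_le (inf_eq_left.mp e1) (by rw [hQ3 hd4, hQ3 he4]))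
  -- then the growth gives too large a dimension
  obtain ⟨t1, ht1⟩ := exists_notMem_fin [a, b, c, d, e] (by simp; omega)
  obtain ⟨t2, ht2⟩ := exists_notMem_fin [t1, a, b, c, d, e] (by simp; omega)
  obtain ⟨t3, ht3⟩ := exists_notMem_fin [t2, t1, a, b, c, d, e] (by simp; omega)
  obtain ⟨t4, ht4⟩ := exists_notMem_fin [t3, t2, t1, a, b, c, d, e] (by simp; omega)
  have h9 : [t4, t3, t2, t1, a, b, c, d, e].Nodup := List.nodup_cons.mpr ⟨ht4,
    List.nodup_cons.mpr ⟨ht3, List.nodup_cons.mpr ⟨ht2, List.nodup_cons.mpr ⟨ht1, h⟩⟩⟩⟩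
  let R : Finset (Fin r) := ([t4, t3, t2, t1, a, b, c, d, e].toFinset)ᶜ
  have hmemR : ∀ x ∈ R, x ∉ [t4, t3, t2, t1, a, b, c, d, e] := fun x hx => by
    simpa [R] using hx
  have hR' : R.card = r - 9 := by
    simp only [R, Finset.card_compl, Fintype.card_fin, List.toFinset_card_of_nodup h9]
    rfl
  have key : ∀ U ⊆ R, 5 + U.card ≤
      Module.finrank K ((insert d (insert e U)).sup (fun x => quadSpace hR a b c x) : Submodule K V) := by
    intro U
    induction U using Finset.induction_on with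
    | empty =>
      intro _
      have := Submodule.finrank_sup_add_finrank_inf_eq (quadSpace hR a b c d) (quadSpace hR a b c e)
      rw [hQ3 hd4, hQ3 he4] at this
      rw [insert_empty_eq, Finset.sup_insert, Finset.sup_singleton, Finset.card_empty]
      omega
    | @insert i U hiU ih =>
      intro hsub
      have hU := ih (fun x hx => hsub (Finset.mem_insert_of_mem hx))
      have hUR : U.card + 1 ≤ R.card := by
        rw [← Finset.card_insert_of_notMem hiU]; exact Finset.card_le_card hsub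
      have h10 : [i, t4, t3, t2, t1, a, b, c, d, e].Nodup :=
        List.nodup_cons.mpr ⟨hmemR i (hsub (Finset.mem_insert_self i U)), h9⟩
      have hout : ∀ x ∈ insert d (insert e U), x ∉ [a, b, c, i] := by
        intro x hx
        rcases Finset.mem_insert.mp hx with rfl | hx
        · exact (List.nodup_cons.mp
            (nodup_sub h10 [8, 5, 6, 7, 0] (by decide) rfl : [x, a, b, c, i].Nodup)).1
        rcases Finset.mem_insert.mp hx with rfl | hx
        · exact (List.nodup_cons.mp
            (nodup_sub h10 [9, 5, 6, 7, 0] (by decide) rfl : [x, a, b, c, i].Nodup)).1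
        · have h1 := hmemR x (hsub (Finset.mem_insert_of_mem hx))
          have h2' : x ≠ i := fun e => hiU (e ▸ hx)
          simp only [List.mem_cons, List.not_mem_nil, or_false, not_or] at h1 ⊢
          exact ⟨h1.2.2.2.2.1, h1.2.2.2.2.2.1, h1.2.2.2.2.2.2.1, h2'⟩
      have hg := quad_grow hr hu h2 hfix hQ3 (insert d (insert e U))
        (nodup_sub h10 [5, 6, 7, 0] (by decide) rfl) hout (by
          have := Finset.card_insert_le d (insert e U)
          have := Finset.card_insert_le e U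
          omega)
      have hperm : (insert d (insert e (insert i U))).sup (fun x => quadSpace hR a b c x) =
          quadSpace hR a b c i ⊔ (insert d (insert e U)).sup (fun x => quadSpace hR a b c x) := by
        simp only [Finset.sup_insert]
        ac_rfl
      rw [hperm, Finset.card_insert_of_notMem hiU]
      have := Submodule.finrank_lt_finrank_of_lt (right_lt_sup.mpr hg)
      omega
  have h1 := key R subset_rfl
  have h4 : [t1, t2, t3, t4].Nodup := nodup_sub h9 [3, 2, 1, 0] (by decide) rfl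
  have hW : (insert d (insert e R)).sup (fun x => quadSpace hR a b c x) ≤
      quadFix hR t1 t2 t3 t4 := by
    refine Finset.sup_le fun x hx => quadSpace_le_fix hfix ?_
    rcases Finset.mem_insert.mp hx with rfl | hx
    · exact nodup_sub h9 [4, 5, 6, 7, 3, 2, 1, 0] (by decide) rfl
    rcases Finset.mem_insert.mp hx with rfl | hx
    · exact nodup_sub h9 [4, 5, 6, 8, 3, 2, 1, 0] (by decide) rfl
    · exact nodup_sub (List.nodup_cons.mpr ⟨hmemR x hx, h9⟩ :
        [x, t4, t3, t2, t1, a, b, c, d, e].Nodup) [5, 6, 7, 0, 4, 3, 2, 1] (by decide) rfl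
  generalize (insert d (insert e R)).sup (fun x => quadSpace hR a b c x) = W at h1 hW
  have h0 : quadSpace hR t1 t2 t3 t4 ⊓ W = ⊥ := eq_bot_iff.mpr
    ((inf_le_inf le_rfl hW).trans (quadSpace_inf_quadFix hR hr9 hu h2 h4).le)
  have hsum := Submodule.finrank_sup_add_finrank_inf_eq (quadSpace hR t1 t2 t3 t4) W
  rw [h0, finrank_bot, hQ3 h4] at hsum
  have := (quadSpace hR t1 t2 t3 t4 ⊔ W).finrank_le
  omega

theorem quad_common [Nontrivial V] {hR : IsAltRep ρ φ} (hr : 11 ≤ r) (hu : Unsigned hR)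
    (h2 : (2 : K) ≠ 0) (hfix : QuadFixing hR)
    (hQ3 : ∀ {a b c d}, [a, b, c, d].Nodup → Module.finrank K (quadSpace hR a b c d) = 3)
    (hbig : ¬ r ≤ Module.finrank K V + 1) {a b c d e f : Fin r}
    (h : [a, b, c, d, e, f].Nodup) :
    quadSpace hR a b c d ⊓ quadSpace hR a b c e ≤ quadSpace hR a b c f := by
  by_contra hnle
  have hde : [a, b, c, d, e].Nodup := nodup_sub h [0, 1, 2, 3, 4] (by decide) rfl
  have hfd : [a, b, c, f, d].Nodup := nodup_sub h [0, 1, 2, 5, 3] (by decide) rfl
  have hfe : [a, b, c, f, e].Nodup := nodup_sub h [0, 1, 2, 5, 4] (by decide) rfl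
  have hf4 : [a, b, c, f].Nodup := nodup_sub h [0, 1, 2, 5] (by decide) rfl
  have hi := fun {a b c d e : Fin r} (h : [a, b, c, d, e].Nodup) =>
    quad_inter hr hu h2 hfix hQ3 hbig h
  have hsum := Submodule.finrank_sup_add_finrank_inf_eq
    (quadSpace hR a b c f ⊓ quadSpace hR a b c d) (quadSpace hR a b c f ⊓ quadSpace hR a b c e)
  rw [hi hfd, hi hfe] at hsum
  have hle3 : (quadSpace hR a b c f ⊓ quadSpace hR a b c d) ⊔
      (quadSpace hR a b c f ⊓ quadSpace hR a b c e) ≤ quadSpace hR a b c f :=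
    sup_le inf_le_left inf_le_left
  by_cases hbig2 : 3 ≤ Module.finrank K ((quadSpace hR a b c f ⊓ quadSpace hR a b c d) ⊔
      (quadSpace hR a b c f ⊓ quadSpace hR a b c e) : Submodule K V)
  · have heq := Submodule.eq_of_le_of_finrank_le hle3 (by rw [hQ3 hf4]; exact hbig2)
    refine quad_grow hr hu h2 hfix hQ3 {d, e} hf4 (fun x hx => ?_)
      (by have := Finset.card_le_two (a := d) (b := e); omega) ?_
    · rcases Finset.mem_insert.mp hx with rfl | hx
      · exact (List.nodup_cons.mp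
          (nodup_sub h [3, 0, 1, 2, 5] (by decide) rfl : [x, a, b, c, f].Nodup)).1
      · rw [Finset.mem_singleton.mp hx]
        exact (List.nodup_cons.mp
          (nodup_sub h [4, 0, 1, 2, 5] (by decide) rfl : [e, a, b, c, f].Nodup)).1
    · rw [← heq, Finset.sup_insert, Finset.sup_singleton]
      exact sup_le_sup inf_le_right inf_le_right
  · have h22 : (quadSpace hR a b c f ⊓ quadSpace hR a b c d) ⊓
        (quadSpace hR a b c f ⊓ quadSpace hR a b c e) ≤
        quadSpace hR a b c d ⊓ quadSpace hR a b c e :=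
      le_inf (inf_le_left.trans inf_le_right) (inf_le_right.trans inf_le_right)
    have heq := Submodule.eq_of_le_of_finrank_le h22 (by rw [hi hde]; omega)
    exact hnle (heq ▸ inf_le_left.trans inf_le_left)

theorem quad_many [Nontrivial V] {hR : IsAltRep ρ φ} (hr : 9 ≤ r) (hu : Unsigned hR)
    (h2 : (2 : K) ≠ 0) (hfix : QuadFixing hR) {m : ℕ}
    (hQdim : ∀ {a b c d}, [a, b, c, d].Nodup → Module.finrank K (quadSpace hR a b c d) = 3 * m) :
    3 * m * (r / 4) ≤ Module.finrank K V := by
  let T : ℕ → Submodule K V := fun j => ⨆ (i : ℕ) (_ : i < j) (hi : 4 * i + 3 < r),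
    quadSpace hR ⟨4 * i, by omega⟩ ⟨4 * i + 1, by omega⟩ ⟨4 * i + 2, by omega⟩ ⟨4 * i + 3, hi⟩
  have key : ∀ j, 4 * j ≤ r → 3 * m * j ≤ Module.finrank K (T j) := by
    intro j
    induction j with
    | zero => simp
    | succ j ih =>
      intro hj
      let N := quadSpace hR (⟨4 * j, by omega⟩ : Fin r) ⟨4 * j + 1, by omega⟩
        ⟨4 * j + 2, by omega⟩ ⟨4 * j + 3, by omega⟩
      have hnd : [(⟨4 * j, by omega⟩ : Fin r), ⟨4 * j + 1, by omega⟩, ⟨4 * j + 2, by omega⟩,
          ⟨4 * j + 3, by omega⟩].Nodup := by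
        simp [Fin.ext_iff]
      have hle : T j ≤ quadFix hR (⟨4 * j, by omega⟩ : Fin r) ⟨4 * j + 1, by omega⟩
          ⟨4 * j + 2, by omega⟩ ⟨4 * j + 3, by omega⟩ := by
        refine iSup_le fun i => iSup_le fun hij => iSup_le fun hi => quadSpace_le_fix hfix ?_
        simp only [List.nodup_cons, List.mem_cons, List.not_mem_nil, List.nodup_nil, or_false,
          not_or, Fin.ext_iff, not_false_eq_true, and_true]
        omega
      have h0 : N ⊓ T j = ⊥ :=
        le_bot_iff.mp ((inf_le_inf le_rfl hle).trans (quadSpace_inf_quadFix hR hr hu h2 hnd).le)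
      have hsum := Submodule.finrank_sup_add_finrank_inf_eq N (T j)
      rw [h0, finrank_bot, hQdim hnd] at hsum
      have hsub : N ⊔ T j ≤ T (j + 1) := by
        refine sup_le (le_iSup_of_le j (le_iSup_of_le (by omega) (le_iSup_of_le (by omega) le_rfl)))
          (iSup_le fun i => iSup_le fun hij => iSup_le fun hi =>
            le_iSup_of_le i (le_iSup_of_le (by omega) (le_iSup_of_le hi le_rfl)))
      have := Submodule.finrank_mono hsub
      have := ih (by omega)
      rw [Nat.mul_succ]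
      omega
  exact (key (r / 4) (by omega)).trans (Submodule.finrank_le _)

set_option maxHeartbeats 800000 in
/-- The bound when lifts of three-cycles fix the spaces of disjoint four-groups. -/
theorem bound_of_quad_fixing [Nontrivial V] (hR : IsAltRep ρ φ) (hr : 11 ≤ r) (hu : Unsigned hR)
    (h2 : (2 : K) ≠ 0) (hfix : QuadFixing hR) :
    Bound K r (Module.finrank K V) := by
  have hr9 : 9 ≤ r := by omega
  by_cases hbig : r ≤ Module.finrank K V + 1
  · exact ⟨by omega, fun _ => hbig⟩
  let o : Fin r := ⟨0, by omega⟩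
  let o1 : Fin r := ⟨1, by omega⟩
  let o2 : Fin r := ⟨2, by omega⟩
  let o3 : Fin r := ⟨3, by omega⟩
  have h0123 : [o, o1, o2, o3].Nodup := by simp [o, o1, o2, o3]
  let m := Module.finrank K (weightSpace hR o o1 o2 o3 (-1) (-1))
  have hm0 : 0 < m := (weight_dims hR hr9 hu h2 h0123).2.2.2
  have hQdim : ∀ {a b c d}, [a, b, c, d].Nodup →
      Module.finrank K (quadSpace hR a b c d) = 3 * m := by
    intro a b c d h
    obtain ⟨σ, hσ⟩ := exists_map_fin [o, o1, o2, o3] [a, b, c, d] h0123 h rfl (by simp; omega)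
    simp only [List.map_cons, List.map_nil, List.cons.injEq, and_true] at hσ
    obtain ⟨g, hg⟩ := hR.surj σ
    have e := map_quadSpace hR hr9 g h0123
    rw [hg, hσ.1, hσ.2.1, hσ.2.2.1, hσ.2.2.2] at e
    exact (congrArg (fun S : Submodule K V => Module.finrank K S) e).symm.trans
      ((LinearEquiv.finrank_eq (Submodule.equivMapOfInjective (ρ g) (rho_injective g) _)).symm.trans
        (weight_dims hR hr9 hu h2 h0123).2.2.1)
  by_cases hm : 2 ≤ m
  · have h1 := quad_many hr9 hu h2 hfix hQdim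
    have h4 : 6 * (r / 4) ≤ 3 * m * (r / 4) := Nat.mul_le_mul_right _ (by omega)
    exact ⟨by omega, fun _ => by omega⟩
  have hm1 : m = 1 := by omega
  have hQ3 : ∀ {a b c d}, [a, b, c, d].Nodup → Module.finrank K (quadSpace hR a b c d) = 3 :=
    fun h => by rw [hQdim h, hm1]
  have hi := fun {a b c d e : Fin r} (h : [a, b, c, d, e].Nodup) =>
    quad_inter hr hu h2 hfix hQ3 hbig h
  have hrel := fun {a b c d : Fin r} (h : [a, b, c, d].Nodup) => quadSpace_rel hR hr9 hu h
  let P : Fin r → Fin r → Fin r → Submodule K V := fun a b c =>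
    ⨅ (d : Fin r) (_ : [a, b, c, d].Nodup), quadSpace hR a b c d
  have hP_le : ∀ {a b c d}, [a, b, c, d].Nodup → P a b c ≤ quadSpace hR a b c d :=
    fun {a b c d} h => iInf₂_le (f := fun x (_ : [a, b, c, x].Nodup) => quadSpace hR a b c x) d h
  have hP_eq : ∀ {a b c d e}, [a, b, c, d, e].Nodup →
      P a b c = quadSpace hR a b c d ⊓ quadSpace hR a b c e := by
    intro a b c d e h
    refine le_antisymm (le_inf (hP_le (nodup_sub h [0, 1, 2, 3] (by decide) rfl))
      (hP_le (nodup_sub h [0, 1, 2, 4] (by decide) rfl))) (le_iInf₂ fun f hf => ?_)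
    by_cases hfd : f = d
    · rw [hfd]; exact inf_le_left
    by_cases hfe : f = e
    · rw [hfe]; exact inf_le_right
    refine quad_common hr hu h2 hfix hQ3 hbig
      (nodup_sub (List.nodup_cons.mpr ⟨?_, h⟩ : [f, a, b, c, d, e].Nodup) [1, 2, 3, 4, 5, 0]
        (by decide) rfl)
    simp only [List.nodup_cons, List.mem_cons, List.not_mem_nil, or_false, not_or] at hf ⊢
    exact ⟨Ne.symm hf.1.2.2, Ne.symm hf.2.1.2, Ne.symm hf.2.2.1, hfd, hfe⟩
  have hpick : ∀ {a b c : Fin r}, [a, b, c].Nodup → ∃ d e, [a, b, c, d, e].Nodup :=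
    fun h => IsAltRep.exists_two_more (by omega) h
  have hPdim : ∀ {a b c}, [a, b, c].Nodup → Module.finrank K (P a b c) = 2 := by
    intro a b c h
    obtain ⟨d, e, h5⟩ := hpick h
    rw [hP_eq h5, hi h5]
  let S : PlaneSystem K V r :=
    { P := P
      rot := fun {a b c} h => by
        obtain ⟨d, e, h5⟩ := hpick h
        rw [hP_eq h5, hP_eq (nodup_sub h5 [1, 2, 0, 3, 4] (by decide) rfl :
          [b, c, a, d, e].Nodup)]
        have e1 : ∀ x, [a, b, c, x].Nodup → quadSpace hR b c a x = quadSpace hR a b c x := by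
          intro x hx
          rw [(hrel (nodup_sub hx [1, 0, 2, 3] (by decide) rfl : [b, a, c, x].Nodup)).2.2,
            (hrel hx).2.1]
        rw [e1 d (nodup_sub h5 [0, 1, 2, 3] (by decide) rfl),
          e1 e (nodup_sub h5 [0, 1, 2, 4] (by decide) rfl)]
      swap := fun {a b c} h => by
        obtain ⟨d, e, h5⟩ := hpick h
        rw [hP_eq h5, hP_eq (nodup_sub h5 [0, 2, 1, 3, 4] (by decide) rfl :
            [a, c, b, d, e].Nodup),
          (hrel (nodup_sub h5 [0, 1, 2, 3] (by decide) rfl : [a, b, c, d].Nodup)).2.2,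
          (hrel (nodup_sub h5 [0, 1, 2, 4] (by decide) rfl : [a, b, c, e].Nodup)).2.2]
      move := fun σ => by
        obtain ⟨g, hg⟩ := hR.surj σ
        refine ⟨ρ g, rho_injective g, fun {a b c} h => ?_⟩
        obtain ⟨d, e, h5⟩ := hpick h
        rw [hP_eq h5, hP_eq (h5.map σ.1.injective), Submodule.map_inf _ (rho_injective g),
          map_quadSpace hR hr9 g (nodup_sub h5 [0, 1, 2, 3] (by decide) rfl),
          map_quadSpace hR hr9 g (nodup_sub h5 [0, 1, 2, 4] (by decide) rfl), hg]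
      ne_bot := fun h e => by
        have := hPdim h
        rw [show P _ _ _ = ⊥ from e, finrank_bot] at this
        omega
      disjoint := fun {a b c d e f} h => by
        obtain ⟨x, hx⟩ := exists_notMem_fin [a, b, c, d, e, f] (by simp; omega)
        obtain ⟨y, hy⟩ := exists_notMem_fin [x, a, b, c, d, e, f] (by simp; omega)
        have h8 : [y, x, a, b, c, d, e, f].Nodup :=
          List.nodup_cons.mpr ⟨hy, List.nodup_cons.mpr ⟨hx, h⟩⟩
        rw [← le_bot_iff, ← quadSpace_disjoint hr9 hu h2 hfix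
          (nodup_sub h8 [2, 3, 4, 1, 5, 6, 7, 0] (by decide) rfl : [a, b, c, x, d, e, f, y].Nodup)]
        exact inf_le_inf (hP_le (nodup_sub h8 [2, 3, 4, 1] (by decide) rfl))
          (hP_le (nodup_sub h8 [5, 6, 7, 0] (by decide) rfl)) }
  have hPsub : ∀ {a b c d}, [a, b, c, d].Nodup → P a b d ≤ quadSpace hR a b c d := fun h => by
    rw [← (hrel h).1]
    exact hP_le (nodup_sub h [0, 1, 3, 2] (by decide) rfl)
  refine S.bound (by omega) (fun h => hPdim h) ?_ ?_
  · intro a b c d h h0
    have h3' : [a, b, c].Nodup := nodup_sub h [0, 1, 2] (by decide) rfl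
    have h4' : [a, b, d].Nodup := nodup_sub h [0, 1, 3] (by decide) rfl
    have hsum := Submodule.finrank_sup_add_finrank_inf_eq (P a b c) (P a b d)
    have hle := Submodule.finrank_mono (sup_le (hP_le h) (hPsub h))
    rw [hQ3 h] at hle
    rw [show P a b c ⊓ P a b d = ⊥ from h0, finrank_bot, hPdim h3', hPdim h4'] at hsum
    omega
  · intro a b c d e h hle
    have h4 : [a, b, c, d].Nodup := nodup_sub h [0, 1, 2, 3] (by decide) rfl
    have h5 : [a, b, c, e].Nodup := nodup_sub h [0, 1, 2, 4] (by decide) rfl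
    have hle' : P a b e ≤ P a b c := by
      rw [hP_eq h]
      exact le_inf (hle.trans (sup_le (hP_le h4) (hPsub h4))) (hPsub h5)
    exact S.ne (by omega) (a := a) (b := b) (c := e) (d := c)
      (nodup_sub h [0, 1, 4, 2] (by decide) rfl)
      (Submodule.eq_of_le_of_finrank_le hle'
        (by rw [hPdim (nodup_sub h [0, 1, 2] (by decide) rfl : [a, b, c].Nodup),
              hPdim (nodup_sub h [0, 1, 4] (by decide) rfl : [a, b, e].Nodup)]))

end CfsgAltMinDeg
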