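import Cfsg.Agent.AltMinDeg.CycleBound
import Cfsg.Agent.AltMinDeg.QuadPlanes

/-!
The degree bound in characteristic three.
-/

set_option autoImplicit false
set_option linter.unusedSectionVars false

namespace CfsgAltMinDeg

open Equiv Equiv.Perm

variable {r : ℕ} {K : Type} [Field K] [IsAlgClosed K] {V : Type} [AddCommGroup V] [Module K V]
  [FiniteDimensional K V]
  {H : Type} [Group H] [Finite H] {ρ : H →* Module.End K V}
  {φ : H →* alternatingGroup (Fin r)}

theorem two_ne_zero_of_three (h3 : (3 : K) = 0) : (2 : K) ≠ 0 := fun h =>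
  one_ne_zero (α := K) (by linear_combination h3 - h)

/-- The complement of four points. -/
def restOf (a b c d : Fin r) : Finset (Fin r) := [a, b, c, d].toFinsetᶜ

theorem mem_restOf {a b c d x : Fin r} :
    x ∈ restOf a b c d ↔ x ≠ a ∧ x ≠ b ∧ x ≠ c ∧ x ≠ d := by
  simp [restOf]

theorem card_restOf {a b c d : Fin r} (h : [a, b, c, d].Nodup) :
    (restOf a b c d).card = r - 4 := by
  rw [restOf, Finset.card_compl, Fintype.card_fin, List.toFinset_card_of_nodup h]
  rfl

theorem fix_of_support {σ : Perm (Fin r)} {a b c d : Fin r}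
    (h : σ.support ⊆ restOf a b c d) : σ a = a ∧ σ b = b ∧ σ c = c ∧ σ d = d := by
  refine ⟨?_, ?_, ?_, ?_⟩ <;> by_contra hc <;>
    simpa [mem_restOf] using h (Perm.mem_support.mpr hc)

/-- What a non-scalar action of the group of a large subset says about the degree. -/
theorem part_bound (hR : IsAltRep ρ φ) (h3 : (3 : K) = 0) (s : Finset (Fin r)) (hs : 8 ≤ s.card)
    (hsr : s.card < r) (ih : ∀ k, 9 ≤ k → k < r → Good k) (W : Submodule K V)
    (hW : ∀ h : H, (φ h : Perm (Fin r)).support ⊆ s → ∀ w ∈ W, ρ h w ∈ W)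
    (hns : ∃ h : H, (φ h : Perm (Fin r)).support ⊆ s ∧ ¬ ∃ c : K, ∀ w ∈ W, ρ h w = c • w) :
    7 ≤ Module.finrank K W ∧ (9 ≤ s.card → s.card ≤ Module.finrank K W + 2) := by
  obtain ⟨P, ρ', φ', hR', -⟩ := hR.restrict_subset s (by omega) W hW hns
  refine ⟨?_, fun h9 => ?_⟩
  · by_contra hlt
    exact no_small_five hR' h3 hs (by omega)
  · exact (ih _ h9 hsr K W P ρ' φ' hR'.surj (fun x hx => (hR'.scalar_iff x).mpr
      ⟨1, by rw [MonoidHom.mem_ker.mp hx, one_smul]⟩)).1

/-- Lifts of double transpositions square to one. -/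
theorem unsigned_of_large [Nontrivial V] (hR : IsAltRep ρ φ) (h3 : (3 : K) = 0) (hr : 11 ≤ r)
    (hn : Module.finrank K V + 2 ≤ r) (hn3 : r = 12 → Module.finrank K V + 3 ≤ r)
    (h9 : r = 11 → Module.finrank K V = 9) (ih : ∀ k, 9 ≤ k → k < r → Good k) :
    Unsigned hR := by
  intro a b c d h
  by_contra hA
  have hr9 : 9 ≤ r := by omega
  have h2 := two_ne_zero_of_three h3
  have hdc : [a, b, d, c].Nodup := nodup_sub h [0, 1, 3, 2] (by decide) rfl
  obtain ⟨ε, hε⟩ := quadLift_sq_scalar hR hr9 h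
  obtain ⟨hBB, hε2, hAB⟩ := sign_quad hR hr9 h hε
  obtain rfl : ε = -1 := by
    rcases mul_self_eq_one_iff.mp hε2 with rfl | rfl
    · exact absurd (hε.trans (one_smul K _)) hA
    · rfl
  obtain ⟨i, hi⟩ := IsAlgClosed.exists_pow_nat_eq (-1 : K) two_pos
  rw [pow_two] at hi
  have hi0 : i ≠ 0 := by rintro rfl; simp at hi
  let A := quadLift hR a b c d
  let B := quadLift hR a b d c
  have hAv : ∀ v, A (A v) = -v := fun v => by
    have := LinearMap.congr_fun hε v
    simpa using this
  have hBv : ∀ v, B (B v) = -v := fun v => by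
    have := LinearMap.congr_fun hBB v
    simpa using this
  have hABv : ∀ v, A (B v) = -B (A v) := fun v => by
    have := LinearMap.congr_fun hAB v
    simpa using this
  let E := Module.End.eigenspace A i
  let E' := Module.End.eigenspace A (-i)
  have hBE : ∀ v ∈ E, B v ∈ E' := fun v hv => by
    rw [Module.End.mem_eigenspace_iff] at hv ⊢
    rw [hABv, hv, map_smul, neg_smul]
  have hBE' : ∀ v ∈ E', B v ∈ E := fun v hv => by
    rw [Module.End.mem_eigenspace_iff] at hv ⊢
    rw [hABv, hv, map_smul, neg_smul, neg_neg]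
  have hBinj : Function.Injective B := fun u v huv => by
    have := congrArg B huv
    rw [hBv, hBv] at this
    exact neg_injective this
  have hdim : Module.finrank K E = Module.finrank K E' :=
    le_antisymm
      (LinearMap.finrank_le_finrank_of_injective (f := B.restrict hBE)
        fun u v huv => Subtype.ext (hBinj (congrArg Subtype.val huv)))
      (LinearMap.finrank_le_finrank_of_injective (f := B.restrict hBE')
        fun u v huv => Subtype.ext (hBinj (congrArg Subtype.val huv)))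
  have hsup : E ⊔ E' = ⊤ := by
    refine eq_top_iff.mpr fun v _ => Submodule.mem_sup.mpr ?_
    refine ⟨(2 : K)⁻¹ • (v - i • A v), ?_, (2 : K)⁻¹ • (v + i • A v), ?_, ?_⟩
    · rw [Module.End.mem_eigenspace_iff, map_smul, map_sub, map_smul, hAv, smul_comm i]
      congr 1
      rw [smul_sub, smul_smul, hi]
      module
    · rw [Module.End.mem_eigenspace_iff, map_smul, map_add, map_smul, hAv, smul_comm (-i)]
      congr 1
      rw [smul_add, smul_smul, neg_mul, hi]
      module
    · calc (2 : K)⁻¹ • (v - i • A v) + (2 : K)⁻¹ • (v + i • A v) = ((2 : K)⁻¹ * 2) • v := by module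
        _ = v := by rw [inv_mul_cancel₀ h2, one_smul]
  have hinf : E ⊓ E' = ⊥ := by
    rw [Submodule.eq_bot_iff]
    rintro v ⟨h1, h1'⟩
    rw [SetLike.mem_coe, Module.End.mem_eigenspace_iff] at h1 h1'
    have : (i * 2) • v = 0 := by
      calc (i * 2) • v = i • v - (-i) • v := by module
        _ = 0 := by rw [← h1, ← h1', sub_self]
    exact (smul_eq_zero.mp this).resolve_left (mul_ne_zero hi0 h2)
  have hsum := Submodule.finrank_sup_add_finrank_inf_eq E E'
  rw [hsup, hinf, finrank_top, finrank_bot, ← hdim, add_zero] at hsum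
  have h12 : 12 ≤ r := by
    by_contra hlt
    have := h9 (by omega)
    omega
  have hcomm : ∀ g : H, (φ g : Perm (Fin r)).support ⊆ restOf a b c d →
      Commute (ρ g) A ∧ Commute (ρ g) B := fun g hg => by
    obtain ⟨fa, fb, fc, fd⟩ := fix_of_support hg
    exact ⟨quadLift_commute hR hr9 g h fa fb fc fd, quadLift_commute hR hr9 g hdc fa fb fd fc⟩
  have hinv : ∀ g : H, (φ g : Perm (Fin r)).support ⊆ restOf a b c d →
      ∀ w ∈ E, ρ g w ∈ E := fun g hg w hw => by
    rw [Module.End.mem_eigenspace_iff] at hw ⊢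
    rw [← Module.End.mul_apply, ← (hcomm g hg).1.eq, Module.End.mul_apply, hw, map_smul]
  have hns : ∃ g : H, (φ g : Perm (Fin r)).support ⊆ restOf a b c d ∧
      ¬ ∃ k : K, ∀ w ∈ E, ρ g w = k • w := by
    by_contra hcon
    push Not at hcon
    obtain ⟨e, he⟩ := exists_notMem_fin [a, b, c, d] (by simp; omega)
    obtain ⟨f, hf⟩ := exists_notMem_fin [e, a, b, c, d] (by simp; omega)
    obtain ⟨g, hg⟩ := exists_notMem_fin [f, e, a, b, c, d] (by simp; omega)
    have h7 : [g, f, e, a, b, c, d].Nodup :=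
      List.nodup_cons.mpr ⟨hg, List.nodup_cons.mpr ⟨hf, List.nodup_cons.mpr ⟨he, h⟩⟩⟩
    have hefg : [e, f, g].Nodup := nodup_sub h7 [2, 1, 0] (by decide) rfl
    simp only [List.mem_cons, List.not_mem_nil, or_false, not_or] at he hf hg
    have he' : e ∈ restOf a b c d := mem_restOf.mpr he
    have hf' : f ∈ restOf a b c d := mem_restOf.mpr hf.2
    have hg' : g ∈ restOf a b c d := mem_restOf.mpr hg.2.2
    have hE1 := L_trivial_of_scalars hR hr9 (restOf a b c d) (by rw [card_restOf h]; omega) E hcon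
      hefg he' hf' hg'
    obtain ⟨t, ht, hL⟩ := hR.L_eq_rho hr9 hefg
    have hts : (φ t : Perm (Fin r)).support ⊆ restOf a b c d := by
      intro x hx
      rw [ht, Perm.mem_support] at hx
      by_contra hxs
      exact hx (cyc_apply_other (fun e' => hxs (e' ▸ he')) (fun e' => hxs (e' ▸ hf'))
        (fun e' => hxs (e' ▸ hg')))
    refine hR.L_not_scalar hr9 hefg 1 ?_
    rw [one_smul]
    refine LinearMap.ext fun v => ?_
    have hv : v ∈ E ⊔ E' := hsup ▸ Submodule.mem_top
    obtain ⟨x, hx, y, hy, rfl⟩ := Submodule.mem_sup.mp hv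
    have hy' : hR.L e f g (B y) = B y := hE1 _ (hBE' y hy)
    rw [hL, ← Module.End.mul_apply, (hcomm t hts).2.eq, Module.End.mul_apply] at hy'
    rw [map_add, hE1 x hx, hL, hBinj hy', Module.End.one_apply]
  obtain ⟨h7, hbig⟩ := part_bound hR h3 (restOf a b c d) (by rw [card_restOf h]; omega)
    (by rw [card_restOf h]; omega) ih E hinv hns
  rw [card_restOf h] at hbig
  by_cases h13 : 13 ≤ r
  · have := hbig (by omega)
    omega
  · have := hn3 (by omega)
    omega

theorem weight_of_eigen {A B : Module.End K V} (h2 : (2 : K) ≠ 0) (hBB : B * B = 1)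
    (hAB : A * B = B * A) (s : K) {U : Submodule K V}
    (h1 : Module.End.eigenspace A s ⊓ Module.End.eigenspace B 1 ≤ U)
    (h1' : Module.End.eigenspace A s ⊓ Module.End.eigenspace B (-1) ≤ U) :
    Module.End.eigenspace A s ≤ U := by
  intro v hv
  rw [Module.End.mem_eigenspace_iff] at hv
  have hBv : A (B v) = s • B v := by
    rw [← Module.End.mul_apply, hAB, Module.End.mul_apply, hv, map_smul]
  have hBBv : B (B v) = v := by rw [← Module.End.mul_apply, hBB, Module.End.one_apply]
  have e : v = (2 : K)⁻¹ • (v + B v) + (2 : K)⁻¹ • (v - B v) := by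
    calc v = ((2 : K)⁻¹ * 2) • v := by rw [inv_mul_cancel₀ h2, one_smul]
      _ = _ := by module
  rw [e]
  refine add_mem (h1 ⟨?_, ?_⟩) (h1' ⟨?_, ?_⟩) <;>
    rw [SetLike.mem_coe, Module.End.mem_eigenspace_iff, map_smul]
  · rw [map_add, hv, hBv]; module
  · rw [map_add, hBBv]; module
  · rw [map_sub, hv, hBv]; module
  · rw [map_sub, hBBv]; module

/-- A lift moving a quad space moves its weight space for `(-1, -1)`. -/
theorem moves_weight [Nontrivial V] (hR : IsAltRep ρ φ) (hr : 9 ≤ r) (h2 : (2 : K) ≠ 0)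
    (hu : Unsigned hR) {a b c d e f g : Fin r} (h : [a, b, c, d, e, f, g].Nodup) {v : V}
    (hv : v ∈ quadSpace hR a b c d) (hne : hR.L e f g v ≠ v) :
    ∃ w ∈ weightSpace hR a b c d (-1) (-1), hR.L e f g w ≠ w := by
  by_contra hcon
  push Not at hcon
  have h4 : [a, b, c, d].Nodup := nodup_sub h [0, 1, 2, 3] (by decide) rfl
  have hdc : [a, b, d, c].Nodup := nodup_sub h [0, 1, 3, 2] (by decide) rfl
  have h3' : [a, b, c].Nodup := nodup_sub h [0, 1, 2] (by decide) rfl
  obtain ⟨t, ht, hL⟩ := hR.L_eq_rho hr h3'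
  have hd := h
  simp only [List.nodup_cons, List.mem_cons, List.not_mem_nil, or_false, not_or] at hd
  have hcomm : Commute (ρ t) (hR.L e f g) := by
    refine hR.L_commute hr (nodup_sub h [4, 5, 6] (by decide) rfl) ?_ ?_ ?_ <;> rw [ht]
    · exact cyc_apply_other (Ne.symm hd.1.2.2.2.1) (Ne.symm hd.2.1.2.2.1) (Ne.symm hd.2.2.1.2.1)
    · exact cyc_apply_other (Ne.symm hd.1.2.2.2.2.1) (Ne.symm hd.2.1.2.2.2.1)
        (Ne.symm hd.2.2.1.2.2.1)
    · exact cyc_apply_other (Ne.symm hd.1.2.2.2.2.2) (Ne.symm hd.2.1.2.2.2.2)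
        (Ne.symm hd.2.2.1.2.2.2)
  let U := LinearMap.ker (hR.L e f g - 1)
  obtain ⟨d1, d2, -⟩ := weight_dims hR hr hu h2 h4
  have hinj : Function.Injective (hR.L a b c) := by rw [hL]; exact rho_injective t
  have step : ∀ s s' : K, weightSpace hR a b c d s s' ≤ U →
      Module.finrank K (weightSpace hR a b c d s' (s * s')) =
        Module.finrank K (weightSpace hR a b c d s s') →
      weightSpace hR a b c d s' (s * s') ≤ U := by
    intro s s' hle hdim
    have himg : (weightSpace hR a b c d s s').map (hR.L a b c) =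
        weightSpace hR a b c d s' (s * s') := by
      refine Submodule.eq_of_le_of_finrank_le ?_ ?_
      · rintro _ ⟨u, hu', rfl⟩; exact weight_cycle hR hr hu h4 s s' u hu'
      · rw [hdim]
        exact ((Submodule.equivMapOfInjective _ hinj _).finrank_eq).le
    rw [← himg]
    rintro _ ⟨u, hu', rfl⟩
    have h0 := hle hu'
    simp only [U, LinearMap.mem_ker, LinearMap.sub_apply, Module.End.one_apply, sub_eq_zero] at h0 ⊢
    rw [hL, ← Module.End.mul_apply, ← hcomm.eq, Module.End.mul_apply, h0]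
  have w0 : weightSpace hR a b c d (-1) (-1) ≤ U := fun w hw => by
    simp [U, hcon w hw]
  have w1 : weightSpace hR a b c d (-1) 1 ≤ U := by
    have := step (-1) (-1) w0 (by rw [show (-1 : K) * -1 = 1 by ring]; exact d1)
    rwa [show (-1 : K) * -1 = 1 by ring] at this
  have w2 : weightSpace hR a b c d 1 (-1) ≤ U := by
    have := step (-1) 1 w1 (by rw [show (-1 : K) * 1 = -1 by ring]; exact d2.trans d1.symm)
    rwa [show (-1 : K) * 1 = -1 by ring] at this
  have hAB := unsigned_commute hR hr hu h4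
  have hQ : quadSpace hR a b c d ≤ U := by
    rw [quadSpace, range_sub_eq_eigen h2 (hu h4), range_sub_eq_eigen h2 (hu hdc)]
    refine sup_le (weight_of_eigen h2 (hu hdc) hAB (-1) w1 w0)
      (weight_of_eigen h2 (hu h4) hAB.symm (-1) ?_ ?_)
    · rw [inf_comm]; exact w2
    · rw [inf_comm]; exact w0
  have := hQ hv
  simp only [U, LinearMap.mem_ker, LinearMap.sub_apply, Module.End.one_apply, sub_eq_zero] at this
  exact hne this

theorem weight_invariant [Nontrivial V] (hR : IsAltRep ρ φ) (hr : 9 ≤ r) {a b c d : Fin r}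
    (h : [a, b, c, d].Nodup) (g : H) (hg : (φ g : Perm (Fin r)).support ⊆ restOf a b c d) :
    ∀ w ∈ weightSpace hR a b c d (-1) (-1), ρ g w ∈ weightSpace hR a b c d (-1) (-1) := by
  obtain ⟨fa, fb, fc, fd⟩ := fix_of_support hg
  have h1 := quadLift_commute hR hr g h fa fb fc fd
  have h2 := quadLift_commute hR hr g (nodup_sub h [0, 1, 3, 2] (by decide) rfl :
    [a, b, d, c].Nodup) fa fb fd fc
  intro w hw
  simp only [weightSpace, Submodule.mem_inf, Module.End.mem_eigenspace_iff] at hw ⊢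
  constructor
  · rw [← Module.End.mul_apply, ← h1.eq, Module.End.mul_apply, hw.1, map_smul]
  · rw [← Module.End.mul_apply, ← h2.eq, Module.End.mul_apply, hw.2, map_smul]

set_option maxHeartbeats 400000 in
/-- Seven points: the weight space has dimension at least six. -/
theorem six_le_weight [Nontrivial V] (hR : IsAltRep ρ φ) (h3 : (3 : K) = 0) (hr : 11 ≤ r)
    (hu : Unsigned hR) {a b c d : Fin r} (h : [a, b, c, d].Nodup)
    (hns : ∃ g : H, (φ g : Perm (Fin r)).support ⊆ restOf a b c d ∧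
      ¬ ∃ k : K, ∀ w ∈ weightSpace hR a b c d (-1) (-1), ρ g w = k • w) :
    6 ≤ Module.finrank K (weightSpace hR a b c d (-1) (-1)) := by
  have hr9 : 9 ≤ r := by omega
  obtain ⟨P, ρ', φ', hR', hmem, hker, hcoe⟩ := hR.restrict_subset (restOf a b c d)
    (by rw [card_restOf h]; omega) _ (weight_invariant hR hr9 h) hns
  obtain ⟨f, hf⟩ := exists_avoiding (q := 7) [a, b, c, d] (by simp; omega)
  have hf' : ∀ j, f j ≠ a ∧ f j ≠ b ∧ f j ≠ c ∧ f j ≠ d := fun j => by
    simpa using hf j
  obtain ⟨hab, hbc, hac⟩ : a ≠ b ∧ b ≠ c ∧ a ≠ c := by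
    simp only [List.nodup_cons, List.mem_cons, List.not_mem_nil, or_false, not_or] at h
    exact ⟨h.1.1, h.2.1.1, h.1.2.1⟩
  have h3' : [a, b, c].Nodup := nodup_sub h [0, 1, 2] (by decide) rfl
  let e : Fin 10 ↪ Fin r := ⟨Fin.append f ![a, b, c], by
    rw [Fin.append_injective_iff]
    refine ⟨f.injective, fun i j hij => ?_, fun i j hij => ?_⟩
    · fin_cases i <;> fin_cases j <;> simp_all
    · fin_cases j <;> simp_all⟩
  have e7 : e 7 = a := rfl
  have e8 : e 8 = b := rfl
  have e9 : e 9 = c := rfl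
  have hed : ∀ i, e i ≠ d := by
    simp only [List.nodup_cons, List.mem_cons, List.not_mem_nil, or_false, not_or] at h
    intro i
    refine Fin.addCases (m := 7) (n := 3) (motive := fun i : Fin (7 + 3) => e i ≠ d)
      (fun j => ?_) (fun j => ?_) i
    · show Fin.append f ![a, b, c] (Fin.castAdd 3 j) ≠ d
      rw [Fin.append_left]; exact (hf' j).2.2.2
    · show Fin.append f ![a, b, c] (Fin.natAdd 7 j) ≠ d
      rw [Fin.append_right]
      fin_cases j <;> simp [h.1.2.2, h.2.1.2, h.2.2.1]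
  obtain ⟨hq, hne, hτ, -⟩ := sigma7_facts
  obtain ⟨s7, s8, s9, t7, t8, t9⟩ : sigma7.1 7 = 7 ∧ sigma7.1 8 = 8 ∧ sigma7.1 9 = 9 ∧
      tau7.1 7 = 8 ∧ tau7.1 8 = 7 ∧ tau7.1 9 = 9 := by decide +kernel
  obtain ⟨y, hy⟩ := hR.surj (embA e sigma7)
  obtain ⟨t, ht⟩ := hR.surj (embA e tau7)
  have hys : (φ y : Perm (Fin r)).support ⊆ restOf a b c d := by
    intro x hx
    rw [hy, Perm.mem_support] at hx
    rw [mem_restOf]
    refine ⟨?_, ?_, ?_, ?_⟩ <;> rintro rfl <;> apply hx
    · rw [← e7, embA_apply, s7]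
    · rw [← e8, embA_apply, s8]
    · rw [← e9, embA_apply, s9]
    · exact embA_apply_notMem e _ hed
  have pa : (φ t).1 a = b := by rw [ht, ← e7, embA_apply, t7, e8]
  have pb : (φ t).1 b = a := by rw [ht, ← e8, embA_apply, t8, e7]
  have pc : (φ t).1 c = c := by rw [ht, ← e9, embA_apply, t9]
  have pd : (φ t).1 d = d := by rw [ht]; exact embA_apply_notMem e _ hed
  have hdc : [a, b, d, c].Nodup := nodup_sub h [0, 1, 3, 2] (by decide) rfl
  have flip : ∀ {x z u w : Fin r}, [x, z, u, w].Nodup →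
      quadLift hR z x u w = quadLift hR x z w u := by
    intro x z u w hn
    calc quadLift hR z x u w
        = quadLift hR z x u w * (quadLift hR x z w u * quadLift hR x z w u) := by
          rw [hu (nodup_sub hn [0, 1, 3, 2] (by decide) rfl), mul_one]
      _ = quadLift hR x z w u := by rw [← mul_assoc, quadLift_flip hR hr9 hn, one_mul]
  have hGW : ∀ w ∈ weightSpace hR a b c d (-1) (-1),
      ρ t w ∈ weightSpace hR a b c d (-1) (-1) := by
    have c1 := quadLift_conj hR hr9 t h
    rw [pa, pb, pc, pd, flip h] at c1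
    have c2 := quadLift_conj hR hr9 t hdc
    rw [pa, pb, pc, pd, flip hdc] at c2
    intro w hw
    simp only [weightSpace, Submodule.mem_inf, Module.End.mem_eigenspace_iff] at hw ⊢
    constructor
    · rw [← Module.End.mul_apply, ← c2, Module.End.mul_apply, hw.2, map_smul]
    · rw [← Module.End.mul_apply, ← c1, Module.End.mul_apply, hw.1, map_smul]
  obtain ⟨lam, hlam⟩ := (hR.scalar_iff (y ^ 7)).mp (by rw [map_pow, hy, ← map_pow, hq, map_one])
  have hlam0 : lam ≠ 0 := by
    rintro rfl
    have := end_mul_inv ρ (y ^ 7)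
    rw [hlam, zero_smul, zero_mul] at this
    exact zero_ne_one this
  obtain ⟨μ, hμ⟩ := (hR.scalar_iff (t * y * (y ^ 3 * t)⁻¹)).mp (by
    rw [map_mul, map_mul, map_inv, map_mul, map_pow, ht, hy, ← map_mul, hτ, map_mul, map_pow,
      mul_inv_cancel])
  have hconj : ρ t * ρ y = μ • (ρ y ^ 3 * ρ t) := by
    rw [← map_pow, ← map_mul, ← map_mul, ← inv_mul_cancel_right (t * y) (y ^ 3 * t), map_mul, hμ,
      smul_mul_assoc, one_mul]
  let Y := ρ' ⟨y, hmem y hys⟩
  have hYk : ∀ (k : ℕ) (w : weightSpace hR a b c d (-1) (-1)), ((Y ^ k) w : V) = (ρ y ^ k) w := by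
    intro k w
    rw [← map_pow, ← map_pow, hcoe]
    rfl
  obtain ⟨κ, Z, dd, η, -, -, -, -, -, hd1, -, hsum, -⟩ :=
    cycle_dims h3 (q := 7) (Or.inr rfl) Y ((ρ t).restrict hGW) lam μ hlam0
      (LinearMap.ext fun w => Subtype.ext (by
        rw [hYk, ← map_pow, hlam]; rfl))
      (fun k hk => hne (embA_injective e
        ((hy.symm.trans (hker ⟨y, hmem y hys⟩ ((hR'.scalar_iff _).mpr ⟨k, hk⟩))).trans
          (map_one _).symm)))
      (fun u v huv => Subtype.ext (rho_injective t (congrArg Subtype.val huv)))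
      (LinearMap.ext fun w => Subtype.ext (by
        show ρ t ((Y w : _) : V) = μ • (((Y ^ 3) ((ρ t).restrict hGW w) : _) : V)
        rw [hcoe, hYk, LinearMap.coe_restrict_apply, ← Module.End.mul_apply, hconj]
        rfl))
  have : ∑ j : Fin 7, (if j.val = 0 then 0 else 1) ≤ ∑ j, dd j :=
    Finset.sum_le_sum fun j _ => by
      split_ifs with h0
      · exact Nat.zero_le _
      · exact hd1 j h0
  simp [Fin.sum_univ_seven] at this
  rw [Fin.sum_univ_seven] at hsum
  omega

/-- The degree bound in characteristic three. -/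
theorem bound_char_three (hR : IsAltRep ρ φ) (h3 : (3 : K) = 0) (hr : 9 ≤ r)
    (hpos : 0 < Module.finrank K V) (ih : ∀ k, 9 ≤ k → k < r → Good k) :
    Bound K r (Module.finrank K V) := by
  have : Nontrivial V := Module.nontrivial_of_finrank_pos hpos
  by_contra hb
  have hn := add_two_le_of_not_bound hb
  have hn3 : (r : K) = 0 → Module.finrank K V + 3 ≤ r := fun h0 => by
    by_contra hc
    exact hb ⟨by omega, fun h => absurd h0 h⟩
  by_cases hr9 : r = 9
  · subst hr9
    have := hn3 (by push_cast; linear_combination (3 : K) * h3)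
    exact no_small_five hR h3 (by omega) (by omega)
  by_cases hr10 : r = 10
  · exact no_small_seven hR h3 (by omega) (by omega)
  have h11 : 11 ≤ r := by omega
  have hn12 : r = 12 → Module.finrank K V + 3 ≤ r := fun e => hn3 (by
    subst e; push_cast; linear_combination (4 : K) * h3)
  have hn9 : r = 11 → Module.finrank K V = 9 := fun e => by
    by_contra hne
    exact no_small_seven hR h3 (by omega) (by omega)
  have h2 := two_ne_zero_of_three h3
  have hu : Unsigned hR := unsigned_of_large hR h3 h11 hn hn12 hn9 ih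
  by_cases hfix : QuadFixing hR
  · exact hb (bound_of_quad_fixing hR h11 hu h2 hfix)
  unfold QuadFixing at hfix
  push Not at hfix
  obtain ⟨a, b, c, d, e, f, g, h, v, hv, hne⟩ := hfix
  obtain ⟨w, hw, hwne⟩ := moves_weight hR hr h2 hu h hv hne
  have h4 : [a, b, c, d].Nodup := nodup_sub h [0, 1, 2, 3] (by decide) rfl
  have hns : ∃ x : H, (φ x : Perm (Fin r)).support ⊆ restOf a b c d ∧
      ¬ ∃ k : K, ∀ w ∈ weightSpace hR a b c d (-1) (-1), ρ x w = k • w := by
    by_contra hcon
    push Not at hcon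
    have hd := h
    simp only [List.nodup_cons, List.mem_cons, List.not_mem_nil, or_false, not_or] at hd
    refine hwne (L_trivial_of_scalars hR hr (restOf a b c d) (by rw [card_restOf h4]; omega) _ hcon
      (nodup_sub h [4, 5, 6] (by decide) rfl) ?_ ?_ ?_ w hw) <;> rw [mem_restOf]
    · exact ⟨Ne.symm hd.1.2.2.2.1, Ne.symm hd.2.1.2.2.1, Ne.symm hd.2.2.1.2.1,
        Ne.symm hd.2.2.2.1.1⟩
    · exact ⟨Ne.symm hd.1.2.2.2.2.1, Ne.symm hd.2.1.2.2.2.1, Ne.symm hd.2.2.1.2.2.1,
        Ne.symm hd.2.2.2.1.2.1⟩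
    · exact ⟨Ne.symm hd.1.2.2.2.2.2, Ne.symm hd.2.1.2.2.2.2, Ne.symm hd.2.2.1.2.2.2,
        Ne.symm hd.2.2.2.1.2.2⟩
  have hle := (quadSpace hR a b c d).finrank_le
  rw [(weight_dims hR hr hu h2 h4).2.2.1] at hle
  by_cases hr11 : r = 11
  · have := six_le_weight hR h3 h11 hu h4 hns
    omega
  obtain ⟨h7, hbig⟩ := part_bound hR h3 (restOf a b c d) (by rw [card_restOf h4]; omega)
    (by rw [card_restOf h4]; omega) ih _ (weight_invariant hR hr h4) hns
  rw [card_restOf h4] at hbig
  by_cases h13 : 13 ≤ r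
  · have := hbig (by omega)
    omega
  · omega

end CfsgAltMinDeg
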