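import Mathlib

/-!
Clifford-type relations among quadratic operators force large dimension.
-/

set_option autoImplicit false

namespace CfsgAltMinDeg

variable {K : Type} [Field K] {V : Type} [AddCommGroup V] [Module K V] [FiniteDimensional K V]

/-- Isotropic operators with partners, each anticommuting with all later pairs. -/
def IsotropicPairs : List (Module.End K V × Module.End K V) → Prop
  | [] => True
  | (a, b) :: t => a * a = 0 ∧ (∃ c : K, c ≠ 0 ∧ a * b + b * a = c • 1) ∧
      (∀ p ∈ t, a * p.1 + p.1 * a = 0 ∧ a * p.2 + p.2 * a = 0) ∧ IsotropicPairs t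

theorem two_pow_dvd : ∀ (L : List (Module.End K V × Module.End K V)), IsotropicPairs L →
    ∀ W : Submodule K V, (∀ p ∈ L, (∀ w ∈ W, p.1 w ∈ W) ∧ (∀ w ∈ W, p.2 w ∈ W)) →
      2 ^ L.length ∣ Module.finrank K W := by
  intro L
  induction L with
  | nil => intro _ W _; simp
  | cons p t ih =>
    obtain ⟨a, b⟩ := p
    rintro ⟨haa, ⟨c, hc, hab⟩, hanti, ht⟩ W hW
    obtain ⟨haW, hbW⟩ := hW (a, b) List.mem_cons_self
    let W' : Submodule K V := W ⊓ LinearMap.ker a
    have hW' : ∀ p ∈ t, (∀ w ∈ W', p.1 w ∈ W') ∧ (∀ w ∈ W', p.2 w ∈ W') := by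
      intro p hp
      obtain ⟨h1, h2⟩ := hW p (List.mem_cons_of_mem _ hp)
      obtain ⟨k1, k2⟩ := hanti p hp
      refine ⟨fun w hw => ?_, fun w hw => ?_⟩
      · simp only [W', Submodule.mem_inf, LinearMap.mem_ker] at hw ⊢
        refine ⟨h1 w hw.1, ?_⟩
        have := LinearMap.congr_fun k1 w
        simpa [hw.2] using this
      · simp only [W', Submodule.mem_inf, LinearMap.mem_ker] at hw ⊢
        refine ⟨h2 w hw.1, ?_⟩
        have := LinearMap.congr_fun k2 w
        simpa [hw.2] using this
    have hd := ih ht W' hW'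
    let ar : Module.End K W := a.restrict haW
    have hker : LinearMap.ker ar = LinearMap.range ar := by
      apply le_antisymm
      · rintro ⟨w, hw⟩ hk
        have hk' : a w = 0 := congrArg Subtype.val (LinearMap.mem_ker.mp hk)
        refine ⟨⟨c⁻¹ • b w, W.smul_mem _ (hbW w hw)⟩, Subtype.ext ?_⟩
        show a (c⁻¹ • b w) = w
        have := LinearMap.congr_fun hab w
        simp only [LinearMap.add_apply, Module.End.mul_apply, hk', map_zero, add_zero,
          LinearMap.smul_apply, Module.End.one_apply] at this
        rw [map_smul, this, smul_smul, inv_mul_cancel₀ hc, one_smul]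
      · rintro _ ⟨w, rfl⟩
        exact Subtype.ext (LinearMap.congr_fun haa (w : V))
    have hsum := LinearMap.finrank_range_add_finrank_ker ar
    rw [← hker] at hsum
    have hk : Module.finrank K (LinearMap.ker ar) = Module.finrank K W' := by
      rw [LinearEquiv.finrank_eq (Submodule.equivMapOfInjective W.subtype W.subtype_injective
        (LinearMap.ker ar))]
      rw [show (LinearMap.ker ar).map W.subtype = W' from ?_]
      · ext v
        simp only [W', Submodule.mem_map, LinearMap.mem_ker, Submodule.mem_inf]
        constructor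
        · rintro ⟨w, hw, rfl⟩
          exact ⟨w.2, congrArg Subtype.val hw⟩
        · rintro ⟨hv, hv'⟩
          exact ⟨⟨v, hv⟩, Subtype.ext hv', rfl⟩
    rw [hk] at hsum
    rw [List.length_cons, pow_succ', ← hsum, ← two_mul]
    exact mul_dvd_mul_left 2 hd

theorem sixteen_dvd {a1 b1 a2 b2 a3 b3 a4 b4 : Module.End K V}
    (h : IsotropicPairs [(a1, b1), (a2, b2), (a3, b3), (a4, b4)]) :
    16 ∣ Module.finrank K V := by
  have := two_pow_dvd _ h ⊤ (fun p _ => ⟨fun _ _ => Submodule.mem_top, fun _ _ => Submodule.mem_top⟩)
  simpa using this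

variable {k : ℕ} {g : Fin k → Module.End K V}

/-- The quadratic relations of three-cycles in the spin case. -/
def SpinRel (g : Fin k → Module.End K V) : Prop :=
  (∀ i, g i * g i + g i + 1 = 0) ∧
    ∀ i j, i ≠ j → g i * g j + g j * g i + 1 + g i + g j = 0

/-- The symmetric product of two elements. -/
def ac (x y : Module.End K V) : Module.End K V := x * y + y * x

omit [FiniteDimensional K V] in
theorem ac_gen (h : SpinRel g) (i j : Fin k) :
    ac (g i) (g j) = (if i = j then (-1 : K) else 0) • 1 - 1 - g i - g j := by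
  unfold ac
  by_cases hij : i = j
  · subst hij
    rw [if_pos rfl, neg_one_smul, ← sub_eq_zero]
    calc _ = (g i * g i + g i + 1) + (g i * g i + g i + 1) := by abel
      _ = 0 := by rw [h.1 i, add_zero]
  · rw [if_neg hij, zero_smul, ← sub_eq_zero]
    calc _ = g i * g j + g j * g i + 1 + g i + g j := by abel
      _ = 0 := h.2 i j hij

omit [FiniteDimensional K V] in
theorem ac_root (h : SpinRel g) (i j m l : Fin k) :
    ac (g i - g j) (g m - g l) = (((if i = m then (-1 : K) else 0) - (if i = l then -1 else 0)) -
      ((if j = m then (-1 : K) else 0) - (if j = l then -1 else 0))) • 1 := by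
  have e : ac (g i - g j) (g m - g l) =
      (ac (g i) (g m) - ac (g i) (g l)) - (ac (g j) (g m) - ac (g j) (g l)) := by
    unfold ac
    simp only [sub_mul, mul_sub]
    abel
  rw [e, ac_gen h, ac_gen h, ac_gen h, ac_gen h]
  simp only [sub_smul]
  abel

omit [FiniteDimensional K V] in
theorem root_sq (h : SpinRel g) {i j : Fin k} (hij : i ≠ j) :
    (g i - g j) * (g i - g j) = -1 := by
  rw [← sub_eq_zero]
  calc _ = (g i * g i + g i + 1) + (g j * g j + g j + 1) -
        (g i * g j + g j * g i + 1 + g i + g j) := by
        simp only [sub_mul, mul_sub]; abel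
    _ = 0 := by rw [h.1, h.1, h.2 i j hij]; abel

omit [FiniteDimensional K V] in
theorem ac_add_left (x y z : Module.End K V) : ac (x + y) z = ac x z + ac y z := by
  unfold ac; simp only [add_mul, mul_add]; abel

omit [FiniteDimensional K V] in
theorem ac_add_right (x y z : Module.End K V) : ac x (y + z) = ac x y + ac x z := by
  unfold ac; simp only [add_mul, mul_add]; abel

omit [FiniteDimensional K V] in
theorem ac_smul_left (c : K) (x z : Module.End K V) : ac (c • x) z = c • ac x z := by
  unfold ac; simp only [smul_mul_assoc, mul_smul_comm, smul_add]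

omit [FiniteDimensional K V] in
theorem ac_smul_right (c : K) (x z : Module.End K V) : ac x (c • z) = c • ac x z := by
  unfold ac; simp only [smul_mul_assoc, mul_smul_comm, smul_add]

omit [FiniteDimensional K V] in
theorem ac_comm (x y : Module.End K V) : ac x y = ac y x := by
  unfold ac; abel

omit [FiniteDimensional K V] in
theorem sq_add_smul (x y : Module.End K V) (c : K) :
    (x + c • y) * (x + c • y) = x * x + c • ac x y + (c * c) • (y * y) := by
  unfold ac
  simp only [mul_add, add_mul, smul_mul_assoc, mul_smul_comm, smul_smul, smul_add]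
  abel

omit [FiniteDimensional K V] in
theorem sq_add (x y : Module.End K V) : (x + y) * (x + y) = x * x + ac x y + y * y := by
  simpa using sq_add_smul x y (1 : K)

theorem spin_nine {g : Fin 9 → Module.End K V} (h : SpinRel g) (h3 : (3 : K) ≠ 0) (ω : K)
    (hω : ω * ω + ω + 1 = 0) : 16 ∣ Module.finrank K V := by
  let d : Fin 9 → Fin 9 → Module.End K V := fun i j => g i - g j
  have hac : ∀ i j m l, ac (d i j) (d m l) = _ := fun i j m l => ac_root h i j m l
  have hsq : ∀ i j, i ≠ j → d i j * d i j = -1 := fun i j hij => root_sq h hij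
  let D1 := d 0 3 + d 1 4 + d 2 5
  let D2 := d 3 6 + d 4 7 + d 5 8
  let c := 1 + ω
  let c' := 1 + ω * ω
  refine sixteen_dvd (a1 := d 0 1 + c • d 1 2) (b1 := d 0 1 + c' • d 1 2)
    (a2 := d 3 4 + c • d 4 5) (b2 := d 3 4 + c' • d 4 5)
    (a3 := d 6 7 + c • d 7 8) (b3 := d 6 7 + c' • d 7 8)
    (a4 := D1 + c • D2) (b4 := D1 + c' • D2) ?_
  have hD1 : D1 * D1 = (-3 : K) • 1 := by
    simp (decide := true) only [D1, sq_add, hsq, ne_eq, ac_add_left, hac, if_false, if_true]
    module
  have hD2 : D2 * D2 = (-3 : K) • 1 := by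
    simp (decide := true) only [D2, sq_add, hsq, ne_eq, ac_add_left, hac, if_false, if_true]
    module
  have hω' : ω * ω = -1 - ω := by linear_combination hω
  have base : ∀ x y : Module.End K V, x * x = (-1 : K) • 1 → y * y = (-1 : K) • 1 →
      ac x y = (1 : K) • 1 → (x + c • y) * (x + c • y) = 0 := by
    intro x y hx hy hxy
    rw [sq_add_smul, hx, hy, hxy, smul_smul, smul_smul, ← add_smul, ← add_smul]
    convert zero_smul K (1 : Module.End K V) using 2
    simp only [c]
    linear_combination -hω
  have hroot : ∀ i j, i ≠ j → d i j * d i j = (-1 : K) • 1 := fun i j hij => by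
    rw [hsq i j hij, neg_one_smul]
  refine ⟨base _ _ (hroot _ _ (by decide)) (hroot _ _ (by decide)) ?_, ⟨-3, neg_ne_zero.mpr h3, ?_⟩,
    ?_, base _ _ (hroot _ _ (by decide)) (hroot _ _ (by decide)) ?_, ⟨-3, neg_ne_zero.mpr h3, ?_⟩,
    ?_, base _ _ (hroot _ _ (by decide)) (hroot _ _ (by decide)) ?_, ⟨-3, neg_ne_zero.mpr h3, ?_⟩,
    ?_, ?_, ⟨-9, neg_ne_zero.mpr ?_, ?_⟩, ?_, trivial⟩
  case refine_10 =>
    rw [sq_add_smul, hD1, hD2]
    simp (decide := true) only [D1, D2, ac_add_left, ac_add_right, hac, if_false, if_true]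
    simp only [c]
    match_scalars
    linear_combination -3 * hω
  case refine_11 =>
    rw [show (9 : K) = 3 * 3 by norm_num]
    exact mul_ne_zero h3 h3
  case refine_12 =>
    show ac _ _ = _
    simp (decide := true) only [D1, D2, ac_add_left, ac_add_right, ac_smul_left, ac_smul_right, hac,
      if_false, if_true]
    simp only [c, c']
    match_scalars
    linear_combination (-6 * ω + 3 : K) * hω
  all_goals first
    | (simp (decide := true) only [hac, if_false, if_true]; module)
    | (show ac _ _ = _
       simp (decide := true) only [ac_add_left, ac_add_right, ac_smul_left, ac_smul_right, hac,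
         if_false, if_true]
       simp only [c, c']
       match_scalars
       linear_combination (-2 * ω + 1 : K) * hω)
    | (intro p hp
       simp only [List.mem_cons, List.not_mem_nil, or_false] at hp
       rcases hp with rfl | rfl | rfl <;>
       refine ⟨?_, ?_⟩ <;>
       (show ac _ _ = _
        simp (decide := true) only [D1, D2, ac_add_left, ac_add_right, ac_smul_left, ac_smul_right,
          hac, if_false, if_true]
        module))
    | (intro p hp; exact absurd hp List.not_mem_nil)
    | skip

theorem spin_eight [IsAlgClosed K] {g : Fin 8 → Module.End K V} (h : SpinRel g) (h2 : (2 : K) ≠ 0)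
    (h5 : (5 : K) ≠ 0) : 16 ∣ Module.finrank K V := by
  obtain ⟨c, hc⟩ := IsAlgClosed.exists_pow_nat_eq (-1 : K) (n := 2) (by norm_num)
  obtain ⟨κ, hκ⟩ := IsAlgClosed.exists_pow_nat_eq (-(1 / 5) : K) (n := 2) (by norm_num)
  rw [pow_two] at hc hκ
  have hκ5 : 5 * (κ * κ) = -1 := by rw [hκ]; field_simp
  let d : Fin 8 → Fin 8 → Module.End K V := fun i j => g i - g j
  have hac : ∀ i j m l, ac (d i j) (d m l) = _ := fun i j m l => ac_root h i j m l
  have hsq : ∀ i j, i ≠ j → d i j * d i j = -1 := fun i j hij => root_sq h hij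
  let u := d 0 2 + d 1 3
  let u' := d 4 6 + d 5 7
  let w := d 0 4 + d 1 5 + d 2 6 + d 3 7
  let T := (∑ i, g i) + (4 : K) • 1
  have hTg : ∀ j, ac T (g j) = (-5 : K) • 1 - T := by
    intro j
    have e : ac T (g j) = (∑ i, ac (g i) (g j)) + (8 : K) • g j := by
      simp only [T, ac, add_mul, mul_add, Finset.sum_mul, Finset.mul_sum, Finset.sum_add_distrib,
        smul_mul_assoc, one_mul, mul_smul_comm, mul_one]
      module
    rw [e]
    simp only [ac_gen h, Finset.sum_sub_distrib, Finset.sum_const, Finset.card_univ, Fintype.card_fin,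
      ← Finset.sum_smul, Finset.sum_ite_eq', Finset.mem_univ, if_true, T]
    module
  have hTd : ∀ i j, ac T (d i j) = 0 := by
    intro i j
    have e : ac T (d i j) = ac T (g i) - ac T (g j) := by
      simp only [d, ac, sub_mul, mul_sub]; abel
    rw [e, hTg, hTg, sub_self]
  have hTT : T * T = (-20 : K) • 1 := by
    have e : ac T T = (∑ j, ac T (g j)) + (8 : K) • T := by
      conv_lhs => rw [ac_comm]
      nth_rewrite 1 [show T = (∑ i, g i) + (4 : K) • 1 from rfl]
      simp only [ac, add_mul, mul_add, Finset.sum_mul, Finset.mul_sum, Finset.sum_add_distrib,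
        smul_mul_assoc, one_mul, mul_smul_comm, mul_one]
      module
    simp only [hTg, Finset.sum_sub_distrib, Finset.sum_const, Finset.card_univ, Fintype.card_fin] at e
    have e2 : (2 : K) • (T * T) = (2 : K) • ((-20 : K) • 1) := by
      have : ac T T = (2 : K) • (T * T) := by rw [two_smul]; rfl
      rw [← this, e]
      module
    exact smul_right_injective _ h2 e2
  have hTd' : ∀ i j, ac (d i j) T = 0 := fun i j => by rw [ac_comm, hTd]
  have h4 : (4 : K) ≠ 0 := by
    rw [show (4 : K) = 2 * 2 by norm_num]; exact mul_ne_zero h2 h2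
  refine sixteen_dvd (a1 := d 0 1 + c • d 2 3) (b1 := d 0 1 + (-c) • d 2 3)
    (a2 := d 4 5 + c • d 6 7) (b2 := d 4 5 + (-c) • d 6 7)
    (a3 := u + c • u') (b3 := u + (-c) • u')
    (a4 := w + κ • T) (b4 := w + (-κ) • T) ?_
  refine ⟨?_, ⟨-4, neg_ne_zero.mpr h4, ?_⟩, ?_, ?_, ⟨-4, neg_ne_zero.mpr h4, ?_⟩, ?_, ?_,
    ⟨-8, neg_ne_zero.mpr ?_, ?_⟩, ?_, ?_, ⟨-16, neg_ne_zero.mpr ?_, ?_⟩, ?_, trivial⟩
  case refine_8 => rw [show (8 : K) = 4 * 2 by norm_num]; exact mul_ne_zero h4 h2
  case refine_12 => rw [show (16 : K) = 4 * 4 by norm_num]; exact mul_ne_zero h4 h4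
  case refine_11 =>
    simp (decide := true) only [w, sq_add, hsq, hTT, ne_eq, ac_add_left, ac_add_right,
      ac_smul_left, ac_smul_right, smul_mul_assoc, mul_smul_comm, hac, hTd', if_false, if_true]
    match_scalars
    linear_combination (-4 : K) * hκ5
  case refine_13 =>
    show ac _ _ = _
    simp only [ac_add_left, ac_add_right, ac_smul_left, ac_smul_right, w, hTd, hTd']
    simp (decide := true) only [hac, if_false, if_true]
    have hTT2 : ac T T = (-40 : K) • 1 := by
      show T * T + T * T = _
      rw [hTT]; module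
    rw [hTT2]
    match_scalars
    linear_combination (8 : K) * hκ5
  all_goals first
    | (simp (decide := true) only [u, u', sq_add, hsq, ne_eq, ac_add_left, ac_add_right,
        ac_smul_left, ac_smul_right, smul_mul_assoc, mul_smul_comm, hac, if_false, if_true]
       match_scalars
       linear_combination -hc)
    | (simp (decide := true) only [u, u', sq_add, hsq, ne_eq, ac_add_left, ac_add_right,
        ac_smul_left, ac_smul_right, smul_mul_assoc, mul_smul_comm, hac, if_false, if_true]
       match_scalars
       linear_combination (-2 : K) * hc)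
    | (show ac _ _ = _
       simp (decide := true) only [u, u', ac_add_left, ac_add_right, ac_smul_left, ac_smul_right,
         hac, if_false, if_true]
       match_scalars
       linear_combination (2 : K) * hc)
    | (show ac _ _ = _
       simp (decide := true) only [u, u', ac_add_left, ac_add_right, ac_smul_left, ac_smul_right,
         hac, if_false, if_true]
       match_scalars
       linear_combination (4 : K) * hc)
    | (intro p hp
       simp only [List.mem_cons, List.not_mem_nil, or_false] at hp
       rcases hp with rfl | rfl | rfl <;>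
       refine ⟨?_, ?_⟩ <;>
       (show ac _ _ = _
        simp (decide := true) only [u, u', w, ac_add_left, ac_add_right, ac_smul_left, ac_smul_right,
          hac, hTd', hTd, if_false, if_true]
        module))
    | (intro p hp; exact absurd hp List.not_mem_nil)
    | skip

end CfsgAltMinDeg
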