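import Cfsg.Agent.AltMinDeg.CoprimeBasic
import Cfsg.Agent.AltMinDeg.Planes
import Cfsg.Agent.AltMinDeg.Clifford

/-!
The degree bound away from characteristic three.
-/

set_option autoImplicit false

namespace CfsgAltMinDeg

open Equiv Equiv.Perm

/-- Exchanges the second and third triple, inverting on the way back. -/
def sigma9 : alternatingGroup (Fin 9) :=
  ⟨swap 3 6 * (swap 4 7 * swap 7 5 * swap 5 8), by rw [mem_alternatingGroup]; decide⟩

theorem sigma9_apply : (sigma9 : Perm (Fin 9)) 0 = 0 ∧ (sigma9 : Perm (Fin 9)) 1 = 1 ∧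
    (sigma9 : Perm (Fin 9)) 2 = 2 ∧ (sigma9 : Perm (Fin 9)) 3 = 6 ∧
    (sigma9 : Perm (Fin 9)) 4 = 7 ∧ (sigma9 : Perm (Fin 9)) 5 = 8 ∧
    (sigma9 : Perm (Fin 9)) 6 = 3 ∧ (sigma9 : Perm (Fin 9)) 7 = 5 ∧
    (sigma9 : Perm (Fin 9)) 8 = 4 := by decide

theorem nodup_of_embedding {k r : ℕ} (f : Fin k ↪ Fin r) (l : List (Fin k)) (hl : l.Nodup) :
    (l.map f).Nodup := hl.map f.injective

section

variable {r : ℕ} {K : Type} [Field K] [IsAlgClosed K] {V : Type} [AddCommGroup V] [Module K V]
  [FiniteDimensional K V]
  {H : Type} [Group H] [Finite H] {ρ : H →* Module.End K V}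
  {φ : H →* alternatingGroup (Fin r)}

theorem invariant_eigen (hR : IsAltRep ρ φ) (hr : 9 ≤ r) {a b c : Fin r} (h : [a, b, c].Nodup)
    (x : K) (g : H) (hg : (φ g : Perm (Fin r)).support ⊆ ({a, b, c} : Finset (Fin r))ᶜ) :
    ∀ w ∈ Module.End.eigenspace (hR.L a b c) x, ρ g w ∈ Module.End.eigenspace (hR.L a b c) x := by
  intro w hw
  have hfix : ∀ y ∈ ({a, b, c} : Finset (Fin r)), (φ g).1 y = y := fun y hy => by
    by_contra hne
    exact Finset.mem_compl.mp (hg (Perm.mem_support.mpr hne)) hy
  have hc := hR.L_commute hr (g := g) h (hfix a (by simp)) (hfix b (by simp)) (hfix c (by simp))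
  rw [Module.End.mem_eigenspace_iff] at hw ⊢
  rw [← Module.End.mul_apply, ← hc.eq, Module.End.mul_apply, hw, map_smul]

/-- Some lift of a disjoint three-cycle moves the plane of another. -/
def Moves (hR : IsAltRep ρ φ) : Prop :=
  ∃ a b c d e f : Fin r, [a, b, c, d, e, f].Nodup ∧
    ∃ v ∈ LinearMap.range (hR.L a b c - 1), hR.L d e f v ≠ v

theorem moves_false_or_small (hR : IsAltRep ρ φ) (hirr : Irred ρ) (hr : 9 ≤ r)
    (h3 : (3 : K) ≠ 0) (hb : ¬ Bound K r (Module.finrank K V))
    (ih : 12 ≤ r → Good (r - 3)) (hm : Moves hR) : False := by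
  classical
  have hn := add_two_le_of_not_bound hb
  obtain ⟨ω', hω'⟩ := IsAlgClosed.exists_root
    (Polynomial.X ^ 2 + Polynomial.X + 1 : Polynomial K) (by
      have : (Polynomial.X ^ 2 + Polynomial.X + 1 : Polynomial K).degree = 2 := by
        compute_degree!
      rw [this]; norm_num)
  have hω : ω' * ω' + ω' + 1 = 0 := by simpa [pow_two] using hω'
  clear hω'
  generalize ω' = ω at hω
  obtain ⟨a, b, c, d, e, f, h6, v, hv, hvne⟩ := hm
  obtain ⟨g, hg⟩ := exists_notMem_fin [a, b, c, d, e, f] (by simp; omega)
  obtain ⟨i, hi⟩ := exists_notMem_fin [a, b, c, d, e, f, g] (by simp; omega)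
  obtain ⟨j, hj⟩ := exists_notMem_fin [a, b, c, d, e, f, g, i] (by simp; omega)
  have h9 : [a, b, c, d, e, f, g, i, j].Nodup := by simp at h6 hg hi hj ⊢; grind
  have habc : [a, b, c].Nodup := by simp at h6 ⊢; grind
  have hdef : [d, e, f].Nodup := by simp at h6 ⊢; grind
  have hgij : [g, i, j].Nodup := by simp at hg hi hj ⊢; grind
  -- the operator is not trivial on one eigenspace
  have hW : ∃ w ∈ Module.End.eigenspace (hR.L a b c) ω, hR.L d e f w ≠ w := by
    by_contra hcon
    push Not at hcon
    have h' : [a, c, b, d, e, f].Nodup := by simp at h6 ⊢; grind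
    obtain ⟨σ, hσ⟩ := exists_map_fin [a, b, c, d, e, f] [a, c, b, d, e, f] h6 h' rfl (by simp; omega)
    simp only [List.map_cons, List.map_nil, List.cons.injEq, and_true] at hσ
    obtain ⟨t, ht⟩ := hR.surj σ
    have hcomm := hR.L_commute hr (g := t) hdef (by rw [ht]; exact hσ.2.2.2.1)
      (by rw [ht]; exact hσ.2.2.2.2.1) (by rw [ht]; exact hσ.2.2.2.2.2)
    rw [range_eq_eigen_sup h3 (hR.L_cube hr habc) hω, Submodule.mem_sup] at hv
    obtain ⟨x, hx, y, hy, rfl⟩ := hv
    apply hvne
    rw [map_add, hcon x hx]
    congr 1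
    have hy' : ρ t y ∈ Module.End.eigenspace (hR.L a b c) ω := by
      rw [Module.End.mem_eigenspace_iff] at hy ⊢
      have h1 := map_eigen_L hR hr t habc (ω * ω) hy
      rw [ht, hσ.1, hσ.2.1, hσ.2.2.1] at h1
      have h2 := LinearMap.congr_fun (hR.L_swap hr (a := a) (b := c) (c := b)
        (by simp at habc ⊢; grind)) (ρ t y)
      rw [Module.End.mul_apply, h1, map_smul, Module.End.one_apply] at h2
      calc hR.L a b c (ρ t y) = (ω * (ω * ω)) • hR.L a b c (ρ t y) := by
            rw [show ω * (ω * ω) = ω ^ 3 by ring, omega_cube hω, one_smul]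
        _ = ω • ρ t y := by rw [mul_smul, h2]
    have h1 := hcon _ hy'
    rw [← Module.End.mul_apply, ← hcomm.eq, Module.End.mul_apply] at h1
    exact rho_injective t h1
  have hdims := fun {x y z : Fin r} (h : [x, y, z].Nodup) => dims hR hr h3 hω h
  -- four weights
  let W := Module.End.eigenspace (hR.L a b c) ω
  have hinvW : ∀ {x y z : Fin r}, [a, b, c, x, y, z].Nodup → ∀ w ∈ W, hR.L x y z w ∈ W := by
    intro x y z h w hw
    obtain ⟨t, ht, hLt⟩ := hR.L_eq_rho hr (a := x) (b := y) (c := z) (by simp at h ⊢; grind)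
    rw [hLt]
    refine invariant_eigen hR hr habc ω t ?_ w hw
    intro p hp
    rw [ht, Perm.mem_support] at hp
    simp only [Finset.mem_compl, Finset.mem_insert, Finset.mem_singleton]
    intro hpe
    apply hp
    simp at h
    exact cyc_apply_other (by grind) (by grind) (by grind)
  have hcommyz : Commute (hR.L d e f) (hR.L g i j) := by
    obtain ⟨t, ht, hLt⟩ := hR.L_eq_rho hr hdef
    rw [hLt]
    simp at h9
    refine hR.L_commute hr hgij ?_ ?_ ?_ <;> rw [ht] <;>
      exact cyc_apply_other (by grind) (by grind) (by grind)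
  have hm4 : 4 ≤ Module.finrank K W := by
    obtain ⟨w, hw, hwne⟩ := hW
    let U : Submodule K V := W ⊓ LinearMap.range (hR.L d e f - 1)
    have hU : U ≠ ⊥ := by
      intro h0
      have : (hR.L d e f - 1) w ∈ U :=
        ⟨sub_mem (hinvW h6 w hw) hw, LinearMap.mem_range_self _ _⟩
      rw [h0, Submodule.mem_bot, LinearMap.sub_apply, Module.End.one_apply, sub_eq_zero] at this
      exact hwne this
    have hgij6 : [a, b, c, g, i, j].Nodup := by simp at h9 ⊢; grind
    obtain ⟨v₀, hv₀, hv₀0, hev⟩ := exists_common_eigen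
      ({hR.L d e f, hR.L g i j} : Set (Module.End K V))
      (by
        rintro x (rfl | rfl) y (rfl | rfl)
        exacts [Commute.refl _, hcommyz, hcommyz.symm, Commute.refl _]) U hU (by
        rintro x (rfl | rfl) u ⟨hu1, hu2⟩
        · obtain ⟨u', rfl⟩ := hu2
          refine ⟨hinvW h6 _ hu1, hR.L d e f u', ?_⟩
          simp
        · obtain ⟨u', rfl⟩ := hu2
          refine ⟨hinvW hgij6 _ hu1, hR.L g i j u', ?_⟩
          simp only [LinearMap.sub_apply, Module.End.one_apply, map_sub]
          rw [← Module.End.mul_apply, hcommyz.eq, Module.End.mul_apply])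
    obtain ⟨α, hα⟩ := hev _ (Or.inl rfl)
    obtain ⟨β, hβ⟩ := hev _ (Or.inr rfl)
    have cube_of : ∀ {x y z : Fin r}, [x, y, z].Nodup → ∀ (k : K) (u : V), u ≠ 0 →
        hR.L x y z u = k • u → k ^ 3 = 1 := by
      intro x y z h k u hu hk
      have := LinearMap.congr_fun (hR.L_cube hr h) u
      simp only [pow_succ, pow_zero, one_mul, Module.End.mul_apply, Module.End.one_apply, hk,
        map_smul, smul_smul] at this
      have h1 := smul_left_injective K hu (this.trans (one_smul K u).symm)
      linear_combination h1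
    have hα3 := cube_of hdef α v₀ hv₀0 hα
    have hβ3 := cube_of hgij β v₀ hv₀0 hβ
    have hα1 : α ≠ 1 := by
      rintro rfl
      have : v₀ ∈ LinearMap.range (hR.L d e f - 1) ⊓ LinearMap.ker (hR.L d e f - 1) :=
        ⟨hv₀.2, by simp [hα]⟩
      rw [range_inf_ker_of_cube h3 (hR.L_cube hr hdef), Submodule.mem_bot] at this
      exact hv₀0 this
    let emb : Fin 9 ↪ Fin r := ⟨fun k => [a, b, c, d, e, f, g, i, j][k.val]'(by simp),
      fun k l hkl => Fin.ext ((List.Nodup.getElem_inj_iff h9).mp hkl)⟩
    obtain ⟨t, ht⟩ := hR.surj (embA emb sigma9)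
    have happ : ∀ k : Fin 9, (φ t).1 (emb k) = emb (sigma9.1 k) := fun k => by
      rw [ht, embA_apply]
    obtain ⟨s0, s1, s2, s3, s4, s5, s6, s7, s8⟩ := sigma9_apply
    have pa : (φ t).1 a = a := by have h := happ 0; rw [s0] at h; exact h
    have pb : (φ t).1 b = b := by have h := happ 1; rw [s1] at h; exact h
    have pc : (φ t).1 c = c := by have h := happ 2; rw [s2] at h; exact h
    have pd : (φ t).1 d = g := by have h := happ 3; rw [s3] at h; exact h
    have pe : (φ t).1 e = i := by have h := happ 4; rw [s4] at h; exact h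
    have pf : (φ t).1 f = j := by have h := happ 5; rw [s5] at h; exact h
    have pg : (φ t).1 g = d := by have h := happ 6; rw [s6] at h; exact h
    have pi' : (φ t).1 i = f := by have h := happ 7; rw [s7] at h; exact h
    have pj : (φ t).1 j = e := by have h := happ 8; rw [s8] at h; exact h
    have hsW : ∀ u ∈ W, ρ t u ∈ W := by
      intro u hu
      have hc := hR.L_commute hr (g := t) habc pa pb pc
      simp only [W, Module.End.mem_eigenspace_iff] at hu ⊢
      rw [← Module.End.mul_apply, ← hc.eq, Module.End.mul_apply, hu, map_smul]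
    have step : ∀ (u : V) (p q : K), u ≠ 0 → hR.L d e f u = p • u → hR.L g i j u = q • u →
        hR.L d e f (ρ t u) = q ^ 2 • ρ t u ∧ hR.L g i j (ρ t u) = p • ρ t u := by
      intro u p q hu hp hq
      have h1 := map_eigen_L hR hr t hdef p hp
      rw [pd, pe, pf] at h1
      have h2 := map_eigen_L hR hr t hgij q hq
      rw [pg, pi', pj] at h2
      have h3' := LinearMap.congr_fun (hR.L_swap hr (a := d) (b := f) (c := e)
        (by simp at hdef ⊢; grind)) (ρ t u)
      rw [Module.End.mul_apply, h2, map_smul, Module.End.one_apply] at h3'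
      refine ⟨?_, h1⟩
      calc hR.L d e f (ρ t u) = (q ^ 2 * q) • hR.L d e f (ρ t u) := by
            rw [show q ^ 2 * q = q ^ 3 by ring, cube_of hgij q u hu hq, one_smul]
        _ = q ^ 2 • ρ t u := by rw [mul_smul, h3']
    have hne : ∀ u : V, u ≠ 0 → ρ t u ≠ 0 := fun u hu h0 =>
      hu (rho_injective t (h0.trans (map_zero (ρ t)).symm))
    have k1 := step v₀ α β hv₀0 hα hβ
    have k2 := step _ _ _ (hne _ hv₀0) k1.1 k1.2
    have k3 := step _ _ _ (hne _ (hne _ hv₀0)) k2.1 k2.2
    let vs : Fin 4 → W := ![⟨v₀, hv₀.1⟩, ⟨ρ t v₀, hsW _ hv₀.1⟩,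
      ⟨ρ t (ρ t v₀), hsW _ (hsW _ hv₀.1)⟩,
      ⟨ρ t (ρ t (ρ t v₀)), hsW _ (hsW _ (hsW _ hv₀.1))⟩]
    let ops : Bool → Module.End K W := fun bb =>
      if bb then (hR.L d e f).restrict (hinvW h6) else (hR.L g i j).restrict (hinvW hgij6)
    let χ : Fin 4 → Bool → K := ![fun bb => if bb then α else β,
      fun bb => if bb then β ^ 2 else α, fun bb => if bb then α ^ 2 else β ^ 2,
      fun bb => if bb then (β ^ 2) ^ 2 else α ^ 2]
    have hli : Fintype.card (Fin 4) ≤ Module.finrank K W := by
      refine card_le_finrank_of_weights ops vs χ ?_ ?_ ?_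
      · intro k
        fin_cases k <;> simp [vs, Subtype.ext_iff, hv₀0, hne _ hv₀0, hne _ (hne _ hv₀0),
          hne _ (hne _ (hne _ hv₀0))]
      · have hα2 : α ≠ α ^ 2 := fun h => hα1 (by
          have : α ≠ 0 := by rintro rfl; simp at hα3
          exact (mul_left_cancel₀ this (show α * 1 = α * α by linear_combination h)).symm)
        intro k l hkl
        have ht1 := congrFun hkl true
        have ht2 := congrFun hkl false
        fin_cases k <;> fin_cases l <;> simp [χ] at ht1 ht2 ⊢ <;> exfalso <;> apply hα2
        all_goals subst_vars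
        all_goals first
          | linear_combination ht1
          | linear_combination -ht1
          | linear_combination ht2
          | linear_combination -ht2
          | linear_combination ht1 + ht2
          | linear_combination -ht1 - ht2
          | grind
      · intro k bb
        fin_cases k <;> cases bb <;> apply Subtype.ext <;>
          simp [vs, χ, ops, LinearMap.restrict_apply, hα, hβ, k1.1, k1.2, k2.1, k2.2, k3.1, k3.2]
    simpa using hli
  have hdimV := hdims habc
  have hdimW : Module.finrank K W = Module.finrank K (Module.End.eigenspace (hR.L a b c) ω) := rfl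
  by_cases h12 : 12 ≤ r
  · -- recursion
    let s : Finset (Fin r) := ({a, b, c} : Finset (Fin r))ᶜ
    have hs : s.card = r - 3 := by
      simp at habc
      rw [Finset.card_compl, Fintype.card_fin, Finset.card_insert_of_notMem (by simp; grind),
        Finset.card_pair (by grind)]
    obtain ⟨w, hw, hwne⟩ := hW
    obtain ⟨P, ρ', φ', hR', -⟩ := hR.restrict_subset s (by omega) W
      (fun h hh w hw => invariant_eigen hR hr habc ω h hh w hw) (by
        by_contra hcon
        push Not at hcon
        refine hwne (L_trivial_of_scalars hR hr s (by omega) W hcon hdef ?_ ?_ ?_ w hw) <;>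
          · simp only [s, Finset.mem_compl, Finset.mem_insert, Finset.mem_singleton]
            simp at h6
            grind)
    have hgood := ih h12
    rw [← hs] at hgood
    have := hgood K W P ρ' φ' hR'.surj (fun x hx => (hR'.scalar_iff x).mpr
      ⟨1, by rw [MonoidHom.mem_ker.mp hx, one_smul]⟩)
    have := this.1
    omega
  -- small degree
  by_cases h9' : r = 9
  · omega
  have hC1 : ∀ {x y z : Fin r}, [x, y, z].Nodup →
      Module.finrank K (LinearMap.ker (hR.L x y z - 1)) + 8 ≤ Module.finrank K V := by
    intro x y z h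
    obtain ⟨σ, hσ⟩ := exists_map_fin [a, b, c] [x, y, z] habc h rfl (by simp; omega)
    simp only [List.map_cons, List.map_nil, List.cons.injEq, and_true] at hσ
    obtain ⟨t, ht⟩ := hR.surj σ
    have hle : Module.finrank K (Module.End.eigenspace (hR.L a b c) ω) ≤
        Module.finrank K (Module.End.eigenspace (hR.L x y z) ω) := by
      refine LinearMap.finrank_le_finrank_of_injective (f := (ρ t).restrict
        (p := Module.End.eigenspace (hR.L a b c) ω) (q := Module.End.eigenspace (hR.L x y z) ω)
        (fun u hu => ?_)) (fun u v huv => Subtype.ext (rho_injective t (congrArg Subtype.val huv)))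
      rw [Module.End.mem_eigenspace_iff] at hu ⊢
      have := map_eigen_L hR hr t habc ω hu
      rwa [ht, hσ.1, hσ.2.1, hσ.2.2] at this
    have := hdims h
    omega
  by_cases hC0 : LinearMap.ker (hR.L a b c - 1) = ⊥
  · -- fixed-point-free: Clifford relations
    have hn8 : Module.finrank K V = 8 := by
      have := hdimV.2.2.1
      rw [hC0, finrank_bot] at this
      omega
    have hquad : ∀ {x y z : Fin r}, [x, y, z].Nodup →
        hR.L x y z * hR.L x y z + hR.L x y z + 1 = 0 := by
      intro x y z h
      obtain ⟨σ, hσ⟩ := exists_map_fin [a, b, c] [x, y, z] habc h rfl (by simp; omega)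
      simp only [List.map_cons, List.map_nil, List.cons.injEq, and_true] at hσ
      obtain ⟨t, ht⟩ := hR.surj σ
      have habc0 : hR.L a b c * hR.L a b c + hR.L a b c + 1 = 0 := by
        have hz : (hR.L a b c - 1) * (hR.L a b c * hR.L a b c + hR.L a b c + 1) = 0 := by
          have h3' := hR.L_cube hr habc
          rw [pow_succ, pow_succ, pow_one] at h3'
          calc _ = hR.L a b c * hR.L a b c * hR.L a b c - 1 := by noncomm_ring
            _ = 0 := by rw [h3', sub_self]
        refine LinearMap.ext fun u => LinearMap.ker_eq_bot.mp hC0 ?_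
        rw [← Module.End.mul_apply, hz]
        simp
      have hL : hR.L x y z = ρ t * hR.L a b c * ρ t⁻¹ := by
        rw [hR.L_conj hr t habc, ht, hσ.1, hσ.2.1, hσ.2.2]
      have htt : ρ t⁻¹ * ρ t = 1 := by rw [← map_mul, inv_mul_cancel, map_one]
      have htt' : ρ t * ρ t⁻¹ = 1 := by rw [← map_mul, mul_inv_cancel, map_one]
      calc hR.L x y z * hR.L x y z + hR.L x y z + 1
          = ρ t * hR.L a b c * (ρ t⁻¹ * ρ t) * hR.L a b c * ρ t⁻¹ + ρ t * hR.L a b c * ρ t⁻¹ +
              ρ t * ρ t⁻¹ := by rw [hL, htt']; noncomm_ring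
        _ = ρ t * (hR.L a b c * hR.L a b c + hR.L a b c + 1) * ρ t⁻¹ := by
            rw [htt]; noncomm_ring
        _ = 0 := by rw [habc0]; simp
    let o : Fin r := ⟨0, by omega⟩
    let o' : Fin r := ⟨1, by omega⟩
    have hspin : ∀ x y : Fin r, [o, o', x, y].Nodup →
        hR.L o o' x * hR.L o o' y + hR.L o o' y * hR.L o o' x + 1 + hR.L o o' x + hR.L o o' y = 0 := by
      intro x y h
      have hx : [o, o', x].Nodup := by simp at h ⊢; grind
      have hy : [o, o', y].Nodup := by simp at h ⊢; grind
      obtain ⟨tx, htx, hLx⟩ := hR.L_eq_rho hr hx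
      obtain ⟨ty, hty, hLy⟩ := hR.L_eq_rho hr hy
      simp at h
      have hsq : (cyc o o' x * cyc o o' y) * (cyc o o' x * cyc o o' y) = 1 := by
        apply Subtype.ext
        refine Equiv.ext fun p => ?_
        simp only [Subgroup.coe_mul, Subgroup.coe_one, Perm.mul_apply, Perm.one_apply]
        by_cases h1 : p = o
        · subst h1
          grind [cyc_apply_left, cyc_apply_mid, cyc_apply_right, cyc_apply_other]
        by_cases h2 : p = o'
        · subst h2
          grind [cyc_apply_left, cyc_apply_mid, cyc_apply_right, cyc_apply_other]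
        by_cases h4 : p = x
        · subst h4
          grind [cyc_apply_left, cyc_apply_mid, cyc_apply_right, cyc_apply_other]
        by_cases h5 : p = y
        · subst h5
          grind [cyc_apply_left, cyc_apply_mid, cyc_apply_right, cyc_apply_other]
        grind [cyc_apply_left, cyc_apply_mid, cyc_apply_right, cyc_apply_other]
      obtain ⟨ε, hε⟩ := (hR.scalar_iff (tx * ty * (tx * ty))).mp (by
        rw [map_mul, map_mul, htx, hty, hsq])
      rw [map_mul, map_mul, ← hLx, ← hLy] at hε
      have hA := hquad hx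
      have hB := hquad hy
      generalize hR.L o o' x = A at hLx hε hA ⊢
      generalize hR.L o o' y = B at hLy hε hB ⊢
      have hA3 : A * A * A = 1 := by
        rw [← sub_eq_zero]
        calc A * A * A - 1 = A * (A * A + A + 1) - (A * A + A + 1) := by noncomm_ring
          _ = 0 := by rw [hA]; simp
      have hB3 : B * B * B = 1 := by
        rw [← sub_eq_zero]
        calc B * B * B - 1 = B * (B * B + B + 1) - (B * B + B + 1) := by noncomm_ring
          _ = 0 := by rw [hB]; simp
      have hA2 : A * A = -1 - A := by rw [← sub_eq_zero, ← hA]; abel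
      have hB2 : B * B = -1 - B := by rw [← sub_eq_zero, ← hB]; abel
      have hε' : B * A * (B * A) = ε • 1 := by
        calc B * A * (B * A) = A * A * A * (B * A * (B * A)) := by rw [hA3, one_mul]
          _ = A * A * (A * B * (A * B)) * A := by noncomm_ring
          _ = ε • 1 := by rw [hε, mul_smul_comm, mul_one, smul_mul_assoc, hA3]
      have hAB : A * B = ε • ((1 + B) * (1 + A)) := by
        calc A * B = A * B * A * (B * B * B) * (A * A) := by
              rw [hB3, mul_one]; conv_lhs => rw [← mul_one (A * B), ← hA3]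
              noncomm_ring
          _ = A * B * (A * B) * (B * B * (A * A)) := by noncomm_ring
          _ = ε • ((1 + B) * (1 + A)) := by
              rw [hε, hA2, hB2, smul_mul_assoc, one_mul]; congr 1; noncomm_ring
      have hBA : B * A = ε • ((1 + A) * (1 + B)) := by
        calc B * A = B * A * B * (A * A * A) * (B * B) := by
              rw [hA3, mul_one]; conv_lhs => rw [← mul_one (B * A), ← hB3]
              noncomm_ring
          _ = B * A * (B * A) * (A * A * (B * B)) := by noncomm_ring
          _ = ε • ((1 + A) * (1 + B)) := by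
              rw [hε', hA2, hB2, smul_mul_assoc, one_mul]; congr 1; noncomm_ring
      have hε1 : ε = -1 := by
        by_contra hne
        have hdiff : (1 + ε) • (A * B - B * A) = 0 := by
          have : A * B - B * A = ε • (B * A - A * B) := by
            conv_lhs => rw [hAB, hBA, ← smul_sub]
            congr 1
            noncomm_ring
          rw [add_smul, one_smul, ← sub_neg_eq_add, sub_eq_zero, ← smul_neg, neg_sub]
          exact this
        have hcm : A * B = B * A := sub_eq_zero.mp ((smul_eq_zero.mp hdiff).resolve_left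
          (fun h => hne (eq_neg_of_add_eq_zero_right h)))
        have hρ : ρ (tx * ty) = ρ (ty * tx) := by
          rw [map_mul, map_mul, ← hLx, ← hLy, hcm]
        have hφ : φ (tx * ty * (ty * tx)⁻¹) = 1 := (hR.scalar_iff _).mpr ⟨1, by
          rw [map_mul, hρ, ← map_mul, mul_inv_cancel, map_one, one_smul]⟩
        rw [map_mul, map_inv, mul_inv_eq_one, map_mul, map_mul, htx, hty] at hφ
        have hap := congrArg (fun σ : alternatingGroup (Fin r) => σ.1 o) hφ
        simp only [Subgroup.coe_mul, Perm.mul_apply] at hap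
        grind [cyc_apply_left, cyc_apply_mid, cyc_apply_right, cyc_apply_other]
      rw [hε1, neg_one_smul] at hAB
      calc A * B + B * A + 1 + A + B = -((1 + B) * (1 + A)) + B * A + 1 + A + B := by rw [hAB]
        _ = 0 := by noncomm_ring
    have hnd3 : ∀ (k : ℕ) (hk : k + 2 < r), [o, o', (⟨k + 2, hk⟩ : Fin r)].Nodup := fun k hk => by
      simp only [o, o', List.nodup_cons, List.mem_cons, List.not_mem_nil, List.nodup_nil, or_false,
        not_or, Fin.ext_iff, not_false_eq_true, and_true]
      omega
    have hnd4 : ∀ (k l : ℕ) (hk : k + 2 < r) (hl : l + 2 < r), k ≠ l →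
        [o, o', (⟨k + 2, hk⟩ : Fin r), ⟨l + 2, hl⟩].Nodup := fun k l hk hl hkl => by
      simp only [o, o', List.nodup_cons, List.mem_cons, List.not_mem_nil, List.nodup_nil, or_false,
        not_or, Fin.ext_iff, not_false_eq_true, and_true]
      omega
    have h16 : 16 ∣ Module.finrank K V := by
      rcases (by omega : r = 10 ∨ r = 11) with hr' | hr'
      · have h10 : ((r : ℕ) : K) ≠ 0 := fun h0 => hb ⟨by omega, fun hne => absurd h0 hne⟩
        rw [hr', Nat.cast_ofNat, show (10 : K) = 2 * 5 by norm_num, mul_ne_zero_iff] at h10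
        let g : Fin 8 → Module.End K V := fun k => hR.L o o' ⟨k.val + 2, by omega⟩
        refine spin_eight (g := g) ⟨fun k => hquad (hnd3 k.val (by omega)),
          fun k l hkl => hspin _ _ ?_⟩ h10.1 h10.2
        exact hnd4 k.val l.val (by omega) (by omega) (fun h => hkl (Fin.ext h))
      · let g : Fin 9 → Module.End K V := fun k => hR.L o o' ⟨k.val + 2, by omega⟩
        refine spin_nine (g := g) ⟨fun k => hquad (hnd3 k.val (by omega)),
          fun k l hkl => hspin _ _ ?_⟩ h3 ω hω
        exact hnd4 k.val l.val (by omega) (by omega) (fun h => hkl (Fin.ext h))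
    rw [hn8] at h16
    norm_num at h16
  · -- a common fixed line
    have hle1 : ∀ {x y z : Fin r}, [x, y, z].Nodup →
        Module.finrank K (LinearMap.ker (hR.L x y z - 1)) ≤ 1 := fun h => by
      have := hC1 h; omega
    have hpos : ∀ {x y z : Fin r}, [x, y, z].Nodup →
        1 ≤ Module.finrank K (LinearMap.ker (hR.L x y z - 1)) := by
      intro x y z h
      obtain ⟨σ, hσ⟩ := exists_map_fin [a, b, c] [x, y, z] habc h rfl (by simp; omega)
      simp only [List.map_cons, List.map_nil, List.cons.injEq, and_true] at hσ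
      obtain ⟨t, ht⟩ := hR.surj σ
      obtain ⟨u, hu, hu0⟩ := (Submodule.ne_bot_iff _).mp hC0
      have hu' : ρ t u ∈ LinearMap.ker (hR.L x y z - 1) := by
        simp only [LinearMap.mem_ker, LinearMap.sub_apply, Module.End.one_apply, sub_eq_zero] at hu ⊢
        have := map_eigen_L hR hr t habc 1 (by rw [hu, one_smul])
        rwa [ht, hσ.1, hσ.2.1, hσ.2.2, one_smul] at this
      refine Nat.pos_of_ne_zero ?_
      intro h0
      refine hu0 (rho_injective (ρ := ρ) t ?_)
      rw [Submodule.finrank_eq_zero.mp (h0 : Module.finrank K (LinearMap.ker (hR.L x y z - 1)) = 0),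
        Submodule.mem_bot] at hu'
      rw [hu', map_zero]
    have hdisj : ∀ {x y z x' y' z' : Fin r}, [x, y, z, x', y', z'].Nodup →
        LinearMap.ker (hR.L x y z - 1) = LinearMap.ker (hR.L x' y' z' - 1) := by
      intro x y z x' y' z' h
      have hx : [x, y, z].Nodup := by simp at h ⊢; grind
      have hx' : [x', y', z'].Nodup := by simp at h ⊢; grind
      let C := LinearMap.ker (hR.L x y z - 1)
      obtain ⟨u, huC, hu0⟩ := (Submodule.ne_bot_iff C).mp (fun h0 => by
        have h1 : 1 ≤ Module.finrank K C := hpos hx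
        rw [h0, finrank_bot] at h1; omega)
      have hspan : ∀ w ∈ C, ∃ k : K, w = k • u := by
        intro w hw
        have h1 : Module.finrank K C = 1 := le_antisymm (hle1 hx) (hpos hx)
        obtain ⟨k, hk⟩ := (finrank_eq_one_iff_of_nonzero' (⟨u, huC⟩ : C)
          (fun e => hu0 (congrArg Subtype.val e))).mp h1 ⟨w, hw⟩
        exact ⟨k, (congrArg Subtype.val hk).symm⟩
      let s : Finset (Fin r) := ({x, y, z} : Finset (Fin r))ᶜ
      have hs : 5 ≤ s.card := by
        have := Finset.card_compl ({x, y, z} : Finset (Fin r))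
        have h3' : ({x, y, z} : Finset (Fin r)).card ≤ 3 := Finset.card_le_three
        rw [Fintype.card_fin] at this
        show 5 ≤ ({x, y, z} : Finset (Fin r))ᶜ.card
        omega
      have hsc : ∀ t : H, (φ t : Perm (Fin r)).support ⊆ s → ∃ k : K, ∀ w ∈ C, ρ t w = k • w := by
        intro t ht
        have hinv : ρ t u ∈ C := by
          have hfix : ∀ q ∈ ({x, y, z} : Finset (Fin r)), (φ t).1 q = q := fun q hq => by
            by_contra hne
            exact Finset.mem_compl.mp (ht (Perm.mem_support.mpr hne)) hq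
          have hc := hR.L_commute hr (g := t) hx (hfix x (by simp)) (hfix y (by simp))
            (hfix z (by simp))
          simp only [C, LinearMap.mem_ker, LinearMap.sub_apply, Module.End.one_apply,
            sub_eq_zero] at huC ⊢
          rw [← Module.End.mul_apply, ← hc.eq, Module.End.mul_apply, huC]
        obtain ⟨k, hk⟩ := hspan _ hinv
        refine ⟨k, fun w hw => ?_⟩
        obtain ⟨m, rfl⟩ := hspan w hw
        rw [map_smul, hk, smul_comm]
      have hin : ∀ q ∈ ([x', y', z'] : List (Fin r)), q ∈ s := by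
        intro q hq
        simp at hq h
        show q ∈ ({x, y, z} : Finset (Fin r))ᶜ
        simp only [Finset.mem_compl, Finset.mem_insert, Finset.mem_singleton]
        grind
      have htriv := L_trivial_of_scalars hR hr s hs C hsc hx' (hin x' (by simp)) (hin y' (by simp))
        (hin z' (by simp))
      have hle : C ≤ LinearMap.ker (hR.L x' y' z' - 1) := fun w hw => by
        simp only [LinearMap.mem_ker, LinearMap.sub_apply, Module.End.one_apply, sub_eq_zero]
        exact htriv w hw
      exact Submodule.eq_of_le_of_finrank_le hle ((hle1 hx').trans (hpos hx))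
    have hall : ∀ {x y z : Fin r}, [x, y, z].Nodup →
        LinearMap.ker (hR.L x y z - 1) = LinearMap.ker (hR.L a b c - 1) := by
      intro x y z h
      obtain ⟨p, hp⟩ := exists_notMem_fin [a, b, c, x, y, z] (by simp; omega)
      obtain ⟨q, hq⟩ := exists_notMem_fin [a, b, c, x, y, z, p] (by simp; omega)
      obtain ⟨t, ht⟩ := exists_notMem_fin [a, b, c, x, y, z, p, q] (by simp; omega)
      rw [hdisj (x' := p) (y' := q) (z' := t) (by simp at h hp hq ht ⊢; grind),
        hdisj (x := a) (y := b) (z := c) (x' := p) (y' := q) (z' := t)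
          (by simp at habc hp hq ht ⊢; grind)]
    have hinv : ∀ t, ∀ w ∈ LinearMap.ker (hR.L a b c - 1), ρ t w ∈ LinearMap.ker (hR.L a b c - 1) := by
      intro t w hw
      rw [← hall (habc.map (φ t).1.injective)]
      simp only [LinearMap.mem_ker, LinearMap.sub_apply, Module.End.one_apply, sub_eq_zero] at hw ⊢
      have := map_eigen_L hR hr t habc 1 (by rw [hw, one_smul])
      rwa [one_smul] at this
    rcases hirr _ hinv with h | h
    · exact hC0 h
    · have := hle1 habc
      rw [h, finrank_top] at this
      omega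

end

end CfsgAltMinDeg
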