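import Cfsg.Agent.AltMinDeg.Cycle

/-!
Spectral facts about the canonical lifts of three-cycles away from characteristic three.
-/

set_option autoImplicit false

namespace CfsgAltMinDeg

open Equiv Equiv.Perm
open scoped commutatorElement

variable {r : ℕ} {K : Type} [Field K] {V : Type} [AddCommGroup V] [Module K V]
  {H : Type} [Group H] {ρ : H →* Module.End K V} {φ : H →* alternatingGroup (Fin r)}

theorem omega_cube {ω : K} (hω : ω * ω + ω + 1 = 0) : ω ^ 3 = 1 := by
  linear_combination (ω - 1) * hω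

theorem omega_sq {ω : K} (hω : ω * ω + ω + 1 = 0) : (ω * ω) * (ω * ω) + ω * ω + 1 = 0 := by
  linear_combination (ω * ω - ω + 1) * hω

theorem omega_ne_one (h3 : (3 : K) ≠ 0) {ω : K} (hω : ω * ω + ω + 1 = 0) : ω ≠ 1 := by
  rintro rfl
  exact h3 (by linear_combination hω)

theorem omega_ne_sq (h3 : (3 : K) ≠ 0) {ω : K} (hω : ω * ω + ω + 1 = 0) : ω ≠ ω * ω := by
  intro h
  have h0 : ω ≠ 0 := by rintro rfl; simp at hω
  exact omega_ne_one h3 hω (mul_left_cancel₀ h0 ((mul_one ω).trans h)).symm

theorem range_inf_ker_of_cube {T : Module.End K V} (h3 : (3 : K) ≠ 0) (hT : T ^ 3 = 1) :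
    LinearMap.range (T - 1) ⊓ LinearMap.ker (T - 1) = ⊥ := by
  rw [Submodule.eq_bot_iff]
  rintro _ ⟨⟨v, rfl⟩, hk⟩
  rw [SetLike.mem_coe, LinearMap.mem_ker] at hk
  generalize hw : (T - 1) v = w at hk
  simp only [LinearMap.sub_apply, Module.End.one_apply] at hw hk
  have hv : T v = v + w := by rw [← hw]; abel
  have hTw : T w = w := sub_eq_zero.mp hk
  have h := LinearMap.congr_fun hT v
  simp only [pow_succ, pow_zero, one_mul, Module.End.mul_apply, Module.End.one_apply, hv, map_add,
    hTw] at h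
  have h' : (3 : K) • w = 0 := by
    calc (3 : K) • w = (v + w + w + w) - v := by module
      _ = 0 := by rw [h, sub_self]
  exact (smul_eq_zero.mp h').resolve_left h3

theorem range_eq_eigen_sup {T : Module.End K V} (h3 : (3 : K) ≠ 0) (hT : T ^ 3 = 1) {ω : K}
    (hω : ω * ω + ω + 1 = 0) :
    LinearMap.range (T - 1) = Module.End.eigenspace T ω ⊔ Module.End.eigenspace T (ω * ω) := by
  have key : ∀ x : K, x ≠ 1 → Module.End.eigenspace T x ≤ LinearMap.range (T - 1) := by
    intro x hx v hv
    refine ⟨(x - 1)⁻¹ • v, ?_⟩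
    rw [Module.End.mem_eigenspace_iff] at hv
    rw [map_smul, LinearMap.sub_apply, Module.End.one_apply, hv]
    calc (x - 1)⁻¹ • (x • v - v) = ((x - 1)⁻¹ * (x - 1)) • v := by module
      _ = v := by rw [inv_mul_cancel₀ (sub_ne_zero.mpr hx), one_smul]
  refine le_antisymm ?_ (sup_le (key ω (omega_ne_one h3 hω))
    (key _ (omega_ne_one h3 (omega_sq hω))))
  rintro _ ⟨v, rfl⟩
  generalize hu : (T - 1) v = u
  have hTv : T v = v + u := by
    rw [← hu, LinearMap.sub_apply, Module.End.one_apply]; abel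
  have hq : T (T u) + T u + u = 0 := by
    have h := LinearMap.congr_fun hT v
    simp only [pow_succ, pow_zero, one_mul, Module.End.mul_apply, Module.End.one_apply, hTv,
      map_add] at h
    calc T (T u) + T u + u = (v + u + T u + T (T u)) - v := by abel
      _ = 0 := by rw [h, sub_self]
  have hne : ω - ω * ω ≠ 0 := sub_ne_zero.mpr (omega_ne_sq h3 hω)
  have hTTu : T (T u) = -T u - u := by
    rw [← sub_eq_zero, ← hq]; abel
  refine Submodule.mem_sup.mpr ⟨(ω - ω * ω)⁻¹ • (T u - (ω * ω) • u), ?_,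
    -((ω - ω * ω)⁻¹ • (T u - ω • u)), ?_, ?_⟩
  · rw [Module.End.mem_eigenspace_iff, map_smul, map_sub, map_smul, hTTu, smul_comm ω]
    congr 1
    match_scalars
    · linear_combination -hω
    · linear_combination omega_cube hω
  · rw [Module.End.mem_eigenspace_iff, map_neg, map_smul, map_sub, map_smul, hTTu, smul_neg,
      smul_comm (ω * ω)]
    congr 2
    match_scalars
    · linear_combination -hω
    · linear_combination omega_cube hω
  · calc (ω - ω * ω)⁻¹ • (T u - (ω * ω) • u) + -((ω - ω * ω)⁻¹ • (T u - ω • u))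
        = ((ω - ω * ω)⁻¹ * (ω - ω * ω)) • u := by module
      _ = u := by rw [inv_mul_cancel₀ hne, one_smul]

/-- If everything supported outside a triple acts on an invariant subspace by scalars, the lifts
of three-cycles there act trivially on it. -/
theorem L_trivial_of_scalars (hR : IsAltRep ρ φ) (hr : 9 ≤ r) (s : Finset (Fin r))
    (hs : 5 ≤ s.card) (W : Submodule K V)
    (hsc : ∀ h : H, (φ h : Perm (Fin r)).support ⊆ s → ∃ c : K, ∀ w ∈ W, ρ h w = c • w)
    {d e f : Fin r} (h : [d, e, f].Nodup) (hd : d ∈ s) (he : e ∈ s) (hf : f ∈ s) :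
    ∀ w ∈ W, hR.L d e f w = w := by
  obtain ⟨g, hg⟩ : ∃ g, g ∈ s \ {d, e, f} := by
    apply Finset.Nonempty.exists_mem
    rw [← Finset.card_pos]
    have := Finset.le_card_sdiff {d, e, f} s
    have h3 : ({d, e, f} : Finset (Fin r)).card ≤ 3 := Finset.card_le_three
    omega
  obtain ⟨i, hi⟩ : ∃ i, i ∈ s \ {d, e, f, g} := by
    apply Finset.Nonempty.exists_mem
    rw [← Finset.card_pos]
    have := Finset.le_card_sdiff {d, e, f, g} s
    have h3 : ({d, e, f, g} : Finset (Fin r)).card ≤ 4 := Finset.card_le_four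
    omega
  simp only [Finset.mem_sdiff, Finset.mem_insert, Finset.mem_singleton, not_or] at hg hi
  have h5 : [d, e, f, g, i].Nodup := by simp at h ⊢; grind
  rw [hR.L_eq hr h5]
  have hsupp : ∀ a b c : Fin r, a ∈ s → b ∈ s → c ∈ s →
      (φ (hR.lift (cyc a b c)) : Perm (Fin r)).support ⊆ s := by
    intro a b c ha hb hc x hx
    rw [hR.map_lift, Perm.mem_support] at hx
    by_contra hxs
    exact hx (cyc_apply_other (fun e => hxs (e ▸ ha)) (fun e => hxs (e ▸ hb)) (fun e => hxs (e ▸ hc)))
  intro w hw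
  have h1 : ρ (hR.C5 d e f g i) w = w := by
    let x := hR.lift (cyc d e g)
    let y := hR.lift (cyc d f i)
    have hsx : (φ x : Perm (Fin r)).support ⊆ s := hsupp d e g hd he hg.1
    have hsy : (φ y : Perm (Fin r)).support ⊆ s := hsupp d f i hd hf hi.1
    obtain ⟨cx, hcx⟩ := hsc x hsx
    obtain ⟨cy, hcy⟩ := hsc y hsy
    have hinvsupp : ∀ z : H, (φ z : Perm (Fin r)).support ⊆ s →
        (φ z⁻¹ : Perm (Fin r)).support ⊆ s := fun z hz => by
      rwa [map_inv, Subgroup.coe_inv, Perm.support_inv]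
    obtain ⟨cx', hcx'⟩ := hsc x⁻¹ (hinvsupp x hsx)
    obtain ⟨cy', hcy'⟩ := hsc y⁻¹ (hinvsupp y hsy)
    show ρ ⁅x, y⁆ w = w
    have hx1 : (cx * cx') • w = w := by
      rw [mul_smul, ← hcx' w hw, ← map_smul]
      calc ρ x⁻¹ (cx • w) = ρ x⁻¹ (ρ x w) := by rw [hcx w hw]
        _ = w := by rw [← Module.End.mul_apply, ← map_mul, inv_mul_cancel, map_one, Module.End.one_apply]
    have hy1 : (cy * cy') • w = w := by
      rw [mul_smul, ← hcy' w hw, ← map_smul]
      calc ρ y⁻¹ (cy • w) = ρ y⁻¹ (ρ y w) := by rw [hcy w hw]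
        _ = w := by rw [← Module.End.mul_apply, ← map_mul, inv_mul_cancel, map_one, Module.End.one_apply]
    rw [commutatorElement_def, map_mul, map_mul, map_mul, Module.End.mul_apply, Module.End.mul_apply,
      Module.End.mul_apply, hcy' w hw, hcx' _ (W.smul_mem _ hw),
      hcy _ (W.smul_mem _ (W.smul_mem _ hw)),
      hcx _ (W.smul_mem _ (W.smul_mem _ (W.smul_mem _ hw))), smul_smul, smul_smul, smul_smul,
      show cx * cy * cx' * cy' = (cy * cy') * (cx * cx') by ring, mul_smul, hx1, hy1]
  simp [pow_succ, h1]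

theorem P_swap (hR : IsAltRep ρ φ) (hr : 9 ≤ r) {a b c : Fin r} (h : [a, b, c].Nodup) :
    LinearMap.range (hR.L a c b - 1) = LinearMap.range (hR.L a b c - 1) := by
  have h' : [a, c, b].Nodup := by simp at h ⊢; grind
  have key : ∀ x y : Module.End K V, x * y = 1 → y * x = 1 →
      LinearMap.range (x - 1) ≤ LinearMap.range (y - 1) := by
    rintro x y hxy hyx _ ⟨v, rfl⟩
    refine ⟨-(x v), ?_⟩
    rw [map_neg, LinearMap.sub_apply, ← Module.End.mul_apply, hyx, Module.End.one_apply,
      Module.End.one_apply, LinearMap.sub_apply, Module.End.one_apply, neg_sub]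
  exact le_antisymm (key _ _ (hR.L_swap hr h) (hR.L_swap hr h'))
    (key _ _ (hR.L_swap hr h') (hR.L_swap hr h))

theorem rho_injective (g : H) : Function.Injective (ρ g) := by
  intro u v huv
  have h : ∀ x, ρ g⁻¹ (ρ g x) = x := fun x => by
    rw [← Module.End.mul_apply, ← map_mul, inv_mul_cancel, map_one, Module.End.one_apply]
  rw [← h u, huv, h v]

theorem map_range_L (hR : IsAltRep ρ φ) (hr : 9 ≤ r) (g : H) {a b c : Fin r}
    (h : [a, b, c].Nodup) :
    (LinearMap.range (hR.L a b c - 1)).map (ρ g) =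
      LinearMap.range (hR.L ((φ g).1 a) ((φ g).1 b) ((φ g).1 c) - 1) := by
  have hm := hR.L_move hr g h
  apply le_antisymm
  · rintro _ ⟨_, ⟨v, rfl⟩, rfl⟩
    refine ⟨ρ g v, ?_⟩
    have := LinearMap.congr_fun hm v
    simp only [Module.End.mul_apply] at this
    simp [this]
  · rintro _ ⟨v, rfl⟩
    have hgg : ρ g (ρ g⁻¹ v) = v := by
      rw [← Module.End.mul_apply, ← map_mul, mul_inv_cancel, map_one, Module.End.one_apply]
    refine ⟨_, ⟨ρ g⁻¹ v, rfl⟩, ?_⟩
    have := LinearMap.congr_fun hm (ρ g⁻¹ v)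
    simp only [Module.End.mul_apply, hgg] at this
    simp [this, hgg]

theorem map_eigen_L (hR : IsAltRep ρ φ) (hr : 9 ≤ r) (g : H) {a b c : Fin r}
    (h : [a, b, c].Nodup) (x : K) {v : V} (hv : hR.L a b c v = x • v) :
    hR.L ((φ g).1 a) ((φ g).1 b) ((φ g).1 c) (ρ g v) = x • ρ g v := by
  rw [← Module.End.mul_apply, ← hR.L_move hr g h, Module.End.mul_apply, hv, map_smul]

variable [FiniteDimensional K V]

/-- Dimensions of the eigenspaces of a lifted three-cycle. -/
theorem dims (hR : IsAltRep ρ φ) (hr : 9 ≤ r) (h3 : (3 : K) ≠ 0) {ω : K}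
    (hω : ω * ω + ω + 1 = 0) {a b c : Fin r} (h : [a, b, c].Nodup) :
    Module.finrank K (Module.End.eigenspace (hR.L a b c) (ω * ω)) =
        Module.finrank K (Module.End.eigenspace (hR.L a b c) ω) ∧
      Module.finrank K (LinearMap.range (hR.L a b c - 1)) =
        2 * Module.finrank K (Module.End.eigenspace (hR.L a b c) ω) ∧
      Module.finrank K (LinearMap.ker (hR.L a b c - 1)) +
        2 * Module.finrank K (Module.End.eigenspace (hR.L a b c) ω) = Module.finrank K V ∧
      0 < Module.finrank K (Module.End.eigenspace (hR.L a b c) ω) := by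
  have h' : [a, c, b].Nodup := by simp at h ⊢; grind
  obtain ⟨σ, hσ⟩ := exists_map_fin [a, b, c] [a, c, b] h h' rfl (by simp; omega)
  simp only [List.map_cons, List.map_nil, List.cons.injEq, and_true] at hσ
  obtain ⟨g, hg⟩ := hR.surj σ
  have key : ∀ x y : K, x * y = 1 →
      Module.finrank K (Module.End.eigenspace (hR.L a b c) x) ≤
        Module.finrank K (Module.End.eigenspace (hR.L a b c) y) := by
    intro x y hxy
    have hmap : ∀ v ∈ Module.End.eigenspace (hR.L a b c) x,
        ρ g v ∈ Module.End.eigenspace (hR.L a b c) y := by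
      intro v hv
      rw [Module.End.mem_eigenspace_iff] at hv ⊢
      have h1 := map_eigen_L hR hr g h x hv
      rw [hg, hσ.1, hσ.2.1, hσ.2.2] at h1
      have h2 := LinearMap.congr_fun (hR.L_swap hr h') (ρ g v)
      rw [Module.End.mul_apply, h1, map_smul, Module.End.one_apply] at h2
      calc hR.L a b c (ρ g v) = (y * x) • hR.L a b c (ρ g v) := by rw [mul_comm y, hxy, one_smul]
        _ = y • ρ g v := by rw [mul_smul, h2]
    exact LinearMap.finrank_le_finrank_of_injective (f := (ρ g).restrict hmap)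
      (fun u v huv => Subtype.ext (rho_injective g (congrArg Subtype.val huv)))
  have hc3 := omega_cube hω
  have heq : Module.finrank K (Module.End.eigenspace (hR.L a b c) (ω * ω)) =
      Module.finrank K (Module.End.eigenspace (hR.L a b c) ω) :=
    le_antisymm (key _ _ (by rw [← hc3]; ring)) (key _ _ (by rw [← hc3]; ring))
  have hrange : Module.finrank K (LinearMap.range (hR.L a b c - 1)) =
      2 * Module.finrank K (Module.End.eigenspace (hR.L a b c) ω) := by
    rw [range_eq_eigen_sup h3 (hR.L_cube hr h) hω]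
    have hdisj : Module.End.eigenspace (hR.L a b c) ω ⊓
        Module.End.eigenspace (hR.L a b c) (ω * ω) = ⊥ := by
      rw [Submodule.eq_bot_iff]
      rintro v ⟨h1, h2⟩
      rw [SetLike.mem_coe, Module.End.mem_eigenspace_iff] at h1 h2
      have : (ω - ω * ω) • v = 0 := by rw [sub_smul, ← h1, ← h2, sub_self]
      exact (smul_eq_zero.mp this).resolve_left (sub_ne_zero.mpr (omega_ne_sq h3 hω))
    have := Submodule.finrank_sup_add_finrank_inf_eq (Module.End.eigenspace (hR.L a b c) ω)
      (Module.End.eigenspace (hR.L a b c) (ω * ω))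
    rw [hdisj, finrank_bot, heq] at this
    omega
  have hsum := LinearMap.finrank_range_add_finrank_ker (hR.L a b c - 1)
  refine ⟨heq, hrange, by omega, Nat.pos_of_ne_zero fun h0 => ?_⟩
  rw [h0, mul_zero] at hrange
  have := LinearMap.range_eq_bot.mp (Submodule.finrank_eq_zero.mp hrange)
  exact hR.L_not_scalar hr h 1 (by rw [sub_eq_zero.mp this, one_smul])

end CfsgAltMinDeg
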