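import Cfsg.Agent.AltMinDeg.CoprimeBasic
import Cfsg.Agent.AltMinDeg.Planes

/-!
Away from characteristic three: lifts of three-cycles fixing the planes of disjoint ones.
-/

set_option autoImplicit false

namespace CfsgAltMinDeg

open Equiv Equiv.Perm

variable {r : ℕ} {K : Type} [Field K] {V : Type} [AddCommGroup V] [Module K V]
  [FiniteDimensional K V]
  {H : Type} [Group H] {ρ : H →* Module.End K V} {φ : H →* alternatingGroup (Fin r)}

set_option maxHeartbeats 1000000 in
/-- The bound when lifts of three-cycles fix the images of disjoint ones. -/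
theorem bound_of_fixing (hR : IsAltRep ρ φ) (hr : 9 ≤ r) (h3 : (3 : K) ≠ 0) {ω : K}
    (hω : ω * ω + ω + 1 = 0)
    (hfix : ∀ {a b c d e f : Fin r}, [a, b, c, d, e, f].Nodup →
      ∀ v ∈ LinearMap.range (hR.L a b c - 1), hR.L d e f v = v) :
    Bound K r (Module.finrank K V) := by
  classical
  let P : Fin r → Fin r → Fin r → Submodule K V := fun a b c => LinearMap.range (hR.L a b c - 1)
  have hPk : ∀ {a b c}, [a, b, c].Nodup → P a b c ⊓ LinearMap.ker (hR.L a b c - 1) = ⊥ :=
    fun h => range_inf_ker_of_cube h3 (hR.L_cube hr h)
  have hfixle : ∀ {a b c d e f : Fin r}, [a, b, c, d, e, f].Nodup →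
      P a b c ≤ LinearMap.ker (hR.L d e f - 1) := fun h v hv => by
    simp [hfix h v hv]
  let o : Fin r := ⟨0, by omega⟩
  let o' : Fin r := ⟨1, by omega⟩
  let o'' : Fin r := ⟨2, by omega⟩
  have h012 : [o, o', o''].Nodup := by simp [o, o', o'']
  let m := Module.finrank K (Module.End.eigenspace (hR.L o o' o'') ω)
  have hmdim : ∀ {a b c}, [a, b, c].Nodup → Module.finrank K (P a b c) = 2 * m := by
    intro a b c h
    obtain ⟨σ, hσ⟩ := exists_map_fin [o, o', o''] [a, b, c] h012 h rfl (by simp; omega)
    simp only [List.map_cons, List.map_nil, List.cons.injEq, and_true] at hσ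
    obtain ⟨g, hg⟩ := hR.surj σ
    have e := map_range_L hR hr g h012
    rw [hg, hσ.1, hσ.2.1, hσ.2.2] at e
    show Module.finrank K (LinearMap.range _) = _
    exact (congrArg (fun S : Submodule K V => Module.finrank K S) e).symm.trans
      ((LinearEquiv.finrank_eq (Submodule.equivMapOfInjective (ρ g) (rho_injective g) _)).symm.trans
        (dims hR hr h3 hω h012).2.1)
  have hm0 : 0 < m := (dims hR hr h3 hω h012).2.2.2
  by_cases hm : 2 ≤ m
  · -- many independent images
    let T : ℕ → Submodule K V := fun j => ⨆ (i : ℕ) (_ : i < j) (hi : 3 * i + 2 < r),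
      P ⟨3 * i, by omega⟩ ⟨3 * i + 1, by omega⟩ ⟨3 * i + 2, hi⟩
    have key : ∀ j, 3 * j ≤ r → 2 * m * j ≤ Module.finrank K (T j) := by
      intro j
      induction j with
      | zero => simp
      | succ j ih =>
        intro hj
        let N := P ⟨3 * j, by omega⟩ ⟨3 * j + 1, by omega⟩ ⟨3 * j + 2, by omega⟩
        have hnd : [(⟨3 * j, by omega⟩ : Fin r), ⟨3 * j + 1, by omega⟩, ⟨3 * j + 2, by omega⟩].Nodup := by
          simp [Fin.ext_iff]
        have hle : T j ≤ LinearMap.ker
            (hR.L ⟨3 * j, by omega⟩ ⟨3 * j + 1, by omega⟩ ⟨3 * j + 2, by omega⟩ - 1) := by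
          refine iSup_le fun i => iSup_le fun hij => iSup_le fun hi => hfixle ?_
          simp only [List.nodup_cons, List.mem_cons, List.not_mem_nil, List.nodup_nil, or_false,
            not_or, Fin.ext_iff, not_false_eq_true, and_true]
          omega
        have h0 : N ⊓ T j = ⊥ := le_bot_iff.mp ((inf_le_inf le_rfl hle).trans (hPk hnd).le)
        have hsum := Submodule.finrank_sup_add_finrank_inf_eq N (T j)
        rw [h0, finrank_bot, hmdim hnd] at hsum
        have hsub : N ⊔ T j ≤ T (j + 1) := by
          refine sup_le (le_iSup_of_le j (le_iSup_of_le (by omega) (le_iSup_of_le (by omega) le_rfl)))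
            (iSup_le fun i => iSup_le fun hij => iSup_le fun hi =>
              le_iSup_of_le i (le_iSup_of_le (by omega) (le_iSup_of_le hi le_rfl)))
        have := Submodule.finrank_mono hsub
        have := ih (by omega)
        rw [Nat.mul_succ]
        omega
    have h1 := key (r / 3) (by omega)
    have h2 := (T (r / 3)).finrank_le
    have h4 : 4 * (r / 3) ≤ 2 * m * (r / 3) := Nat.mul_le_mul_right _ (by omega)
    exact ⟨by omega, fun _ => by omega⟩
  have hm1 : m = 1 := by omega
  by_cases hbig : r ≤ Module.finrank K V + 1
  · exact ⟨by omega, fun _ => hbig⟩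
  let S : PlaneSystem K V r :=
    { P := P
      rot := fun h => by show LinearMap.range _ = LinearMap.range _; rw [hR.L_rot hr h]
      swap := fun h => P_swap hR hr h
      move := fun σ => by
        obtain ⟨g, hg⟩ := hR.surj σ
        refine ⟨ρ g, rho_injective g, fun {a b c} h => ?_⟩
        have := map_range_L hR hr g h
        rwa [hg] at this
      ne_bot := fun h e => by
        have := hmdim h
        rw [show P _ _ _ = ⊥ from e, finrank_bot, hm1] at this
        omega
      disjoint := fun {a b c d e f} h => le_bot_iff.mp (by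
        have h' : [d, e, f, a, b, c].Nodup := by simp at h ⊢; grind
        exact (inf_le_inf le_rfl (hfixle h')).trans (hPk (by simp at h ⊢; grind)).le) }
  have hdim : ∀ {a b c}, [a, b, c].Nodup → Module.finrank K (S.P a b c) = 2 := fun h => by
    show Module.finrank K (P _ _ _) = 2
    rw [hmdim h, hm1]
  -- adding a point outside enlarges the span
  have grow : ∀ (a b i : Fin r) (U : Finset (Fin r)), a ≠ b → i ≠ a → i ≠ b → i ∉ U → a ∉ U →
      b ∉ U → U.card + 5 ≤ r → ¬ P a b i ≤ U.sup (fun x => P a b x) := by
    intro a b i U hab hia hib hiU haU hbU hU hle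
    obtain ⟨j, hj⟩ := exists_notMem_fin ([a, b, i] ++ U.toList) (by simp; omega)
    obtain ⟨k, hk⟩ := exists_notMem_fin ([a, b, i, j] ++ U.toList) (by simp; omega)
    simp only [List.mem_append, List.mem_cons, List.not_mem_nil, or_false, not_or,
      Finset.mem_toList] at hj hk
    obtain ⟨⟨hja, hjb, hji⟩, hjU⟩ := hj
    obtain ⟨⟨hka, hkb, hki, hkj⟩, hkU⟩ := hk
    have hijk : [i, j, k].Nodup := by simp; grind
    have hfixU : U.sup (fun x => P a b x) ≤ LinearMap.ker (hR.L i j k - 1) := by
      refine Finset.sup_le fun x hx => hfixle ?_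
      have : x ≠ a := fun e => haU (e ▸ hx)
      have : x ≠ b := fun e => hbU (e ▸ hx)
      have : x ≠ i := fun e => hiU (e ▸ hx)
      have : x ≠ j := fun e => hjU (e ▸ hx)
      have : x ≠ k := fun e => hkU (e ▸ hx)
      simp; grind
    obtain ⟨g, hg, hLg⟩ := hR.L_eq_rho hr hijk
    have hnd : [a, b, i].Nodup := by simp; grind
    have e := map_range_L hR hr g hnd
    rw [hg, cyc_apply_other (Ne.symm hia) (Ne.symm hja) (Ne.symm hka),
      cyc_apply_other (Ne.symm hib) (Ne.symm hjb) (Ne.symm hkb),
      cyc_apply_left (Ne.symm hji) (Ne.symm hkj) (Ne.symm hki)] at e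
    have hsame : (LinearMap.range (hR.L a b i - 1)).map (ρ g) = LinearMap.range (hR.L a b i - 1) := by
      have hid : ∀ v ∈ LinearMap.range (hR.L a b i - 1), ρ g v = v := fun v hv => by
        have := hfixU (hle hv)
        rw [LinearMap.mem_ker, LinearMap.sub_apply, Module.End.one_apply, sub_eq_zero, hLg] at this
        exact this
      ext v
      constructor
      · rintro ⟨u, hu, rfl⟩; rw [hid u hu]; exact hu
      · intro hv; exact ⟨v, hv, hid v hv⟩
    rw [hsame] at e
    exact S.ne (by omega) (a := a) (b := b) (c := i) (d := j) (by simp; grind) e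
  have hinter : ∀ {a b c d}, [a, b, c, d].Nodup → S.P a b c ⊓ S.P a b d ≠ ⊥ := by
    intro a b c d h h0
    obtain ⟨t1, ht1⟩ := exists_notMem_fin [a, b, c, d] (by simp; omega)
    obtain ⟨t2, ht2⟩ := exists_notMem_fin [a, b, c, d, t1] (by simp; omega)
    obtain ⟨t3, ht3⟩ := exists_notMem_fin [a, b, c, d, t1, t2] (by simp; omega)
    have h7 : [a, b, c, d, t1, t2, t3].Nodup := by simp at h ht1 ht2 ht3 ⊢; grind
    let R : Finset (Fin r) := ([a, b, c, d, t1, t2, t3].toFinset)ᶜ
    have hR' : R.card = r - 7 := by
      simp only [R, Finset.card_compl, Fintype.card_fin, List.toFinset_card_of_nodup h7]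
      rfl
    simp at h
    have key : ∀ U ⊆ R, 4 + U.card ≤
        Module.finrank K ((insert c (insert d U)).sup (fun x => P a b x) : Submodule K V) := by
      intro U
      induction U using Finset.induction_on with
      | empty =>
        intro _
        have := Submodule.finrank_sup_add_finrank_inf_eq (P a b c) (P a b d)
        rw [show P a b c ⊓ P a b d = ⊥ from h0, finrank_bot, hmdim (by simp; grind),
          hmdim (by simp; grind), hm1] at this
        have hs : (insert c (insert d (∅ : Finset (Fin r)))).sup (fun x => P a b x) =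
            P a b c ⊔ P a b d := by simp
        rw [hs, Finset.card_empty]
        omega
      | @insert i U hiU ih =>
        intro hsub
        have hiR := hsub (Finset.mem_insert_self i U)
        have hU := ih (fun x hx => hsub (Finset.mem_insert_of_mem hx))
        simp [R] at hiR
        have hUR : U.card + 1 ≤ R.card := by
          rw [← Finset.card_insert_of_notMem hiU]; exact Finset.card_le_card hsub
        have hnotin : ∀ x, x ∈ [a, b] → x ∉ U := fun x hx hxU => by
          have := hsub (Finset.mem_insert_of_mem hxU)
          simp [R] at this hx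
          grind
        have hg := grow a b i (insert c (insert d U)) (by grind) (by grind) (by grind)
          (by simp; grind) (by simp; have := hnotin a (by simp); grind)
          (by simp; have := hnotin b (by simp); grind) (by
            have := Finset.card_insert_le c (insert d U)
            have := Finset.card_insert_le d U
            omega)
        have hperm : (insert c (insert d (insert i U))).sup (fun x => P a b x) =
            P a b i ⊔ (insert c (insert d U)).sup (fun x => P a b x) := by
          simp only [Finset.sup_insert]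
          ac_rfl
        rw [hperm, Finset.card_insert_of_notMem hiU]
        have hlt : (insert c (insert d U)).sup (fun x => P a b x) <
            P a b i ⊔ (insert c (insert d U)).sup (fun x => P a b x) :=
          right_lt_sup.mpr hg
        have := Submodule.finrank_lt_finrank_of_lt hlt
        omega
    have h1 := key R subset_rfl
    have hW : (insert c (insert d R)).sup (fun x => P a b x) ≤
        LinearMap.ker (hR.L t1 t2 t3 - 1) := by
      refine Finset.sup_le fun x hx => hfixle ?_
      simp [R] at hx
      simp at h7 ⊢
      grind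
    have h123 : [t1, t2, t3].Nodup := by simp at h7 ⊢; grind
    have h2 := Submodule.finrank_mono hW
    have h3' := LinearMap.finrank_range_add_finrank_ker (hR.L t1 t2 t3 - 1)
    have h4 : Module.finrank K (LinearMap.range (hR.L t1 t2 t3 - 1)) = 2 := hdim h123
    omega
  have hcop : ∀ {a b c d e}, [a, b, c, d, e].Nodup →
      ¬ S.P a b e ≤ S.P a b c ⊔ S.P a b d := by
    intro a b c d e h
    simp at h
    have := grow a b e {c, d} (by grind) (by grind) (by grind) (by simp; grind) (by simp; grind)
      (by simp; grind) (by rw [Finset.card_pair (by grind)]; omega)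
    simpa using this
  exact S.bound (by omega) hdim hinter hcop

end CfsgAltMinDeg
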