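import Cfsg.Agent.AltMinDeg.Setup

/-!
Cycles of length five and seven in characteristic three.
-/

set_option autoImplicit false

namespace CfsgAltMinDeg

open Equiv Equiv.Perm

section Linear

variable {K : Type} [Field K] [IsAlgClosed K] {W : Type} [AddCommGroup W] [Module K W]
  [FiniteDimensional K W]

/-- An operator of prime order whose powers are conjugate: the eigenspace dimensions. -/
theorem scaled_cycle (q s : ℕ) (hqp : q.Prime) (hq2 : Odd q) (hqK : (q : K) ≠ 0)
    (hs : (3 * s) % q = 1) (horb : ∀ j : Fin q, j.val ≠ 0 → ∃ i : Fin q, s ^ i.val % q = j.val)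
    (Y G : Module.End K W) (lam μ : K) (hlam : lam ≠ 0) (hY : Y ^ q = lam • 1)
    (hns : ∀ c : K, Y ≠ c • 1) (hG : Function.Injective G) (hconj : G * Y = μ • (Y ^ 3 * G)) :
    ∃ (κ : K) (Z : Module.End K W) (d : Fin q → ℕ) (η : K), κ ≠ 0 ∧ Z = κ • Y ∧
      Z ^ q = 1 ∧ IsPrimitiveRoot η q ∧
      (∀ j, Module.finrank K (Module.End.eigenspace Z (η ^ j.val)) = d j) ∧
      (∀ j : Fin q, j.val ≠ 0 → 1 ≤ d j) ∧
      (∀ i j : Fin q, i.val ≠ 0 → j.val ≠ 0 → d i = d j) ∧
      ∑ j, d j = Module.finrank K W ∧ ⨆ j : Fin q, Module.End.eigenspace Z (η ^ j.val) = ⊤ := by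
  classical
  haveI : Nontrivial W := by
    by_contra h
    rw [not_nontrivial_iff_subsingleton] at h
    exact hns 1 (LinearMap.ext fun v => Subsingleton.elim _ _)
  have hqpos : 0 < q := hqp.pos
  obtain ⟨c, hc⟩ := IsAlgClosed.exists_pow_nat_eq lam⁻¹ hqpos
  have hc0 : c ≠ 0 := by
    rintro rfl
    rw [zero_pow hqpos.ne'] at hc
    exact inv_ne_zero hlam hc.symm
  let Z₀ := c • Y
  have hZ₀ : Z₀ ^ q = 1 := by
    simp only [Z₀, smul_pow, hY, smul_smul, hc, inv_mul_cancel₀ hlam, one_smul]
  let μ' := c * μ * (c ^ 3)⁻¹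
  have hconj₀ : G * Z₀ = μ' • (Z₀ ^ 3 * G) := by
    simp only [Z₀, μ', mul_smul_comm, hconj, smul_pow, smul_mul_assoc, smul_smul]
    congr 1
    field_simp
  have hpow : ∀ k : ℕ, G * Z₀ ^ k = μ' ^ k • (Z₀ ^ (3 * k) * G) := by
    intro k
    induction k with
    | zero => simp
    | succ k ih =>
      rw [pow_succ, ← mul_assoc, ih, smul_mul_assoc, mul_assoc, hconj₀, mul_smul_comm, smul_smul,
        ← mul_assoc (Z₀ ^ (3 * k)), ← pow_add, mul_add, mul_one]
      congr 1
      simp only [μ']
      ring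
  have hμq : μ' ^ q = 1 := by
    have := hpow q
    rw [hZ₀, mul_comm 3 q, pow_mul, hZ₀, one_pow, mul_one, one_mul] at this
    have hG0 : G ≠ 0 := fun h => by
      obtain ⟨v, hv⟩ := exists_ne (0 : W)
      exact hv (hG (by rw [h]; simp))
    exact smul_left_injective K hG0 (this.symm.trans (one_smul K G).symm)
  let ν := μ' ^ ((q + 1) / 2)
  have hν2 : ν ^ 2 = μ' := by
    have h2 : (q + 1) / 2 * 2 = q + 1 := Nat.div_two_mul_two_of_even (by simp [hq2, parity_simps])
    rw [← pow_mul, h2, pow_succ, hμq, one_mul]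
  have hνq : ν ^ q = 1 := by
    rw [← pow_mul, mul_comm, pow_mul, hμq, one_pow]
  let Z := ν • Z₀
  have hZ : Z ^ q = 1 := by simp only [Z, smul_pow, hνq, hZ₀, one_smul]
  have hGZ : G * Z = Z ^ 3 * G := by
    simp only [Z, mul_smul_comm, hconj₀, smul_pow, smul_mul_assoc, smul_smul]
    congr 1
    rw [← hν2]; ring
  have htop := iSup_eigenspace_of_pow_eq_one Z hqK hZ
  have hroot : ∀ x : K, Module.End.eigenspace Z x ≠ ⊥ → x ^ q = 1 := by
    intro x hx
    obtain ⟨v, hv, hv0⟩ := (Submodule.ne_bot_iff _).mp hx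
    rw [Module.End.mem_eigenspace_iff] at hv
    have : ∀ k : ℕ, (Z ^ k) v = x ^ k • v := by
      intro k
      induction k with
      | zero => simp
      | succ k ih => rw [pow_succ, Module.End.mul_apply, hv, map_smul, ih, smul_smul, pow_succ']
    have h1 := this q
    rw [hZ, Module.End.one_apply] at h1
    exact smul_left_injective K hv0 (h1.symm.trans (one_smul K v).symm)
  obtain ⟨η, hηne, hη1⟩ : ∃ η : K, Module.End.eigenspace Z η ≠ ⊥ ∧ η ≠ 1 := by
    by_contra hcon
    push Not at hcon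
    have h1 : Module.End.eigenspace Z 1 = ⊤ := by
      refine eq_top_iff.mpr (htop.ge.trans (iSup_le fun x => ?_))
      by_cases hx : Module.End.eigenspace Z x = ⊥
      · simp [hx]
      · rw [hcon x hx]
    have hZ1 : Z = 1 := LinearMap.ext fun v => by
      have := Module.End.mem_eigenspace_iff.mp (h1 ▸ Submodule.mem_top : v ∈ Module.End.eigenspace Z 1)
      simpa using this
    apply hns (ν * c)⁻¹
    have hne : ν * c ≠ 0 := by
      refine mul_ne_zero (fun h => ?_) hc0
      rw [h, zero_pow hqpos.ne'] at hνq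
      exact zero_ne_one hνq
    rw [← hZ1, show Z = (ν * c) • Y by simp [Z, Z₀, smul_smul], smul_smul,
      inv_mul_cancel₀ hne, one_smul]
  have hηq : η ^ q = 1 := hroot η hηne
  haveI : Fact q.Prime := ⟨hqp⟩
  have hprim : IsPrimitiveRoot η q := by
    have := orderOf_eq_prime hηq hη1
    exact this ▸ IsPrimitiveRoot.orderOf η
  have hmap : ∀ x : K, x ^ q = 1 → ∀ v ∈ Module.End.eigenspace Z x,
      G v ∈ Module.End.eigenspace Z (x ^ s) := by
    intro x hx v hv
    rw [Module.End.mem_eigenspace_iff] at hv ⊢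
    have h3 : (Z ^ 3) (G v) = x • G v := by
      rw [← Module.End.mul_apply, ← hGZ, Module.End.mul_apply, hv, map_smul]
    have h4 : ∀ k : ℕ, ((Z ^ 3) ^ k) (G v) = x ^ k • G v := by
      intro k
      induction k with
      | zero => simp
      | succ k ih => rw [pow_succ, Module.End.mul_apply, h3, map_smul, ih, smul_smul, pow_succ']
    have h5 := h4 s
    rwa [← pow_mul, ← Nat.div_add_mod (3 * s) q, hs, pow_add, pow_mul, hZ, one_pow, one_mul,
      pow_one] at h5
  let E : Fin q → Submodule K W := fun j => Module.End.eigenspace Z (η ^ j.val)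
  let d : Fin q → ℕ := fun j => Module.finrank K (E j)
  have hEmod : ∀ k : ℕ, Module.finrank K (Module.End.eigenspace Z (η ^ k)) = d ⟨k % q, Nat.mod_lt _ hqpos⟩ := by
    intro k
    show _ = Module.finrank K (Module.End.eigenspace Z (η ^ (k % q)))
    rw [show η ^ (k % q) = η ^ k by
      conv_rhs => rw [← Nat.mod_add_div k q, pow_add, pow_mul, hηq, one_pow, mul_one]]
  have hstep : ∀ x : K, x ^ q = 1 → Module.finrank K (Module.End.eigenspace Z x) ≤
      Module.finrank K (Module.End.eigenspace Z (x ^ s)) := by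
    intro x hx
    refine LinearMap.finrank_le_finrank_of_injective
      (f := G.restrict (p := Module.End.eigenspace Z x) (q := Module.End.eigenspace Z (x ^ s))
        (hmap x hx)) ?_
    intro u v huv
    exact Subtype.ext (hG (congrArg Subtype.val huv))
  have hiter : ∀ (x : K), x ^ q = 1 → ∀ i : ℕ, Module.finrank K (Module.End.eigenspace Z x) ≤
      Module.finrank K (Module.End.eigenspace Z (x ^ s ^ i)) := by
    intro x hx i
    induction i with
    | zero => rw [pow_zero, pow_one]
    | succ i ih =>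
      refine ih.trans ((hstep _ (by rw [← pow_mul, mul_comm, pow_mul, hx, one_pow])).trans ?_)
      rw [← pow_mul, ← pow_succ]
  have hle : ∀ (a j : Fin q), a.val ≠ 0 → j.val ≠ 0 → d a ≤ d j := by
    intro a j ha hj
    -- choose a multiplier sending `a` to `j`
    haveI := Fact.mk hqp
    have haz : ((a.val : ℕ) : ZMod q) ≠ 0 := by
      rw [Ne, ZMod.natCast_eq_zero_iff]
      exact fun h => ha (Nat.eq_zero_of_dvd_of_lt h a.isLt)
    let m : Fin q := ⟨((j.val : ZMod q) * (a.val : ZMod q)⁻¹).val, ZMod.val_lt _⟩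
    have hm : m.val ≠ 0 := by
      simp only [m, Ne, ZMod.val_eq_zero, mul_eq_zero, inv_eq_zero, not_or]
      refine ⟨?_, haz⟩
      rw [ZMod.natCast_eq_zero_iff]
      exact fun h => hj (Nat.eq_zero_of_dvd_of_lt h j.isLt)
    obtain ⟨i, hi⟩ := horb m hm
    have hmod : (a.val * s ^ i.val) % q = j.val := by
      have : ((a.val * s ^ i.val : ℕ) : ZMod q) = (j.val : ZMod q) := by
        rw [Nat.cast_mul, ← ZMod.natCast_mod (s ^ i.val) q, hi]
        simp only [m, ZMod.natCast_val, ZMod.cast_id', id]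
        rw [mul_comm (j.val : ZMod q), ← mul_assoc, mul_inv_cancel₀ haz, one_mul]
      have h := congrArg ZMod.val this
      rwa [ZMod.val_natCast, ZMod.val_natCast, Nat.mod_eq_of_lt j.isLt] at h
    have := hiter (η ^ a.val) (by rw [← pow_mul, mul_comm, pow_mul, hηq, one_pow]) i.val
    rw [← pow_mul, hEmod, hEmod] at this
    simpa [hmod, Nat.mod_eq_of_lt a.isLt] using this
  have h1 : 1 ≤ d ⟨1, hqp.one_lt⟩ := by
    rcases Nat.eq_zero_or_pos (d ⟨1, hqp.one_lt⟩) with h | h
    · exact absurd (by simpa [d, E] using Submodule.finrank_eq_zero.mp h) hηne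
    · exact h
  have hsup : ⨆ j, E j = ⊤ := by
    refine eq_top_iff.mpr (htop.ge.trans (iSup_le fun x => ?_))
    by_cases hx : Module.End.eigenspace Z x = ⊥
    · simp [hx]
    · obtain ⟨i, hi, rfl⟩ := hprim.eq_pow_of_pow_eq_one (hroot x hx)
      exact le_iSup E ⟨i, hi⟩
  have hinj : Function.Injective fun j : Fin q => η ^ j.val := fun i j h =>
    Fin.ext (hprim.pow_inj i.isLt j.isLt h)
  have hint : DirectSum.IsInternal E :=
    (DirectSum.isInternal_submodule_iff_iSupIndep_and_iSup_eq_top E).mpr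
      ⟨(Module.End.eigenspaces_iSupIndep Z).comp hinj, hsup⟩
  have hsum : ∑ j, d j = Module.finrank K W := by
    rw [Module.finrank_eq_card_basis (hint.collectedBasis fun j => Module.finBasis K (E j))]
    simp [d]
  refine ⟨ν * c, Z, d, η, mul_ne_zero (fun h => ?_) hc0, by simp [Z, Z₀, smul_smul], hZ, hprim,
    fun j => rfl, fun j hj => h1.trans (hle _ j one_ne_zero hj),
    fun i j hi hj => le_antisymm (hle i j hi hj) (hle j i hj hi), hsum, hsup⟩
  rw [h, zero_pow hqpos.ne'] at hνq
  exact zero_ne_one hνq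

end Linear

section Embed

variable {r q : ℕ}

theorem exists_avoiding (l : List (Fin r)) (hq : q + l.length ≤ r) :
    ∃ f : Fin q ↪ Fin r, ∀ i, f i ∉ l := by
  classical
  have : Fintype.card (Fin q) ≤ Fintype.card {x : Fin r // x ∉ l} := by
    rw [Fintype.card_fin, Fintype.card_subtype_compl, Fintype.card_fin]
    have : Fintype.card {x : Fin r // x ∈ l} ≤ l.length := by
      rw [Fintype.card_of_subtype l.toFinset (by simp)]
      exact l.toFinset_card_le
    omega
  obtain ⟨g⟩ := Function.Embedding.nonempty_of_card_le this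
  exact ⟨g.trans (Function.Embedding.subtype _), fun i => (g i).2⟩

/-- The alternating group on few points inside the alternating group on many. -/
noncomputable def embA (f : Fin q ↪ Fin r) : alternatingGroup (Fin q) →* alternatingGroup (Fin r) :=
  ((Equiv.Perm.extendDomainHom f.toEquivRange).comp (alternatingGroup (Fin q)).subtype).codRestrict
    _ fun x => by
      rw [mem_alternatingGroup]
      simp [mem_alternatingGroup.mp x.2]

theorem embA_apply (f : Fin q ↪ Fin r) (g : alternatingGroup (Fin q)) (i : Fin q) :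
    (embA f g : Perm (Fin r)) (f i) = f ((g : Perm (Fin q)) i) := by
  show (g : Perm (Fin q)).extendDomain f.toEquivRange (f i) = _
  have : f i = (f.toEquivRange i : Fin r) := rfl
  rw [this, Perm.extendDomain_apply_image]
  rfl

theorem embA_apply_notMem (f : Fin q ↪ Fin r) (g : alternatingGroup (Fin q)) {x : Fin r}
    (hx : ∀ i, f i ≠ x) : (embA f g : Perm (Fin r)) x = x := by
  show (g : Perm (Fin q)).extendDomain f.toEquivRange x = _
  exact Perm.extendDomain_apply_not_subtype _ _ (by rintro ⟨i, hi⟩; exact hx i hi)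

theorem embA_injective (f : Fin q ↪ Fin r) : Function.Injective (embA f) := by
  intro g h hgh
  apply Subtype.ext
  refine Equiv.ext fun i => f.injective ?_
  rw [← embA_apply, ← embA_apply, hgh]

theorem embA_cyc (f : Fin q ↪ Fin r) {a b c : Fin q} (hab : a ≠ b) (hbc : b ≠ c) (hac : a ≠ c) :
    embA f (cyc a b c) = cyc (f a) (f b) (f c) := by
  apply Subtype.ext
  refine Equiv.ext fun x => ?_
  have hab' := f.injective.ne hab
  have hbc' := f.injective.ne hbc
  have hac' := f.injective.ne hac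
  by_cases hx : ∃ i, f i = x
  · obtain ⟨i, rfl⟩ := hx
    rw [embA_apply]
    by_cases h1 : i = a
    · subst h1; rw [cyc_apply_left hab hbc hac, cyc_apply_left hab' hbc' hac']
    by_cases h2 : i = b
    · subst h2; rw [cyc_apply_mid hab hbc hac, cyc_apply_mid hab' hbc' hac']
    by_cases h3 : i = c
    · subst h3; rw [cyc_apply_right hab hbc, cyc_apply_right hab' hbc']
    rw [cyc_apply_other h1 h2 h3, cyc_apply_other (f.injective.ne h1) (f.injective.ne h2)
      (f.injective.ne h3)]
  · push Not at hx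
    rw [embA_apply_notMem f _ hx, cyc_apply_other (Ne.symm (hx a)) (Ne.symm (hx b)) (Ne.symm (hx c))]

end Embed

section CharThree

variable {r : ℕ} {K : Type} [Field K] [IsAlgClosed K] {V : Type} [AddCommGroup V] [Module K V]
  [FiniteDimensional K V]
  {H : Type} [Group H] {ρ : H →* Module.End K V} {φ : H →* alternatingGroup (Fin r)}

theorem cube_roots_trivial (h3 : (3 : K) = 0) {x : K} (hx : x ^ 3 = 1) : x = 1 := by
  have : (x - 1) ^ 3 = 0 := by
    calc (x - 1) ^ 3 = x ^ 3 - 1 + 3 * (x - x * x) := by ring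
      _ = 0 := by rw [hx, h3]; ring
  exact sub_eq_zero.mp (eq_zero_of_pow_eq_zero this)

theorem commute_of_cube (hR : IsAltRep ρ φ) (h3 : (3 : K) = 0) [Nontrivial V] {g h : H}
    (hcube : φ h ^ 3 = 1) (hcomm : Commute (φ g) (φ h)) : Commute (ρ g) (ρ h) := by
  have hz : φ (g * h * g⁻¹ * h⁻¹) = 1 := by
    rw [map_mul, map_mul, map_mul, map_inv, map_inv, hcomm.eq]; group
  obtain ⟨c, hc⟩ := (hR.scalar_iff _).mp hz
  have hgh : ρ g * ρ h * ρ g⁻¹ = c • ρ h := by
    rw [← map_mul, ← map_mul, ← inv_mul_cancel_right (g * h * g⁻¹) h, map_mul, hc, smul_mul_assoc,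
      one_mul]
  obtain ⟨lam, hlam⟩ := (hR.scalar_iff (h ^ 3)).mp (by rw [map_pow, hcube])
  have h3' : (c • ρ h) ^ 3 = ρ h ^ 3 := by
    rw [← hgh, ← map_mul, ← map_mul, ← map_pow, conj_pow, map_mul, map_mul, ← map_pow, hlam,
      mul_smul_comm, mul_one, smul_mul_assoc, ← map_mul, mul_inv_cancel, map_one]
  rw [smul_pow, ← map_pow, hlam, smul_smul] at h3'
  have hlam0 : lam ≠ 0 := by
    intro h0
    rw [h0, zero_smul] at hlam
    have := end_mul_inv ρ (h ^ 3)
    rw [hlam, zero_mul] at this
    exact zero_ne_one this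
  have hc3 : c ^ 3 = 1 := by
    have := smul_left_injective K (one_ne_zero (α := Module.End K V)) h3'
    exact mul_right_cancel₀ hlam0 (this.trans (one_mul lam).symm)
  rw [cube_roots_trivial h3 hc3, one_smul] at hgh
  show ρ g * ρ h = ρ h * ρ g
  calc ρ g * ρ h = ρ g * ρ h * (ρ g⁻¹ * ρ g) := by rw [end_inv_mul, mul_one]
    _ = ρ h * ρ g := by rw [← mul_assoc, hgh]

/-- The bound `n ≥ q - 1` from a cycle and an operator inverting it suitably on a subspace. -/
theorem cycle_dims (h3 : (3 : K) = 0) {q : ℕ} (hq : q = 5 ∨ q = 7) {W : Type} [AddCommGroup W]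
    [Module K W] [FiniteDimensional K W] (Y G : Module.End K W) (lam μ : K) (hlam : lam ≠ 0)
    (hY : Y ^ q = lam • 1) (hns : ∀ c : K, Y ≠ c • 1) (hG : Function.Injective G)
    (hconj : G * Y = μ • (Y ^ 3 * G)) :
    ∃ (κ : K) (Z : Module.End K W) (d : Fin q → ℕ) (η : K), κ ≠ 0 ∧ Z = κ • Y ∧
      Z ^ q = 1 ∧ IsPrimitiveRoot η q ∧
      (∀ j, Module.finrank K (Module.End.eigenspace Z (η ^ j.val)) = d j) ∧
      (∀ j : Fin q, j.val ≠ 0 → 1 ≤ d j) ∧
      (∀ i j : Fin q, i.val ≠ 0 → j.val ≠ 0 → d i = d j) ∧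
      ∑ j, d j = Module.finrank K W ∧ ⨆ j : Fin q, Module.End.eigenspace Z (η ^ j.val) = ⊤ := by
  have hqK : (q : K) ≠ 0 := by
    rcases hq with rfl | rfl
    · intro h
      push_cast at h
      exact one_ne_zero (α := K) (by linear_combination (2 : K) * h3 - h)
    · intro h
      push_cast at h
      exact one_ne_zero (α := K) (by linear_combination h - (2 : K) * h3)
  rcases hq with rfl | rfl
  · exact scaled_cycle 5 2 (by norm_num) (by decide) hqK (by norm_num) (by decide) Y G lam μ hlam hY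
      hns hG hconj
  · exact scaled_cycle 7 5 (by norm_num) (by decide) hqK (by norm_num) (by decide) Y G lam μ hlam hY
      hns hG hconj

end CharThree

end CfsgAltMinDeg
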