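import Cfsg.Agent.AltMinDeg.Cycle

/-!
In characteristic three a group over the alternating group on at least `q + 3` points has no
representation of degree at most `q + 1`, for `q = 5, 7`.
-/

set_option autoImplicit false

namespace CfsgAltMinDeg

open Equiv Equiv.Perm

/-- The five-cycle on eight points. -/
def sigma5 : alternatingGroup (Fin 8) := cyc 0 1 2 * cyc 2 3 4

/-- The seven-cycle on ten points. -/
def sigma7 : alternatingGroup (Fin 10) := cyc 0 1 2 * cyc 2 3 4 * cyc 4 5 6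

/-- Conjugates `sigma5` to its cube. -/
def tau5 : alternatingGroup (Fin 8) :=
  ⟨swap 1 3 * swap 3 4 * swap 4 2 * swap 5 6, by
    rw [mem_alternatingGroup]; decide⟩

/-- Conjugates `sigma7` to its cube. -/
def tau7 : alternatingGroup (Fin 10) :=
  ⟨swap 1 3 * swap 3 2 * swap 2 6 * swap 6 4 * swap 4 5 * swap 7 8, by
    rw [mem_alternatingGroup]; decide⟩

theorem sigma5_facts : sigma5 ^ 5 = 1 ∧ sigma5 ≠ 1 ∧ tau5 * sigma5 = sigma5 ^ 3 * tau5 ∧
    sigma5 * cyc 5 6 7 = cyc 5 6 7 * sigma5 := by decide +kernel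

theorem sigma7_facts : sigma7 ^ 7 = 1 ∧ sigma7 ≠ 1 ∧ tau7 * sigma7 = sigma7 ^ 3 * tau7 ∧
    sigma7 * cyc 7 8 9 = cyc 7 8 9 * sigma7 := by decide +kernel

variable {r : ℕ} {K : Type} [Field K] [IsAlgClosed K] {V : Type} [AddCommGroup V] [Module K V]
  [FiniteDimensional K V]
  {H : Type} [Group H] {ρ : H →* Module.End K V} {φ : H →* alternatingGroup (Fin r)}

theorem finrank_map_lt_of_nilpotent {N : Module.End K V} (hN : N ^ 3 = 0) {W : Submodule K V}
    (hW : W ≠ ⊥) (hinv : W.map N ≤ W) : Module.finrank K (W.map N) < Module.finrank K W := by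
  refine Submodule.finrank_lt_finrank_of_lt (lt_of_le_of_ne hinv fun h => hW ?_)
  have h3 : W.map (N ^ 3) = W := by
    rw [pow_succ, pow_succ, pow_one, Module.End.mul_eq_comp, Module.End.mul_eq_comp,
      Submodule.map_comp, Submodule.map_comp, h, h, h]
  rw [hN] at h3
  rw [← h3]
  simp

/-- The analysis of one cycle of prime length and a disjoint three-cycle. -/
theorem cycle_and_three (hR : IsAltRep ρ φ) (h3 : (3 : K) = 0) {q : ℕ} (hq : q = 5 ∨ q = 7)
    (hn : Module.finrank K V ≤ q + 1) {σ τ z : alternatingGroup (Fin r)} (hσq : σ ^ q = 1)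
    (hσ : σ ≠ 1) (hτ : τ * σ = σ ^ 3 * τ) (hz : σ * z = z * σ) (hz3 : z ^ 3 = 1) :
    (∃ l : H, φ l = z ∧ ∃ c : K, c ≠ 0 ∧
        Module.finrank K (LinearMap.range (c • ρ l - 1)) ≤ 1) ∧
      ∀ (κ : K) (W : Submodule K V) (y : H), φ y = σ → (∀ w ∈ W, ρ y w = κ • w) →
        W = ⊥ ∨ Module.finrank K W ≤ 1 ∨ Module.finrank K W + (q - 1) ≤ Module.finrank K V := by
  classical
  haveI : Nontrivial V := by
    by_contra hV
    rw [not_nontrivial_iff_subsingleton] at hV
    obtain ⟨g, hg⟩ := hR.surj σ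
    exact hσ (hg ▸ (hR.scalar_iff g).mpr ⟨1, LinearMap.ext fun v => Subsingleton.elim _ _⟩)
  obtain ⟨y, hy⟩ := hR.surj σ
  obtain ⟨g, hg⟩ := hR.surj τ
  obtain ⟨l, hl⟩ := hR.surj z
  obtain ⟨lam, hlam⟩ := (hR.scalar_iff (y ^ q)).mp (by rw [map_pow, hy, hσq])
  have hne0 : ∀ (x : H) (k : K), ρ x = k • 1 → k ≠ 0 := by
    rintro x k hk rfl
    have := end_mul_inv ρ x
    rw [hk, zero_smul, zero_mul] at this
    exact zero_ne_one this
  obtain ⟨μ, hμ⟩ := (hR.scalar_iff (g * y * (y ^ 3 * g)⁻¹)).mp (by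
    rw [map_mul, map_mul, map_inv, map_mul, map_pow, hg, hy, hτ, mul_inv_cancel])
  have hconj : ρ g * ρ y = μ • (ρ y ^ 3 * ρ g) := by
    rw [← map_pow, ← map_mul, ← map_mul, ← inv_mul_cancel_right (g * y) (y ^ 3 * g), map_mul, hμ,
      smul_mul_assoc, one_mul]
  obtain ⟨κ₀, Z, d, η, hκ₀, hZ, hZq, hprim, hd, hd1, hdeq, hsum, hsup⟩ :=
    cycle_dims h3 hq (ρ y) (ρ g) lam μ (hne0 _ _ hlam) (by rw [← map_pow, hlam])
      (fun c hc => hσ (hy ▸ (hR.scalar_iff y).mpr ⟨c, hc⟩))
      (fun u v huv => by simpa [inv_apply_apply] using congrArg (ρ g⁻¹) huv) hconj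
  have hqpos : 0 < q := by omega
  let j0 : Fin q := ⟨0, hqpos⟩
  let j1 : Fin q := ⟨1, by omega⟩
  have hsplit : d j0 + (q - 1) * d j1 = Module.finrank K V := by
    rw [← hsum, Fintype.sum_eq_add_sum_compl j0, Finset.sum_congr rfl (fun j hj => hdeq j j1 (by
      simp only [Finset.mem_compl, Finset.mem_singleton] at hj
      exact fun e => hj (Fin.ext e)) one_ne_zero), Finset.sum_const, Finset.card_compl,
      Finset.card_singleton, Fintype.card_fin, smul_eq_mul]
  have hm : d j1 = 1 := by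
    have := hd1 j1 one_ne_zero
    by_contra h
    have : (q - 1) * 2 ≤ (q - 1) * d j1 := Nat.mul_le_mul_left _ (by omega)
    omega
  rw [hm, mul_one] at hsplit
  refine ⟨⟨l, hl, ?_⟩, ?_⟩
  · obtain ⟨lz, hlz⟩ := (hR.scalar_iff (l ^ 3)).mp (by rw [map_pow, hl, hz3])
    obtain ⟨c, hc⟩ := IsAlgClosed.exists_pow_nat_eq lz⁻¹ (n := 3) (by norm_num)
    have hlz0 := hne0 _ _ hlz
    have hc0 : c ≠ 0 := by
      rintro rfl
      exact inv_ne_zero hlz0 (by simpa using hc.symm)
    refine ⟨c, hc0, ?_⟩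
    let N := c • ρ l - 1
    have hN : N ^ 3 = 0 := by
      have h3E : (3 : Module.End K V) = 0 := by
        have : (3 : Module.End K V) = algebraMap K (Module.End K V) 3 := (map_ofNat _ 3).symm
        rw [this, h3, map_zero]
      have hcube : (c • ρ l) ^ 3 = 1 := by
        rw [smul_pow, ← map_pow, hlz, smul_smul, hc, inv_mul_cancel₀ hlz0, one_smul]
      have h3S : ∀ T : Module.End K V, (3 : ℕ) • T = 0 := fun T => by
        rw [nsmul_eq_mul, Nat.cast_ofNat, h3E, zero_mul]
      calc N ^ 3 = (c • ρ l) ^ 3 - 1 + (3 : ℕ) • (c • ρ l - (c • ρ l) * (c • ρ l)) := by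
            show (c • ρ l - 1) ^ 3 = _
            generalize c • ρ l = x
            simp only [pow_succ, pow_zero, one_mul, sub_mul, mul_sub, mul_one, succ_nsmul, zero_nsmul, mul_assoc]
            abel
        _ = 0 := by rw [hcube, h3S]; simp
    have hcomm : Commute (ρ y) (ρ l) :=
      commute_of_cube hR h3 (by rw [hl, hz3]) (by rw [hy, hl]; exact hz)
    have hcommZ : Commute Z N := by
      rw [hZ]
      exact ((hcomm.smul_right c).sub_right (Commute.one_right _)).smul_left κ₀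
    have hinv : ∀ x, (Module.End.eigenspace Z x).map N ≤ Module.End.eigenspace Z x := by
      rintro x _ ⟨v, hv, rfl⟩
      rw [SetLike.mem_coe, Module.End.mem_eigenspace_iff] at hv
      rw [Module.End.mem_eigenspace_iff, ← Module.End.mul_apply, hcommZ.eq, Module.End.mul_apply,
        hv, map_smul]
    have hzero : ∀ j : Fin q, j ≠ j0 → (Module.End.eigenspace Z (η ^ j.val)).map N = ⊥ := by
      intro j hj
      have hj0 : j.val ≠ 0 := fun e => hj (Fin.ext e)
      have h1 : Module.finrank K (Module.End.eigenspace Z (η ^ j.val)) = 1 := by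
        rw [hd, hdeq j j1 hj0 one_ne_zero, hm]
      have hne : Module.End.eigenspace Z (η ^ j.val) ≠ ⊥ := fun e => by
        rw [e, finrank_bot] at h1; omega
      have := finrank_map_lt_of_nilpotent hN hne (hinv _)
      exact Submodule.finrank_eq_zero.mp (by omega)
    have hrange : LinearMap.range N ≤ (Module.End.eigenspace Z (η ^ j0.val)).map N := by
      rw [LinearMap.range_eq_map, ← hsup, Submodule.map_iSup]
      refine iSup_le fun j => ?_
      by_cases hj : j = j0
      · rw [hj]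
      · simp [hzero j hj]
    refine (Submodule.finrank_mono hrange).trans ?_
    by_cases h0 : Module.End.eigenspace Z (η ^ j0.val) = ⊥
    · rw [h0, Submodule.map_bot, finrank_bot]; omega
    · have := finrank_map_lt_of_nilpotent hN h0 (hinv _)
      rw [hd] at this
      omega
  · intro κ W y' hy' hW
    by_cases hWb : W = ⊥
    · exact Or.inl hWb
    refine Or.inr ?_
    obtain ⟨s, hs⟩ := (hR.scalar_iff (y * y'⁻¹)).mp (by rw [map_mul, map_inv, hy, hy', mul_inv_cancel])
    have hsub : W ≤ Module.End.eigenspace Z (κ₀ * s * κ) := by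
      intro w hw
      rw [Module.End.mem_eigenspace_iff, hZ, LinearMap.smul_apply, ← inv_mul_cancel_right y y',
        map_mul, hs, Module.End.mul_apply, hW w hw, LinearMap.smul_apply, Module.End.one_apply,
        smul_smul, smul_smul]
    obtain ⟨w, hw, hw0⟩ := (Submodule.ne_bot_iff _).mp hWb
    have hroot : (κ₀ * s * κ) ^ q = 1 := by
      have hev := Module.End.mem_eigenspace_iff.mp (hsub hw)
      have : ∀ k : ℕ, (Z ^ k) w = (κ₀ * s * κ) ^ k • w := by
        intro k
        induction k with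
        | zero => simp
        | succ k ih => rw [pow_succ, Module.End.mul_apply, hev, map_smul, ih, smul_smul, pow_succ']
      have h1 := this q
      rw [hZq, Module.End.one_apply] at h1
      exact smul_left_injective K hw0 (h1.symm.trans (one_smul K w).symm)
    haveI : NeZero q := ⟨by omega⟩
    obtain ⟨i, hi, hie⟩ := hprim.eq_pow_of_pow_eq_one hroot
    rw [← hie] at hsub
    have hle := Submodule.finrank_mono hsub
    rw [show η ^ i = η ^ (⟨i, hi⟩ : Fin q).val from rfl, hd] at hle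
    by_cases hi0 : (⟨i, hi⟩ : Fin q) = j0
    · rw [hi0] at hle; omega
    · rw [hdeq _ j1 (fun e => hi0 (Fin.ext e)) one_ne_zero, hm] at hle
      omega

theorem finrank_fix_ge {T : Module.End K V} (h : Module.finrank K (LinearMap.range (T - 1)) ≤ 1) :
    Module.finrank K V ≤ Module.finrank K (LinearMap.ker (T - 1)) + 1 := by
  have := LinearMap.finrank_range_add_finrank_ker (T - 1)
  omega

theorem finrank_inf_ge (A B : Submodule K V) :
    Module.finrank K A + Module.finrank K B ≤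
      Module.finrank K (A ⊓ B : Submodule K V) + Module.finrank K V := by
  have h1 := Submodule.finrank_sup_add_finrank_inf_eq A B
  have h2 := (A ⊔ B).finrank_le
  omega

/-- The rank-one lifts of the factors of a cycle give a contradiction. -/
theorem no_small_five (hR : IsAltRep ρ φ) (h3 : (3 : K) = 0) (hr : 8 ≤ r)
    (hn : Module.finrank K V ≤ 6) : False := by
  let f : Fin 8 ↪ Fin r := ⟨Fin.castLE hr, Fin.castLE_injective hr⟩
  obtain ⟨hq, hne, hτ, hz⟩ := sigma5_facts
  have key : ∀ π : Equiv.Perm (Fin 8),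
      (∃ l : H, φ l = embA (π.toEmbedding.trans f) (cyc 5 6 7) ∧ ∃ c : K, c ≠ 0 ∧
        Module.finrank K (LinearMap.range (c • ρ l - 1)) ≤ 1) ∧
      ∀ (κ : K) (W : Submodule K V) (y : H), φ y = embA (π.toEmbedding.trans f) sigma5 →
        (∀ w ∈ W, ρ y w = κ • w) →
        W = ⊥ ∨ Module.finrank K W ≤ 1 ∨ Module.finrank K W + (5 - 1) ≤ Module.finrank K V := fun π =>
    cycle_and_three hR h3 (Or.inl rfl) (by omega) (τ := embA (π.toEmbedding.trans f) tau5)
      (z := embA (π.toEmbedding.trans f) (cyc 5 6 7))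
      (by rw [← map_pow, hq, map_one])
      (fun h => hne (embA_injective _ (h.trans (map_one _).symm)))
      (by rw [← map_mul, hτ, map_mul, map_pow])
      (by rw [← map_mul, hz, map_mul])
      (by rw [← map_pow, cyc_cube (by decide) (by decide) (by decide), map_one])
  have hfac : ∀ (π : Equiv.Perm (Fin 8)) (a b c : Fin 8), π 5 = a → π 6 = b → π 7 = c →
      a ≠ b → b ≠ c → a ≠ c → embA (π.toEmbedding.trans f) (cyc 5 6 7) = embA f (cyc a b c) := by
    intro π a b c h1 h2 h3 hab hbc hac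
    rw [embA_cyc _ (by decide) (by decide) (by decide), embA_cyc f hab hbc hac, ← h1, ← h2, ← h3]
    rfl
  obtain ⟨l1, hl1, c1, hc1, hr1⟩ := (key (swap 0 5 * swap 1 6 * swap 2 7)).1
  obtain ⟨l2, hl2, c2, hc2, hr2⟩ := (key (swap 2 5 * swap 3 6 * swap 4 7)).1
  rw [hfac _ 0 1 2 (by decide) (by decide) (by decide) (by decide) (by decide) (by decide)] at hl1
  rw [hfac _ 2 3 4 (by decide) (by decide) (by decide) (by decide) (by decide) (by decide)] at hl2
  have hy : φ (l1 * l2) = embA f sigma5 := by rw [map_mul, hl1, hl2, sigma5, map_mul]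
  let W := LinearMap.ker (c1 • ρ l1 - 1) ⊓ LinearMap.ker (c2 • ρ l2 - 1)
  have hW : ∀ w ∈ W, ρ (l1 * l2) w = (c2 * c1)⁻¹ • w := by
    intro w hw
    simp only [W, Submodule.mem_inf, LinearMap.mem_ker, LinearMap.sub_apply, LinearMap.smul_apply,
      Module.End.one_apply, sub_eq_zero] at hw
    have e1 : ρ l1 w = c1⁻¹ • w := by rw [eq_inv_smul_iff₀ hc1, hw.1]
    have e2 : ρ l2 w = c2⁻¹ • w := by rw [eq_inv_smul_iff₀ hc2, hw.2]
    rw [map_mul, Module.End.mul_apply, e2, map_smul, e1, smul_smul, mul_inv]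
  have h1 := finrank_fix_ge hr1
  have h2 := finrank_fix_ge hr2
  have h12 := finrank_inf_ge (LinearMap.ker (c1 • ρ l1 - 1)) (LinearMap.ker (c2 • ρ l2 - 1))
  have h4 : 4 ≤ Module.finrank K V := by
    obtain ⟨-, hb⟩ := key 1
    by_contra hlt
    obtain ⟨y, hy⟩ := hR.surj (embA f sigma5)
    obtain ⟨g, hg⟩ := hR.surj (embA f tau5)
    obtain ⟨lam, hlam⟩ := (hR.scalar_iff (y ^ 5)).mp (by rw [map_pow, hy, ← map_pow, hq, map_one])
    obtain ⟨μ, hμ⟩ := (hR.scalar_iff (g * y * (y ^ 3 * g)⁻¹)).mp (by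
      rw [map_mul, map_mul, map_inv, map_mul, map_pow, hg, hy, ← map_mul, hτ, map_mul, map_pow,
        mul_inv_cancel])
    have hns : ∀ c : K, ρ y ≠ c • 1 := fun c hc =>
      hne (embA_injective f ((hy ▸ (hR.scalar_iff y).mpr ⟨c, hc⟩).trans (map_one _).symm))
    have hlam0 : lam ≠ 0 := by
      intro h0
      rw [h0, zero_smul] at hlam
      haveI : Nontrivial V := by
        by_contra hV
        rw [not_nontrivial_iff_subsingleton] at hV
        exact hns 1 (LinearMap.ext fun v => Subsingleton.elim _ _)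
      have := end_mul_inv ρ (y ^ 5)
      rw [hlam, zero_mul] at this
      exact zero_ne_one this
    obtain ⟨κ₀, Z, d, η, -, -, -, -, -, hd1, -, hsum, -⟩ :=
      cycle_dims h3 (Or.inl rfl) (ρ y) (ρ g) lam μ hlam0 (by rw [← map_pow, hlam]) hns
        (fun u v huv => by simpa [inv_apply_apply] using congrArg (ρ g⁻¹) huv) (by
          rw [← map_pow, ← map_mul, ← map_mul, ← inv_mul_cancel_right (g * y) (y ^ 3 * g), map_mul,
            hμ, smul_mul_assoc, one_mul])
    have : ∑ j : Fin 5, (if j.val = 0 then 0 else 1) ≤ ∑ j, d j :=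
      Finset.sum_le_sum fun j _ => by
        split_ifs with h
        · exact Nat.zero_le _
        · exact hd1 j h
    rw [Fin.sum_univ_five] at hsum
    simp [Fin.sum_univ_five] at this
    omega
  rw [show LinearMap.ker (c1 • ρ l1 - 1) ⊓ LinearMap.ker (c2 • ρ l2 - 1) = W from rfl] at h12
  rcases (key 1).2 _ W (l1 * l2) hy hW with h | h | h
  · rw [h, finrank_bot] at h12
    omega
  · omega
  · omega

theorem no_small_seven (hR : IsAltRep ρ φ) (h3 : (3 : K) = 0) (hr : 10 ≤ r)
    (hn : Module.finrank K V ≤ 8) : False := by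
  by_cases hn6 : Module.finrank K V ≤ 6
  · exact no_small_five hR h3 (by omega) hn6
  let f : Fin 10 ↪ Fin r := ⟨Fin.castLE hr, Fin.castLE_injective hr⟩
  obtain ⟨hq, hne, hτ, hz⟩ := sigma7_facts
  have key : ∀ π : Equiv.Perm (Fin 10),
      (∃ l : H, φ l = embA (π.toEmbedding.trans f) (cyc 7 8 9) ∧ ∃ c : K, c ≠ 0 ∧
        Module.finrank K (LinearMap.range (c • ρ l - 1)) ≤ 1) ∧
      ∀ (κ : K) (W : Submodule K V) (y : H), φ y = embA (π.toEmbedding.trans f) sigma7 →
        (∀ w ∈ W, ρ y w = κ • w) →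
        W = ⊥ ∨ Module.finrank K W ≤ 1 ∨ Module.finrank K W + (7 - 1) ≤ Module.finrank K V := fun π =>
    cycle_and_three hR h3 (Or.inr rfl) (by omega) (τ := embA (π.toEmbedding.trans f) tau7)
      (z := embA (π.toEmbedding.trans f) (cyc 7 8 9))
      (by rw [← map_pow, hq, map_one])
      (fun h => hne (embA_injective _ (h.trans (map_one _).symm)))
      (by rw [← map_mul, hτ, map_mul, map_pow])
      (by rw [← map_mul, hz, map_mul])
      (by rw [← map_pow, cyc_cube (by decide) (by decide) (by decide), map_one])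
  have hfac : ∀ (π : Equiv.Perm (Fin 10)) (a b c : Fin 10), π 7 = a → π 8 = b → π 9 = c →
      a ≠ b → b ≠ c → a ≠ c → embA (π.toEmbedding.trans f) (cyc 7 8 9) = embA f (cyc a b c) := by
    intro π a b c h1 h2 h3 hab hbc hac
    rw [embA_cyc _ (by decide) (by decide) (by decide), embA_cyc f hab hbc hac, ← h1, ← h2, ← h3]
    rfl
  obtain ⟨l1, hl1, c1, hc1, hr1⟩ := (key (swap 0 7 * swap 1 8 * swap 2 9)).1
  obtain ⟨l2, hl2, c2, hc2, hr2⟩ := (key (swap 2 7 * swap 3 8 * swap 4 9)).1
  obtain ⟨l3, hl3, c3, hc3, hr3⟩ := (key (swap 4 7 * swap 5 8 * swap 6 9)).1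
  rw [hfac _ 0 1 2 (by decide) (by decide) (by decide) (by decide) (by decide) (by decide)] at hl1
  rw [hfac _ 2 3 4 (by decide) (by decide) (by decide) (by decide) (by decide) (by decide)] at hl2
  rw [hfac _ 4 5 6 (by decide) (by decide) (by decide) (by decide) (by decide) (by decide)] at hl3
  have hy : φ (l1 * l2 * l3) = embA f sigma7 := by
    rw [map_mul, map_mul, hl1, hl2, hl3, sigma7, map_mul, map_mul]
  let W := LinearMap.ker (c1 • ρ l1 - 1) ⊓ LinearMap.ker (c2 • ρ l2 - 1) ⊓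
    LinearMap.ker (c3 • ρ l3 - 1)
  have hW : ∀ w ∈ W, ρ (l1 * l2 * l3) w = (c3 * c2 * c1)⁻¹ • w := by
    intro w hw
    simp only [W, Submodule.mem_inf, LinearMap.mem_ker, LinearMap.sub_apply, LinearMap.smul_apply,
      Module.End.one_apply, sub_eq_zero] at hw
    have e1 : ρ l1 w = c1⁻¹ • w := by rw [eq_inv_smul_iff₀ hc1, hw.1.1]
    have e2 : ρ l2 w = c2⁻¹ • w := by rw [eq_inv_smul_iff₀ hc2, hw.1.2]
    have e3 : ρ l3 w = c3⁻¹ • w := by rw [eq_inv_smul_iff₀ hc3, hw.2]
    rw [map_mul, map_mul, Module.End.mul_apply, Module.End.mul_apply, e3, map_smul, map_smul, e2,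
      map_smul, e1, smul_smul, smul_smul, mul_inv, mul_inv, mul_assoc]
  have h1 := finrank_fix_ge hr1
  have h2 := finrank_fix_ge hr2
  have h3' := finrank_fix_ge hr3
  have h12 := finrank_inf_ge (LinearMap.ker (c1 • ρ l1 - 1)) (LinearMap.ker (c2 • ρ l2 - 1))
  have h123 := finrank_inf_ge (LinearMap.ker (c1 • ρ l1 - 1) ⊓ LinearMap.ker (c2 • ρ l2 - 1))
    (LinearMap.ker (c3 • ρ l3 - 1))
  rw [show LinearMap.ker (c1 • ρ l1 - 1) ⊓ LinearMap.ker (c2 • ρ l2 - 1) ⊓
      LinearMap.ker (c3 • ρ l3 - 1) = W from rfl] at h123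
  rcases (key 1).2 _ W (l1 * l2 * l3) hy hW with h | h | h
  · rw [h, finrank_bot] at h123
    omega
  · omega
  · omega

end CfsgAltMinDeg
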