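import Cfsg.Agent.AltMinDeg.Coprime
import Cfsg.Agent.AltMinDeg.CoprimeTwo
import Cfsg.Agent.AltMinDeg.CharThree

/-!
The lower bound on the degree of linear groups with an alternating section.
-/

set_option autoImplicit false

namespace CfsgAltMinDeg

/-- Alternating sections of degree `r ≥ 9` need degree at least `r - 2`. -/
theorem good : ∀ r, 9 ≤ r → Good r := by
  intro r
  induction r using Nat.strong_induction_on with
  | _ r ih =>
  intro hr
  refine good_of_core hr ?_
  intro K _ _ V _ _ _ H _ _ ρ φ hR hirr hpos
  by_cases h3 : (3 : K) = 0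
  · exact bound_char_three hR h3 hr hpos fun k hk hkr => ih k hkr hk
  by_contra hb
  by_cases hm : Moves hR
  · exact moves_false_or_small hR hirr hr h3 hb (fun h12 => ih (r - 3) (by omega) (by omega)) hm
  obtain ⟨ω, hω⟩ := IsAlgClosed.exists_root
    (Polynomial.X ^ 2 + Polynomial.X + 1 : Polynomial K) (by
      have : (Polynomial.X ^ 2 + Polynomial.X + 1 : Polynomial K).degree = 2 := by
        compute_degree!
      rw [this]; norm_num)
  refine hb (bound_of_fixing hR hr h3 (ω := ω) (by simpa [pow_two] using hω) ?_)
  intro a b c d e f h v hv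
  by_contra hne
  exact hm ⟨a, b, c, d, e, f, h, v, hv, hne⟩

end CfsgAltMinDeg
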