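import Cfsg.Agent.AltMinDeg.Setup

/-!
A configuration of lines indexed by pairs of points, permuted by three-cycles and spanning
planes on triples, spans the deleted permutation module or its quotient by the all-one vector.
-/

set_option autoImplicit false

namespace CfsgAltMinDeg

open Equiv Equiv.Perm

variable {r : ℕ} {K : Type} [Field K] {V : Type} [AddCommGroup V] [Module K V]

/-- Lines indexed by pairs of points. -/
structure LineConfig (K V : Type) [Field K] [AddCommGroup V] [Module K V] (r : ℕ) where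
  /-- the line of a pair -/
  l : Fin r → Fin r → Submodule K V
  finrank_l : ∀ {a b}, a ≠ b → Module.finrank K (l a b) = 1
  symm : ∀ {a b}, a ≠ b → l a b = l b a
  ne : ∀ {a b c}, [a, b, c].Nodup → l a b ≠ l a c
  le_sup : ∀ {a b c}, [a, b, c].Nodup → l b c ≤ l a b ⊔ l a c
  inf_le : ∀ {a b c d}, [a, b, c, d].Nodup → (l a b ⊔ l a c) ⊓ (l d b ⊔ l d c) ≤ l b c
  move : ∀ {a b c}, [a, b, c].Nodup → ∃ T : V →ₗ[K] V, Function.Injective T ∧
    ∀ i j, i ≠ j →
      (l i j).map T = l ((cyc a b c).1 i) ((cyc a b c).1 j)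

namespace LineConfig

variable (C : LineConfig K V r)

theorem mem_eq_smul {a b : Fin r} (hab : a ≠ b) {u v : V} (hu : u ∈ C.l a b) (hu0 : u ≠ 0)
    (hv : v ∈ C.l a b) : ∃ k : K, v = k • u := by
  obtain ⟨k, hk⟩ := (finrank_eq_one_iff_of_nonzero' (⟨u, hu⟩ : C.l a b)
    (fun e => hu0 (congrArg Subtype.val e))).mp (C.finrank_l hab) ⟨v, hv⟩
  exact ⟨k, (congrArg Subtype.val hk).symm⟩

theorem exists_ne_zero {a b : Fin r} (hab : a ≠ b) : ∃ u ∈ C.l a b, u ≠ 0 := by
  apply (Submodule.ne_bot_iff _).mp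
  intro h
  have := C.finrank_l hab
  rw [h, finrank_bot] at this
  omega

theorem inf_eq_bot {a b c : Fin r} (h : [a, b, c].Nodup) : C.l a b ⊓ C.l a c = ⊥ := by
  have hab : a ≠ b := by simp at h; grind
  have hac : a ≠ c := by simp at h; grind
  rw [Submodule.eq_bot_iff]
  intro v hv
  by_contra hv0
  refine C.ne h (le_antisymm (fun x hx => ?_) (fun x hx => ?_))
  · obtain ⟨k, rfl⟩ := C.mem_eq_smul hab hv.1 hv0 hx
    exact (C.l a c).smul_mem k hv.2
  · obtain ⟨k, rfl⟩ := C.mem_eq_smul hac hv.2 hv0 hx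
    exact (C.l a b).smul_mem k hv.1

/-- Coefficients of vectors on two distinct lines through a point. -/
theorem eq_zero_of_two {a b c : Fin r} (h : [a, b, c].Nodup) {u v : V} (hu : u ∈ C.l a b)
    (hv : v ∈ C.l a c) (hu0 : u ≠ 0) (hv0 : v ≠ 0) {x y : K} (hxy : x • u + y • v = 0) :
    x = 0 ∧ y = 0 := by
  have h1 : x • u = 0 := by
    refine (Submodule.eq_bot_iff _).mp (C.inf_eq_bot h) _ ⟨(C.l a b).smul_mem x hu, ?_⟩
    rw [eq_neg_of_add_eq_zero_left hxy]
    exact neg_mem ((C.l a c).smul_mem y hv)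
  have h2 : y • v = 0 := by rwa [h1, zero_add] at hxy
  exact ⟨(smul_eq_zero.mp h1).resolve_right hu0, (smul_eq_zero.mp h2).resolve_right hv0⟩

variable [FiniteDimensional K V]

include C in
/-- The dimension bound. -/
theorem bound (hr : 6 ≤ r) : r ≤ Module.finrank K V + 2 ∧
    ((r : K) ≠ 0 → r ≤ Module.finrank K V + 1) := by
  classical
  let o : Fin r := ⟨0, by omega⟩
  let q : Fin r := ⟨1, by omega⟩
  have hoq : o ≠ q := by simp [o, q]
  obtain ⟨uq, huq, huq0⟩ := C.exists_ne_zero hoq
  have hex : ∀ i, i ≠ o → ∃ u ∈ C.l o i, u ≠ 0 ∧ (i = q → u = uq) ∧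
      (i ≠ q → uq - u ∈ C.l q i) := by
    intro i hio
    rcases eq_or_ne i q with rfl | hiq
    · exact ⟨uq, huq, huq0, fun _ => rfl, fun h => absurd rfl h⟩
    have h3 : [o, q, i].Nodup := by simp; grind
    have h3' : [q, o, i].Nodup := by simp; grind
    have h3'' : [i, o, q].Nodup := by simp; grind
    obtain ⟨v, hv, hv0⟩ := C.exists_ne_zero (Ne.symm hiq)
    obtain ⟨x, hx, y, hy, hxy⟩ := Submodule.mem_sup.mp (C.le_sup h3 hv)
    obtain ⟨α, rfl⟩ := C.mem_eq_smul hoq huq huq0 hx
    have hα : α ≠ 0 := by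
      rintro rfl
      rw [zero_smul, zero_add] at hxy
      subst hxy
      rw [C.symm (Ne.symm hio)] at hy
      rw [C.symm (Ne.symm hiq)] at hv
      exact hv0 ((Submodule.eq_bot_iff _).mp (C.inf_eq_bot h3'') _ ⟨hy, hv⟩)
    refine ⟨-(α⁻¹ • y), neg_mem ((C.l o i).smul_mem _ hy), ?_, fun h => absurd h hiq, fun _ => ?_⟩
    · intro h0
      rw [neg_eq_zero, smul_eq_zero] at h0
      have hy0 : y = 0 := h0.resolve_left (inv_ne_zero hα)
      rw [hy0, add_zero] at hxy
      refine hv0 ((Submodule.eq_bot_iff _).mp (C.inf_eq_bot h3') _ ⟨?_, hv⟩)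
      rw [← C.symm hoq, ← hxy]
      exact (C.l o q).smul_mem α huq
    · rw [sub_neg_eq_add]
      have : uq + α⁻¹ • y = α⁻¹ • v := by
        rw [← hxy, smul_add, smul_smul, inv_mul_cancel₀ hα, one_smul]
      rw [this]
      exact (C.l q i).smul_mem _ hv
  choose u hu hu0 huq' hdiff using hex
  have hd : ∀ i j (hi : i ≠ o) (hj : j ≠ o), i ≠ j → u i hi - u j hj ∈ C.l i j := by
    intro i j hi hj hij
    rcases eq_or_ne i q with rfl | hiq
    · rw [huq' q hi rfl]
      exact hdiff j hj (Ne.symm hij)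
    rcases eq_or_ne j q with rfl | hjq
    · rw [huq' q hj rfl, C.symm hij]
      have := neg_mem (hdiff i hi hiq)
      rwa [neg_sub] at this
    have h4 : [o, i, j, q].Nodup := by simp; grind
    refine C.inf_le h4 ⟨sub_mem (Submodule.mem_sup_left (hu i hi))
      (Submodule.mem_sup_right (hu j hj)), ?_⟩
    have : u i hi - u j hj = (uq - u j hj) - (uq - u i hi) := by abel
    rw [this]
    exact sub_mem (Submodule.mem_sup_right (hdiff j hj hjq))
      (Submodule.mem_sup_left (hdiff i hi hiq))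
  -- the independent family
  let ι := {i : Fin r // i ≠ o}
  let v : ι → V := fun i => u i.1 i.2
  have hpair : ∀ (i j : ι), i ≠ j → ∀ x y : K, x • v i + y • v j = 0 → x = 0 ∧ y = 0 := by
    intro i j hij x y hxy
    refine C.eq_zero_of_two (a := o) (b := i.1) (c := j.1) ?_ (hu _ i.2) (hu _ j.2) (hu0 _ i.2)
      (hu0 _ j.2) hxy
    have := i.2; have := j.2
    have : i.1 ≠ j.1 := fun e => hij (Subtype.ext e)
    simp; grind
  have hdl : ∀ i j : ι, i ≠ j → v i - v j ∈ C.l i.1 j.1 ∧ v i - v j ≠ 0 := by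
    intro i j hij
    refine ⟨hd _ _ i.2 j.2 (fun e => hij (Subtype.ext e)), fun h => ?_⟩
    have := hpair i j hij 1 (-1) (by simpa [sub_eq_add_neg] using h)
    exact one_ne_zero this.1
  -- relations have constant coefficients
  have hrel : ∀ c : ι → K, ∑ i, c i • v i = 0 → ∀ i j, c i = c j := by
    intro c hc i j
    rcases eq_or_ne i j with rfl | hij
    · rfl
    obtain ⟨k', hk'⟩ := exists_notMem_fin [o, i.1, j.1] (by simp; omega)
    simp only [List.mem_cons, List.not_mem_nil, or_false, not_or] at hk'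
    let k : ι := ⟨k', hk'.1⟩
    have hio := i.2
    have hjo := j.2
    have hij' : i.1 ≠ j.1 := fun e => hij (Subtype.ext e)
    have h3 : [i.1, j.1, k'].Nodup := by simp; grind
    obtain ⟨T, hT, hTl⟩ := C.move h3
    let σ := (cyc i.1 j.1 k' : Perm (Fin r))
    have hσo : σ o = o := cyc_apply_other (Ne.symm hio) (Ne.symm hjo) (Ne.symm hk'.1)
    let τ : ι ≃ ι := σ.subtypeEquiv (fun x => by
      rw [not_iff_not]
      exact ⟨fun e => by rw [e, hσo], fun e => σ.injective (by rw [e, hσo])⟩)
    have hτi : τ i = j := Subtype.ext (cyc_apply_left hij' (by grind) (by grind))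
    have hτj : τ j = k := Subtype.ext (cyc_apply_mid hij' (by grind) (by grind))
    have hτk : τ k = i := Subtype.ext (cyc_apply_right hij' (by grind))
    have hτo : ∀ m, m ≠ i → m ≠ j → m ≠ k → τ m = m := fun m h1 h2 h3 =>
      Subtype.ext (cyc_apply_other (fun e => h1 (Subtype.ext e)) (fun e => h2 (Subtype.ext e))
        (fun e => h3 (Subtype.ext e)))
    have hscal : ∀ m : ι, ∃ s : K, T (v m) = s • v (τ m) := fun m => by
      refine C.mem_eq_smul (a := o) (b := σ m.1) (fun e => (τ m).2 e.symm) (hu _ (τ m).2)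
        (hu0 _ _) ?_
      have := Submodule.mem_map_of_mem (f := T) (hu m.1 m.2)
      rwa [hTl o m.1 (Ne.symm m.2), show (cyc i.1 j.1 k' : Perm (Fin r)) o = o from hσo] at this
    choose s hs using hscal
    have huni : ∀ m m', s m = s m' := by
      intro m m'
      rcases eq_or_ne m m' with rfl | hmm
      · rfl
      have hτ : τ m ≠ τ m' := τ.injective.ne hmm
      have h1 := Submodule.mem_map_of_mem (f := T) (hdl m m' hmm).1
      rw [hTl m.1 m'.1 (fun e => hmm (Subtype.ext e)), map_sub, hs, hs] at h1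
      obtain ⟨z, hz⟩ := C.mem_eq_smul (fun e => hτ (Subtype.ext e)) (hdl _ _ hτ).1 (hdl _ _ hτ).2 h1
      have := hpair _ _ hτ (s m - z) (z - s m') (by
        rw [sub_smul, sub_smul]
        rw [smul_sub] at hz
        calc s m • v (τ m) - z • v (τ m) + (z • v (τ m') - s m' • v (τ m'))
            = (s m • v (τ m) - s m' • v (τ m')) - (z • v (τ m) - z • v (τ m')) := by abel
          _ = 0 := by rw [hz, sub_self])
      rw [sub_eq_zero.mp this.1, sub_eq_zero.mp this.2]
    have hs0 : s i ≠ 0 := fun h0 => by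
      have := hs i
      rw [h0, zero_smul] at this
      exact hu0 i.1 i.2 (hT (this.trans (map_zero T).symm))
    have hc2 : ∑ m, c m • v (τ m) = 0 := by
      have := congrArg T hc
      rw [map_sum, map_zero] at this
      simp_rw [map_smul, hs, huni _ i, smul_comm _ (s i), ← Finset.smul_sum] at this
      exact (smul_eq_zero.mp this).resolve_left hs0
    have hc3 : ∑ m, c (τ.symm m) • v m = 0 := by
      rw [← τ.sum_comp]; simpa using hc2
    have hki : τ.symm i = k := by rw [τ.symm_apply_eq, hτk]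
    have hij2 : τ.symm j = i := by rw [τ.symm_apply_eq, hτi]
    have hjk : τ.symm k = j := by rw [τ.symm_apply_eq, hτj]
    have hik : i ≠ k := fun e => hk'.2.1 (congrArg Subtype.val e).symm
    have hjk' : j ≠ k := fun e => hk'.2.2 (congrArg Subtype.val e).symm
    have hsum : ∑ m, (c m - c (τ.symm m)) • v m = 0 := by
      simp [sub_smul, Finset.sum_sub_distrib, hc, hc3]
    have hzero : ∀ m, m ∉ ({i, j, k} : Finset ι) → (c m - c (τ.symm m)) • v m = 0 := by
      intro m hm
      simp only [Finset.mem_insert, Finset.mem_singleton, not_or] at hm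
      have : τ.symm m = m := by rw [τ.symm_apply_eq, hτo m hm.1 hm.2.1 hm.2.2]
      rw [this, sub_self, zero_smul]
    rw [← Finset.sum_subset (Finset.subset_univ ({i, j, k} : Finset ι)) (fun m _ hm => hzero m hm),
      Finset.sum_insert (by simp [hij, hik]), Finset.sum_insert (by simp [hjk']),
      Finset.sum_singleton, hki, hij2, hjk] at hsum
    have hlin : (c i - c k) • (v k - v i) + (c j - c i) • (v k - v j) = 0 := by
      rw [← neg_eq_zero, ← hsum]
      module
    exact (sub_eq_zero.mp (C.eq_zero_of_two (a := k') (b := i.1) (c := j.1) (by simp; grind)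
      (hdl k i hik.symm).1 (hdl k j hjk'.symm).1 (hdl k i hik.symm).2 (hdl k j hjk'.symm).2 hlin).2).symm
  have hcard : Fintype.card ι = r - 1 := by simp [ι, Fintype.card_subtype_compl]
  -- families missing one point are independent
  let q' : ι := ⟨q, Ne.symm hoq⟩
  have hsub : ∀ m : ι, LinearIndependent K (fun i : {i : ι // i ≠ m} => v i.1) := by
    intro m
    rw [Fintype.linearIndependent_iff]
    intro g hg i
    let c : ι → K := fun x => if h : x ≠ m then g ⟨x, h⟩ else 0
    have hc : ∑ x, c x • v x = 0 := by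
      rw [Fintype.sum_eq_add_sum_compl m, show c m = 0 by simp [c], zero_smul, zero_add,
        Finset.sum_subtype ({m}ᶜ : Finset ι) (p := fun x => x ≠ m) (by simp) (fun x => c x • v x)]
      refine Eq.trans (Finset.sum_congr rfl fun x _ => ?_) hg
      simp [c, x.2]
    have := hrel c hc i.1 m
    simpa [c, i.2] using this
  have hm2 : r - 2 ≤ Module.finrank K V := by
    have h1 := (hsub q').fintype_card_le_finrank
    rw [Fintype.card_subtype_compl, Fintype.card_subtype_eq, hcard] at h1
    omega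
  refine ⟨by omega, fun hr0 => ?_⟩
  by_contra hlt
  have hdep : ¬ LinearIndependent K v := fun h => by
    have := h.fintype_card_le_finrank
    omega
  obtain ⟨c, hc, m, hm⟩ := Fintype.not_linearIndependent_iff.mp hdep
  have hS : ∑ i, v i = 0 := by
    have : ∑ i, c m • v i = 0 := by
      rw [← hc]
      exact Finset.sum_congr rfl fun i _ => by rw [hrel c hc i m]
    rw [← Finset.smul_sum] at this
    exact (smul_eq_zero.mp this).resolve_left hm
  -- apply a three-cycle moving the base point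
  obtain ⟨t', ht'⟩ := exists_notMem_fin [o, q] (by simp; omega)
  simp only [List.mem_cons, List.not_mem_nil, or_false, not_or] at ht'
  let t : ι := ⟨t', ht'.1⟩
  have h3 : [o, q, t'].Nodup := by simp; grind
  obtain ⟨T, hT, hTl⟩ := C.move h3
  have hqt : q' ≠ t := fun e => ht'.2 (congrArg Subtype.val e).symm
  have e1 : ∃ a : K, T (v q') = a • (v t - v q') := by
    have := Submodule.mem_map_of_mem (f := T) (hu q (Ne.symm hoq))
    rw [hTl o q hoq, cyc_apply_left hoq (Ne.symm ht'.2) (Ne.symm ht'.1),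
      cyc_apply_mid hoq (Ne.symm ht'.2) (Ne.symm ht'.1), C.symm (Ne.symm ht'.2)] at this
    exact C.mem_eq_smul ht'.2 (hdl t q' hqt.symm).1 (hdl t q' hqt.symm).2 this
  have e2 : ∃ b : K, T (v t) = b • v q' := by
    have := Submodule.mem_map_of_mem (f := T) (hu t' ht'.1)
    rw [hTl o t' (Ne.symm ht'.1), cyc_apply_left hoq (Ne.symm ht'.2) (Ne.symm ht'.1),
      cyc_apply_right hoq (Ne.symm ht'.2), C.symm (Ne.symm hoq)] at this
    exact C.mem_eq_smul hoq (hu q (Ne.symm hoq)) (hu0 q _) this
  have e3 : ∀ m : ι, m ≠ q' → m ≠ t → ∃ z : K, T (v m) = z • (v m - v q') := by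
    intro m hm1 hm2
    have := Submodule.mem_map_of_mem (f := T) (hu m.1 m.2)
    rw [hTl o m.1 (Ne.symm m.2), cyc_apply_left hoq (Ne.symm ht'.2) (Ne.symm ht'.1),
      cyc_apply_other m.2 (fun e => hm1 (Subtype.ext e)) (fun e => hm2 (Subtype.ext e)),
      C.symm (fun e => hm1 (Subtype.ext e.symm))] at this
    exact C.mem_eq_smul (fun e => hm1 (Subtype.ext e)) (hdl m q' hm1).1 (hdl m q' hm1).2 this
  obtain ⟨a, ha⟩ := e1
  obtain ⟨b, hb⟩ := e2
  have hab : b = -a := by
    have := Submodule.mem_map_of_mem (f := T) (hdl q' t hqt).1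
    rw [hTl q t' (Ne.symm ht'.2), cyc_apply_mid hoq (Ne.symm ht'.2) (Ne.symm ht'.1),
      cyc_apply_right hoq (Ne.symm ht'.2), map_sub, ha, hb, C.symm ht'.1] at this
    obtain ⟨z, hz⟩ := C.mem_eq_smul (Ne.symm ht'.1) (hu t' ht'.1) (hu0 _ _) this
    have hq0 : (-a - b) • v q' + (a - z) • v t = 0 := by
      have hz' : a • (v t - v q') - b • v q' - z • v t = 0 := sub_eq_zero.mpr hz
      rw [← hz']
      module
    exact (sub_eq_zero.mp (hpair q' t hqt _ _ hq0).1).symm
  have ha0 : a ≠ 0 := fun h => by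
    rw [h, zero_smul] at ha
    exact hu0 q _ (hT (ha.trans (map_zero T).symm))
  have hz_eq : ∀ m : ι, m ≠ q' → m ≠ t → T (v m) = a • (v m - v q') := by
    intro m hm1 hm2
    obtain ⟨z, hz⟩ := e3 m hm1 hm2
    suffices z = a by rw [hz, this]
    have := Submodule.mem_map_of_mem (f := T) (hdl q' m (Ne.symm hm1)).1
    rw [hTl q m.1 (fun e => hm1 (Subtype.ext e.symm)),
      cyc_apply_mid hoq (Ne.symm ht'.2) (Ne.symm ht'.1),
      cyc_apply_other m.2 (fun e => hm1 (Subtype.ext e)) (fun e => hm2 (Subtype.ext e)),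
      map_sub, ha, hz] at this
    obtain ⟨w, hw⟩ := C.mem_eq_smul (fun e => hm2 (Subtype.ext e.symm)) (hdl t m (Ne.symm hm2)).1
      (hdl t m (Ne.symm hm2)).2 this
    obtain ⟨x', hx'⟩ := exists_notMem_fin [o, q, t', m.1] (by simp; omega)
    simp only [List.mem_cons, List.not_mem_nil, or_false, not_or] at hx'
    let x : ι := ⟨x', hx'.1⟩
    let g : {i : ι // i ≠ x} → K := fun i =>
      (if i.1 = t then a - w else 0) + (if i.1 = q' then z - a else 0) +
        (if i.1 = m then w - z else 0)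
    have hxt : t ≠ x := fun e => hx'.2.2.1 (congrArg Subtype.val e).symm
    have hxq : q' ≠ x := fun e => hx'.2.1 (congrArg Subtype.val e).symm
    have hxm : m ≠ x := fun e => hx'.2.2.2 (congrArg Subtype.val e).symm
    have hsum : ∑ i, g i • v i.1 = 0 := by
      have hw' : a • (v t - v q') - z • (v m - v q') - w • (v t - v m) = 0 := sub_eq_zero.mpr hw
      rw [← hw']
      simp only [g, add_smul, Finset.sum_add_distrib, ite_smul, zero_smul]
      rw [Finset.sum_eq_single ⟨t, hxt⟩ (fun b _ hb => if_neg fun e => hb (Subtype.ext e))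
          (by simp), Finset.sum_eq_single ⟨q', hxq⟩
          (fun b _ hb => if_neg fun e => hb (Subtype.ext e)) (by simp),
        Finset.sum_eq_single ⟨m, hxm⟩ (fun b _ hb => if_neg fun e => hb (Subtype.ext e)) (by simp)]
      rw [if_pos rfl, if_pos rfl, if_pos rfl]
      module
    have := Fintype.linearIndependent_iff.mp (hsub x) g hsum ⟨q', hxq⟩
    simp only [g, if_pos rfl, if_neg hqt, if_neg (Ne.symm hm1), zero_add, add_zero] at this
    exact sub_eq_zero.mp this
  have hTS := congrArg T hS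
  rw [map_sum, map_zero] at hTS
  have hsplit : ∀ f : ι → V, ∑ i, f i = f q' + (f t + ∑ i ∈ ({q', t} : Finset ι)ᶜ, f i) := by
    intro f
    rw [← Finset.sum_add_sum_compl ({q', t} : Finset ι) f, Finset.sum_insert (by simp [hqt]),
      Finset.sum_singleton, add_assoc]
  rw [hsplit, ha, hb, hab, Finset.sum_congr rfl (fun i hi => by
    simp only [Finset.mem_compl, Finset.mem_insert, Finset.mem_singleton, not_or] at hi
    exact hz_eq i hi.1 hi.2), ← Finset.smul_sum, Finset.sum_sub_distrib, Finset.sum_const] at hTS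
  rw [hsplit] at hS
  have hcount : (({q', t} : Finset ι)ᶜ).card = r - 3 := by
    rw [Finset.card_compl, Finset.card_pair hqt, hcard]; omega
  rw [hcount] at hTS
  have hR : (∑ i ∈ ({q', t} : Finset ι)ᶜ, v i) = -(v q') - v t := by
    rw [← sub_eq_zero, ← hS]; abel
  rw [hR, ← Nat.cast_smul_eq_nsmul K, Nat.cast_sub (by omega : 3 ≤ r)] at hTS
  have hfin : (a * (r : K)) • v q' = 0 := by
    rw [← neg_eq_zero, ← hTS]
    module
  rcases smul_eq_zero.mp hfin with h | h
  · exact hr0 ((mul_eq_zero.mp h).resolve_left ha0)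
  · exact hu0 q _ h

end LineConfig

end CfsgAltMinDeg
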