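import Cfsg.Agent.AltMinDeg.CoprimeBasic

/-!
Lifts of the four-group on four points in characteristic different from two.
-/

set_option autoImplicit false

namespace CfsgAltMinDeg

open Equiv Equiv.Perm

variable {r : ℕ} {K : Type} [Field K] {V : Type} [AddCommGroup V] [Module K V]
  {H : Type} [Group H] {ρ : H →* Module.End K V} {φ : H →* alternatingGroup (Fin r)}

/-- A lift of the double transposition `(ac)(bd)`. -/
noncomputable def quadLift (hR : IsAltRep ρ φ) (a b c d : Fin r) : Module.End K V :=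
  hR.L a b c * hR.L a b d

theorem nodup_quad {a b c d : Fin r} (h : [a, b, c, d].Nodup) :
    [a, b, c].Nodup ∧ [a, b, d].Nodup ∧ [a, c, d].Nodup ∧ [b, c, d].Nodup ∧
      [b, a, c, d].Nodup ∧ [a, b, d, c].Nodup ∧ [a, c, b, d].Nodup := by
  simp only [List.nodup_cons, List.mem_cons, List.not_mem_nil, List.nodup_nil, or_false, not_or,
    not_false_eq_true, and_true] at h ⊢
  grind

theorem quadLift_conj (hR : IsAltRep ρ φ) (hr : 9 ≤ r) (g : H) {a b c d : Fin r}
    (h : [a, b, c, d].Nodup) :
    ρ g * quadLift hR a b c d =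
      quadLift hR ((φ g).1 a) ((φ g).1 b) ((φ g).1 c) ((φ g).1 d) * ρ g := by
  obtain ⟨h1, h2, -⟩ := nodup_quad h
  rw [quadLift, quadLift, ← mul_assoc, hR.L_move hr g h1, mul_assoc, hR.L_move hr g h2, ← mul_assoc]

theorem quadLift_commute (hR : IsAltRep ρ φ) (hr : 9 ≤ r) (g : H) {a b c d : Fin r}
    (h : [a, b, c, d].Nodup) (ha : (φ g).1 a = a) (hb : (φ g).1 b = b) (hc : (φ g).1 c = c)
    (hd : (φ g).1 d = d) : Commute (ρ g) (quadLift hR a b c d) := by
  have := quadLift_conj hR hr g h
  rwa [ha, hb, hc, hd] at this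

theorem quadLift_eq_rho (hR : IsAltRep ρ φ) (hr : 9 ≤ r) {a b c d : Fin r}
    (h : [a, b, c, d].Nodup) :
    ∃ g : H, ρ g = quadLift hR a b c d ∧ φ g = cyc a b c * cyc a b d ∧ φ g ≠ 1 := by
  obtain ⟨h1, h2, -⟩ := nodup_quad h
  obtain ⟨g1, hg1, hL1⟩ := hR.L_eq_rho hr h1
  obtain ⟨g2, hg2, hL2⟩ := hR.L_eq_rho hr h2
  refine ⟨g1 * g2, by rw [map_mul, ← hL1, ← hL2]; rfl, by rw [map_mul, hg1, hg2], fun he => ?_⟩
  rw [map_mul, hg1, hg2] at he
  have := congrArg (fun σ : alternatingGroup (Fin r) => σ.1 a) he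
  simp only [List.nodup_cons, List.mem_cons, List.not_mem_nil, List.nodup_nil, or_false, not_or,
    not_false_eq_true, and_true] at h
  simp only [Subgroup.coe_mul, Subgroup.coe_one, Perm.mul_apply, Perm.one_apply] at this
  rw [cyc_apply_left (by grind) (by grind) (by grind),
    cyc_apply_mid (by grind) (by grind) (by grind)] at this
  grind

theorem quadLift_sq_scalar (hR : IsAltRep ρ φ) (hr : 9 ≤ r) {a b c d : Fin r}
    (h : [a, b, c, d].Nodup) :
    ∃ ε : K, quadLift hR a b c d * quadLift hR a b c d = ε • 1 := by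
  obtain ⟨g, hg, hφ, -⟩ := quadLift_eq_rho hR hr h
  obtain ⟨ε, hε⟩ := (hR.scalar_iff (g * g)).mp (by
    rw [map_mul, hφ]
    apply Subtype.ext
    refine Equiv.ext fun p => ?_
    simp only [List.nodup_cons, List.mem_cons, List.not_mem_nil, List.nodup_nil, or_false, not_or,
      not_false_eq_true, and_true] at h
    simp only [Subgroup.coe_mul, Subgroup.coe_one, Perm.mul_apply, Perm.one_apply]
    by_cases h1 : p = a
    · subst h1
      grind [cyc_apply_left, cyc_apply_mid, cyc_apply_right, cyc_apply_other]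
    by_cases h2 : p = b
    · subst h2
      grind [cyc_apply_left, cyc_apply_mid, cyc_apply_right, cyc_apply_other]
    by_cases h4 : p = c
    · subst h4
      grind [cyc_apply_left, cyc_apply_mid, cyc_apply_right, cyc_apply_other]
    by_cases h5 : p = d
    · subst h5
      grind [cyc_apply_left, cyc_apply_mid, cyc_apply_right, cyc_apply_other]
    grind [cyc_apply_left, cyc_apply_mid, cyc_apply_right, cyc_apply_other])
  exact ⟨ε, by rw [← hε, map_mul, hg]⟩

theorem L_inv_sq (hR : IsAltRep ρ φ) (hr : 9 ≤ r) {a b c : Fin r} (h : [a, b, c].Nodup) :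
    hR.L a c b = hR.L a b c * hR.L a b c := by
  have h1 := hR.L_swap hr h
  have h3 := hR.L_cube hr h
  rw [pow_succ, pow_succ, pow_one] at h3
  calc hR.L a c b = hR.L a c b * (hR.L a b c * hR.L a b c * hR.L a b c) := by rw [h3, mul_one]
    _ = hR.L a c b * hR.L a b c * (hR.L a b c * hR.L a b c) := by noncomm_ring
    _ = hR.L a b c * hR.L a b c := by rw [h1, one_mul]

theorem L_acd (hR : IsAltRep ρ φ) (hr : 9 ≤ r) {a b c d : Fin r} (h : [a, b, c, d].Nodup) :
    hR.L a c d = hR.L a b c * hR.L a b c * (hR.L a b d * hR.L a b d) * hR.L a b c := by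
  obtain ⟨h1, h2, h3, -⟩ := nodup_quad h
  have hadc : [a, d, c].Nodup := by simp at h ⊢; grind
  obtain ⟨g, hg, hL⟩ := hR.L_eq_rho hr h1
  -- conjugate `L a b d` by the square of `L a b c`
  have hc := hR.L_move hr (g * g) h2
  simp only [List.nodup_cons, List.mem_cons, List.not_mem_nil, List.nodup_nil, or_false, not_or,
    not_false_eq_true, and_true] at h
  have e1 : (φ (g * g)).1 a = c := by
    rw [map_mul, hg, Subgroup.coe_mul, Perm.mul_apply]
    grind [cyc_apply_left, cyc_apply_mid, cyc_apply_right, cyc_apply_other]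
  have e2 : (φ (g * g)).1 b = a := by
    rw [map_mul, hg, Subgroup.coe_mul, Perm.mul_apply]
    grind [cyc_apply_left, cyc_apply_mid, cyc_apply_right, cyc_apply_other]
  have e3 : (φ (g * g)).1 d = d := by
    rw [map_mul, hg, Subgroup.coe_mul, Perm.mul_apply]
    grind [cyc_apply_left, cyc_apply_mid, cyc_apply_right, cyc_apply_other]
  rw [e1, e2, e3, map_mul, ← hL] at hc
  have hrot : hR.L c a d = hR.L a d c := by
    rw [hR.L_rot hr (a := c) (b := a) (c := d) (by simp; grind)]
  rw [hrot, L_inv_sq hR hr h3] at hc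
  -- so `(x x y x) = L(acd)²`; invert
  have hx3 := hR.L_cube hr h1
  rw [pow_succ, pow_succ, pow_one] at hx3
  have hy3 := hR.L_cube hr h2
  rw [pow_succ, pow_succ, pow_one] at hy3
  have hz3 := hR.L_cube hr h3
  rw [pow_succ, pow_succ, pow_one] at hz3
  generalize hR.L a b c = x at *
  generalize hR.L a b d = y at *
  generalize hR.L a c d = z at *
  have hw : x * x * y * x = z * z := by
    calc x * x * y * x = z * z * (x * x * x) := by rw [hc]; noncomm_ring
      _ = z * z := by rw [hx3, mul_one]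
  calc z = z * (x * x * (y * y * y) * x) := by rw [hy3, mul_one, hx3, mul_one]
    _ = z * (x * x * y * (x * x * x) * (y * y) * x) := by rw [hx3, mul_one]; noncomm_ring
    _ = z * (x * x * y * x) * (x * x * (y * y) * x) := by noncomm_ring
    _ = x * x * (y * y) * x := by rw [hw, ← mul_assoc z, hz3, one_mul]

theorem exists_swap_first (hR : IsAltRep ρ φ) (hr : 9 ≤ r) {a b c d : Fin r}
    (h : [a, b, c, d].Nodup) :
    ∃ g : H, (φ g).1 a = b ∧ (φ g).1 b = a ∧ (φ g).1 c = c ∧ (φ g).1 d = d := by
  obtain ⟨-, -, -, -, h', -⟩ := nodup_quad h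
  obtain ⟨σ, hσ⟩ := exists_map_fin [a, b, c, d] [b, a, c, d] h h' rfl (by simp; omega)
  simp only [List.map_cons, List.map_nil, List.cons.injEq, and_true] at hσ
  obtain ⟨g, hg⟩ := hR.surj σ
  exact ⟨g, by rw [hg]; exact hσ⟩

theorem quadLift_flip (hR : IsAltRep ρ φ) (hr : 9 ≤ r) {a b c d : Fin r}
    (h : [a, b, c, d].Nodup) :
    quadLift hR b a c d * quadLift hR a b d c = 1 := by
  obtain ⟨h1, h2, -, -, h', -⟩ := nodup_quad h
  have hb1 : hR.L b a c = hR.L a b c * hR.L a b c := by
    rw [← L_inv_sq hR hr h1, ← hR.L_rot hr (a := b) (b := a) (c := c) (by simp at h ⊢; grind)]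
  have hb2 : hR.L b a d = hR.L a b d * hR.L a b d := by
    rw [← L_inv_sq hR hr h2, ← hR.L_rot hr (a := b) (b := a) (c := d) (by simp at h ⊢; grind)]
  have hx3 := hR.L_cube hr h1
  rw [pow_succ, pow_succ, pow_one] at hx3
  have hy3 := hR.L_cube hr h2
  rw [pow_succ, pow_succ, pow_one] at hy3
  rw [quadLift, quadLift, hb1, hb2]
  calc _ = hR.L a b c * hR.L a b c * (hR.L a b d * hR.L a b d * hR.L a b d) * hR.L a b c := by
        noncomm_ring
    _ = 1 := by rw [hy3, mul_one, hx3]

/-- The square of a lift of a double transposition is a sign. -/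
theorem sign_quad [Nontrivial V] (hR : IsAltRep ρ φ) (hr : 9 ≤ r) {a b c d : Fin r}
    (h : [a, b, c, d].Nodup) {ε : K}
    (hε : quadLift hR a b c d * quadLift hR a b c d = ε • 1) :
    quadLift hR a b d c * quadLift hR a b d c = ε • 1 ∧ ε * ε = 1 ∧
      quadLift hR a b c d * quadLift hR a b d c =
        ε • (quadLift hR a b d c * quadLift hR a b c d) := by
  obtain ⟨h1, h2, -⟩ := nodup_quad h
  have hx3 := hR.L_cube hr h1
  rw [pow_succ, pow_succ, pow_one] at hx3
  have hy3 := hR.L_cube hr h2
  rw [pow_succ, pow_succ, pow_one] at hy3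
  have hB : quadLift hR a b d c * quadLift hR a b d c = ε • 1 := by
    unfold quadLift at hε ⊢
    generalize hR.L a b c = x at *
    generalize hR.L a b d = y at *
    calc y * x * (y * x) = x * x * x * (y * x * (y * x)) := by rw [hx3, one_mul]
      _ = x * x * (x * y * (x * y)) * x := by noncomm_ring
      _ = ε • 1 := by rw [hε, mul_smul_comm, mul_one, smul_mul_assoc, hx3]
  have hε2 : ε * ε = 1 := by
    obtain ⟨g, ga, gb, gc, gd⟩ := exists_swap_first hR hr h
    have hcj := quadLift_conj hR hr g h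
    rw [ga, gb, gc, gd] at hcj
    have hfl := quadLift_flip hR hr h
    have hAA : quadLift hR b a c d * quadLift hR b a c d = ε • 1 := by
      have e : quadLift hR b a c d = ρ g * quadLift hR a b c d * ρ g⁻¹ := by
        rw [hcj, mul_assoc, ← map_mul, mul_inv_cancel, map_one, mul_one]
      rw [e]
      calc ρ g * quadLift hR a b c d * ρ g⁻¹ * (ρ g * quadLift hR a b c d * ρ g⁻¹)
          = ρ g * quadLift hR a b c d * (ρ g⁻¹ * ρ g) * quadLift hR a b c d * ρ g⁻¹ := by
            noncomm_ring
        _ = ρ g * (quadLift hR a b c d * quadLift hR a b c d) * ρ g⁻¹ := by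
            rw [← map_mul ρ g⁻¹ g, inv_mul_cancel, map_one]; noncomm_ring
        _ = ε • 1 := by
            rw [hε, mul_smul_comm, mul_one, smul_mul_assoc, ← map_mul, mul_inv_cancel, map_one]
    have : (ε * ε) • (1 : Module.End K V) = 1 := by
      calc (ε * ε) • (1 : Module.End K V) = (ε • 1) * (ε • 1) := by
            rw [smul_mul_smul_comm, one_mul]
        _ = quadLift hR b a c d * quadLift hR b a c d *
            (quadLift hR a b d c * quadLift hR a b d c) := by rw [hAA, hB]
        _ = quadLift hR b a c d * (quadLift hR b a c d * quadLift hR a b d c) *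
            quadLift hR a b d c := by noncomm_ring
        _ = 1 := by rw [hfl, mul_one, hfl]
    exact smul_left_injective K (one_ne_zero (α := Module.End K V)) (this.trans (one_smul K _).symm)
  refine ⟨hB, hε2, ?_⟩
  unfold quadLift at hε hB ⊢
  generalize hR.L a b c = x at *
  generalize hR.L a b d = y at *
  have e1 : x * y * x = ε • (y * y) := by
    calc x * y * x = x * y * x * (y * y * y) := by rw [hy3, mul_one]
      _ = x * y * (x * y) * (y * y) := by noncomm_ring
      _ = ε • (y * y) := by rw [hε, smul_mul_assoc, one_mul]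
  have e2 : y * x * y = ε • (x * x) := by
    calc y * x * y = y * x * y * (x * x * x) := by rw [hx3, mul_one]
      _ = y * x * (y * x) * (x * x) := by noncomm_ring
      _ = ε • (x * x) := by rw [hB, smul_mul_assoc, one_mul]
  have e1' : y * y = ε • (x * y * x) := by rw [e1, smul_smul, hε2, one_smul]
  have e2' : x * x = ε • (y * x * y) := by rw [e2, smul_smul, hε2, one_smul]
  calc x * y * (y * x) = x * (y * y) * x := by noncomm_ring
    _ = ε • (x * x * y * (x * x)) := by
        rw [e1', mul_smul_comm, smul_mul_assoc]; congr 1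
    _ = ε • ((ε * ε) • (y * x * (y * y * y) * x * y)) := by
        rw [e2']
        simp only [smul_mul_assoc, mul_smul_comm, smul_smul]
        congr 1
    _ = ε • (y * x * (x * y)) := by
        rw [hy3, mul_one, hε2, one_smul]; congr 1

theorem quadLift_acbd (hR : IsAltRep ρ φ) (hr : 9 ≤ r) {a b c d : Fin r}
    (h : [a, b, c, d].Nodup) :
    quadLift hR a c b d = quadLift hR a b c d * quadLift hR a b d c := by
  obtain ⟨h1, h2, -⟩ := nodup_quad h
  have hx3 := hR.L_cube hr h1
  rw [pow_succ, pow_succ, pow_one] at hx3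
  rw [quadLift, L_inv_sq hR hr h1, L_acd hR hr h, quadLift, quadLift]
  calc _ = hR.L a b c * (hR.L a b c * hR.L a b c * hR.L a b c) *
        (hR.L a b d * hR.L a b d) * hR.L a b c := by noncomm_ring
    _ = _ := by rw [hx3, mul_one]; noncomm_ring

theorem quadLift_acdb (hR : IsAltRep ρ φ) (hr : 9 ≤ r) {a b c d : Fin r}
    (h : [a, b, c, d].Nodup) :
    quadLift hR a c d b = quadLift hR b a c d := by
  obtain ⟨h1, h2, -⟩ := nodup_quad h
  have hx3 := hR.L_cube hr h1
  rw [pow_succ, pow_succ, pow_one] at hx3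
  have hb1 : hR.L b a c = hR.L a b c * hR.L a b c := by
    rw [← L_inv_sq hR hr h1, ← hR.L_rot hr (a := b) (b := a) (c := c) (by simp at h ⊢; grind)]
  have hb2 : hR.L b a d = hR.L a b d * hR.L a b d := by
    rw [← L_inv_sq hR hr h2, ← hR.L_rot hr (a := b) (b := a) (c := d) (by simp at h ⊢; grind)]
  rw [quadLift, quadLift, L_inv_sq hR hr h1, L_acd hR hr h, hb1, hb2]
  calc _ = hR.L a b c * hR.L a b c * (hR.L a b d * hR.L a b d) *
        (hR.L a b c * hR.L a b c * hR.L a b c) := by noncomm_ring
    _ = _ := by rw [hx3, mul_one]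

end CfsgAltMinDeg
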