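import Cfsg.Agent.AltMinDeg.QuadBasic

/-!
The space moved by the lifted four-group on four points, when the lifts are involutions.
-/

set_option autoImplicit false

namespace CfsgAltMinDeg

open Equiv Equiv.Perm

variable {r : ℕ} {K : Type} [Field K] {V : Type} [AddCommGroup V] [Module K V]
  {H : Type} [Group H] {ρ : H →* Module.End K V} {φ : H →* alternatingGroup (Fin r)}

/-- All lifts of double transpositions are involutions. -/
def Unsigned (hR : IsAltRep ρ φ) : Prop :=
  ∀ {a b c d : Fin r}, [a, b, c, d].Nodup → quadLift hR a b c d * quadLift hR a b c d = 1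

/-- The space moved by the four-group on four points. -/
noncomputable def quadSpace (hR : IsAltRep ρ φ) (a b c d : Fin r) : Submodule K V :=
  LinearMap.range (quadLift hR a b c d - 1) ⊔ LinearMap.range (quadLift hR a b d c - 1)

/-- The space fixed by the four-group on four points. -/
noncomputable def quadFix (hR : IsAltRep ρ φ) (a b c d : Fin r) : Submodule K V :=
  LinearMap.ker (quadLift hR a b c d - 1) ⊓ LinearMap.ker (quadLift hR a b d c - 1)

theorem unsigned_commute [Nontrivial V] (hR : IsAltRep ρ φ) (hr : 9 ≤ r) (hu : Unsigned hR)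
    {a b c d : Fin r} (h : [a, b, c, d].Nodup) :
    quadLift hR a b c d * quadLift hR a b d c = quadLift hR a b d c * quadLift hR a b c d := by
  have := (sign_quad hR hr h (ε := 1) (by rw [one_smul]; exact hu h)).2.2
  rwa [one_smul] at this

theorem range_mul_sub_one_le {A B : Module.End K V} :
    LinearMap.range (A * B - 1) ≤ LinearMap.range (A - 1) ⊔ LinearMap.range (B - 1) := by
  rintro _ ⟨v, rfl⟩
  refine Submodule.mem_sup.mpr ⟨(A - 1) (B v), ⟨_, rfl⟩, (B - 1) v, ⟨_, rfl⟩, ?_⟩
  simp

theorem quadSpace_rel [Nontrivial V] (hR : IsAltRep ρ φ) (hr : 9 ≤ r) (hu : Unsigned hR)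
    {a b c d : Fin r} (h : [a, b, c, d].Nodup) :
    quadSpace hR a b d c = quadSpace hR a b c d ∧ quadSpace hR b a c d = quadSpace hR a b c d ∧
      quadSpace hR a c b d = quadSpace hR a b c d := by
  obtain ⟨h1, h2, -, -, h', hdc, hcb⟩ := nodup_quad h
  have hdcb : [b, a, d, c].Nodup := by simp at h ⊢; grind
  refine ⟨sup_comm _ _, ?_, ?_⟩
  · have hfl := quadLift_flip hR hr h
    have hfl2 := quadLift_flip hR hr hdc
    have e1 : quadLift hR b a c d = quadLift hR a b d c := by
      calc quadLift hR b a c d
          = quadLift hR b a c d * (quadLift hR a b d c * quadLift hR a b d c) := by rw [hu hdc, mul_one]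
        _ = quadLift hR a b d c := by rw [← mul_assoc, hfl, one_mul]
    have e2 : quadLift hR b a d c = quadLift hR a b c d := by
      calc quadLift hR b a d c
          = quadLift hR b a d c * (quadLift hR a b c d * quadLift hR a b c d) := by rw [hu h, mul_one]
        _ = quadLift hR a b c d := by rw [← mul_assoc, hfl2, one_mul]
    rw [quadSpace, quadSpace, e1, e2, sup_comm]
  · have hfl := quadLift_flip hR hr h
    have e1 : quadLift hR a c d b = quadLift hR a b d c := by
      rw [quadLift_acdb hR hr h]
      calc quadLift hR b a c d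
          = quadLift hR b a c d * (quadLift hR a b d c * quadLift hR a b d c) := by rw [hu hdc, mul_one]
        _ = quadLift hR a b d c := by rw [← mul_assoc, hfl, one_mul]
    rw [quadSpace, quadSpace, e1, quadLift_acbd hR hr h]
    refine le_antisymm (sup_le range_mul_sub_one_le le_sup_right) (sup_le ?_ le_sup_right)
    have e : quadLift hR a b c d =
        quadLift hR a b c d * quadLift hR a b d c * quadLift hR a b d c := by
      rw [mul_assoc, hu hdc, mul_one]
    conv_lhs => rw [e]
    exact range_mul_sub_one_le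

theorem range_map_eq {A A' : Module.End K V} (g : H) (h : ρ g * A = A' * ρ g) :
    (LinearMap.range (A - 1)).map (ρ g) = LinearMap.range (A' - 1) := by
  apply le_antisymm
  · rintro _ ⟨_, ⟨v, rfl⟩, rfl⟩
    refine ⟨ρ g v, ?_⟩
    have := LinearMap.congr_fun h v
    simp only [Module.End.mul_apply] at this
    simp [this]
  · rintro _ ⟨v, rfl⟩
    have hgg : ρ g (ρ g⁻¹ v) = v := by
      rw [← Module.End.mul_apply, ← map_mul, mul_inv_cancel, map_one, Module.End.one_apply]
    refine ⟨_, ⟨ρ g⁻¹ v, rfl⟩, ?_⟩
    have := LinearMap.congr_fun h (ρ g⁻¹ v)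
    simp only [Module.End.mul_apply, hgg] at this
    simp [this, hgg]

theorem map_quadSpace (hR : IsAltRep ρ φ) (hr : 9 ≤ r) (g : H) {a b c d : Fin r}
    (h : [a, b, c, d].Nodup) :
    (quadSpace hR a b c d).map (ρ g) =
      quadSpace hR ((φ g).1 a) ((φ g).1 b) ((φ g).1 c) ((φ g).1 d) := by
  obtain ⟨-, -, -, -, -, hdc, -⟩ := nodup_quad h
  rw [quadSpace, quadSpace, Submodule.map_sup, range_map_eq g (quadLift_conj hR hr g h),
    range_map_eq g (quadLift_conj hR hr g hdc)]

theorem range_sub_eq_eigen {A : Module.End K V} (h2 : (2 : K) ≠ 0) (hA : A * A = 1) :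
    LinearMap.range (A - 1) = Module.End.eigenspace A (-1) := by
  apply le_antisymm
  · rintro _ ⟨v, rfl⟩
    rw [Module.End.mem_eigenspace_iff, LinearMap.sub_apply, Module.End.one_apply, map_sub,
      ← Module.End.mul_apply, hA, Module.End.one_apply]
    module
  · intro v hv
    rw [Module.End.mem_eigenspace_iff] at hv
    refine ⟨-((2 : K)⁻¹ • v), ?_⟩
    rw [map_neg, map_smul, LinearMap.sub_apply, Module.End.one_apply, hv]
    calc -((2 : K)⁻¹ • ((-1 : K) • v - v)) = ((2 : K)⁻¹ * 2) • v := by module
      _ = v := by rw [inv_mul_cancel₀ h2, one_smul]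

theorem quadSpace_inf_quadFix [Nontrivial V] (hR : IsAltRep ρ φ) (hr : 9 ≤ r) (hu : Unsigned hR)
    (h2 : (2 : K) ≠ 0) {a b c d : Fin r} (h : [a, b, c, d].Nodup) :
    quadSpace hR a b c d ⊓ quadFix hR a b c d = ⊥ := by
  obtain ⟨-, -, -, -, -, hdc, -⟩ := nodup_quad h
  have hAA := hu h
  have hBB := hu hdc
  have hAB := unsigned_commute hR hr hu h
  unfold quadSpace quadFix
  generalize quadLift hR a b c d = A at *
  generalize quadLift hR a b d c = B at *
  let P := (1 + A) * (1 + B)
  have hk : LinearMap.range (A - 1) ⊔ LinearMap.range (B - 1) ≤ LinearMap.ker P := by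
    refine sup_le ?_ ?_ <;> rw [LinearMap.range_le_ker_iff]
    · show P * (A - 1) = 0
      calc P * (A - 1) = (1 + B) * (A * A - 1) + (A * B - B * A) * (A - 1) := by
            simp only [P]; noncomm_ring
        _ = 0 := by rw [hAA, hAB]; simp
    · show P * (B - 1) = 0
      calc P * (B - 1) = (1 + A) * (B * B - 1) := by simp only [P]; noncomm_ring
        _ = 0 := by rw [hBB]; simp
  rw [Submodule.eq_bot_iff]
  rintro v ⟨hv, hA', hB'⟩
  simp only [SetLike.mem_coe, LinearMap.mem_ker, LinearMap.sub_apply, Module.End.one_apply,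
    sub_eq_zero] at hA' hB'
  have h0 := LinearMap.mem_ker.mp (hk hv)
  simp only [P, Module.End.mul_apply, LinearMap.add_apply, Module.End.one_apply, hB', map_add,
    hA'] at h0
  have h4 : ((2 : K) * 2) • v = 0 := by rw [← h0]; module
  exact (smul_eq_zero.mp h4).resolve_left (mul_ne_zero h2 h2)

/-- A simultaneous eigenspace of the two lifts. -/
noncomputable def weightSpace (hR : IsAltRep ρ φ) (a b c d : Fin r) (s t : K) : Submodule K V :=
  Module.End.eigenspace (quadLift hR a b c d) s ⊓ Module.End.eigenspace (quadLift hR a b d c) t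

theorem weight_cycle [Nontrivial V] (hR : IsAltRep ρ φ) (hr : 9 ≤ r) (hu : Unsigned hR)
    {a b c d : Fin r} (h : [a, b, c, d].Nodup) (s t : K) (v : V)
    (hv : v ∈ weightSpace hR a b c d s t) :
    hR.L a b c v ∈ weightSpace hR a b c d t (s * t) := by
  obtain ⟨h1, h2, -, -, -, hdc, -⟩ := nodup_quad h
  have hAA := hu h
  have hAB := unsigned_commute hR hr hu h
  have hx3 := hR.L_cube hr h1
  rw [pow_succ, pow_succ, pow_one] at hx3
  have hy3 := hR.L_cube hr h2
  rw [pow_succ, pow_succ, pow_one] at hy3
  simp only [weightSpace, quadLift, Submodule.mem_inf, Module.End.mem_eigenspace_iff] at hv ⊢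
  unfold quadLift at hAA hAB
  generalize hR.L a b c = x at *
  generalize hR.L a b d = y at *
  have e : x * y * x = y * y := by
    calc x * y * x = x * y * x * (y * y * y) := by rw [hy3, mul_one]
      _ = x * y * (x * y) * (y * y) := by noncomm_ring
      _ = y * y := by rw [hAA, one_mul]
  have eA : x * y * x = x * (y * x) := by noncomm_ring
  have eB : y * x * x = x * (x * y * (y * x)) := by
    calc y * x * x = x * x * x * y * x * x := by rw [hx3, one_mul]
      _ = x * x * (x * y * x) * x := by noncomm_ring
      _ = x * x * (y * y) * x := by rw [e]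
      _ = _ := by noncomm_ring
  constructor
  · calc (x * y) (x v) = (x * y * x) v := rfl
      _ = x ((y * x) v) := by rw [eA]; rfl
      _ = t • x v := by rw [hv.2, map_smul]
  · calc (y * x) (x v) = (y * x * x) v := rfl
      _ = x ((x * y) ((y * x) v)) := by rw [eB]; rfl
      _ = (s * t) • x v := by rw [hv.2, map_smul, hv.1, smul_smul, map_smul, mul_comm t s]

variable [FiniteDimensional K V]

theorem eigen_split (h2 : (2 : K) ≠ 0) {A B : Module.End K V} (hBB : B * B = 1)
    (hAB : A * B = B * A) (s : K) :
    Module.finrank K (Module.End.eigenspace A s) =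
      Module.finrank K (Module.End.eigenspace A s ⊓ Module.End.eigenspace B 1 : Submodule K V) +
      Module.finrank K (Module.End.eigenspace A s ⊓ Module.End.eigenspace B (-1) : Submodule K V) := by
  have hne : (1 : K) ≠ -1 := fun e => h2 (by linear_combination e)
  have hsum := Submodule.finrank_sup_add_finrank_inf_eq
    (Module.End.eigenspace A s ⊓ Module.End.eigenspace B 1 : Submodule K V)
    (Module.End.eigenspace A s ⊓ Module.End.eigenspace B (-1))
  have h0 : (Module.End.eigenspace A s ⊓ Module.End.eigenspace B 1 : Submodule K V) ⊓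
      (Module.End.eigenspace A s ⊓ Module.End.eigenspace B (-1)) = ⊥ := by
    rw [Submodule.eq_bot_iff]
    rintro v ⟨⟨-, h1⟩, -, h1'⟩
    rw [SetLike.mem_coe, Module.End.mem_eigenspace_iff] at h1 h1'
    have : ((1 : K) - -1) • v = 0 := by rw [sub_smul, ← h1, ← h1', sub_self]
    exact (smul_eq_zero.mp this).resolve_left (sub_ne_zero.mpr hne)
  have hsup : (Module.End.eigenspace A s ⊓ Module.End.eigenspace B 1 : Submodule K V) ⊔
      (Module.End.eigenspace A s ⊓ Module.End.eigenspace B (-1)) = Module.End.eigenspace A s := by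
    refine le_antisymm (sup_le inf_le_left inf_le_left) fun v hv => ?_
    rw [Module.End.mem_eigenspace_iff] at hv
    have hBv : A (B v) = s • B v := by
      rw [← Module.End.mul_apply, hAB, Module.End.mul_apply, hv, map_smul]
    have hBBv : B (B v) = v := by rw [← Module.End.mul_apply, hBB, Module.End.one_apply]
    refine Submodule.mem_sup.mpr ⟨(2 : K)⁻¹ • (v + B v), ⟨?_, ?_⟩, (2 : K)⁻¹ • (v - B v),
      ⟨?_, ?_⟩, ?_⟩
    · rw [SetLike.mem_coe, Module.End.mem_eigenspace_iff, map_smul, map_add, hv, hBv]; module
    · rw [SetLike.mem_coe, Module.End.mem_eigenspace_iff, map_smul, map_add, hBBv]; module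
    · rw [SetLike.mem_coe, Module.End.mem_eigenspace_iff, map_smul, map_sub, hv, hBv]; module
    · rw [SetLike.mem_coe, Module.End.mem_eigenspace_iff, map_smul, map_sub, hBBv]; module
    · calc (2 : K)⁻¹ • (v + B v) + (2 : K)⁻¹ • (v - B v) = ((2 : K)⁻¹ * 2) • v := by module
        _ = v := by rw [inv_mul_cancel₀ h2, one_smul]
  rw [h0, hsup, finrank_bot, add_zero] at hsum
  exact hsum

/-- The three nontrivial weight spaces have equal dimension and make up the moved space. -/
theorem weight_dims [Nontrivial V] (hR : IsAltRep ρ φ) (hr : 9 ≤ r) (hu : Unsigned hR)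
    (h2 : (2 : K) ≠ 0) {a b c d : Fin r} (h : [a, b, c, d].Nodup) :
    Module.finrank K (weightSpace hR a b c d (-1) 1) =
        Module.finrank K (weightSpace hR a b c d (-1) (-1)) ∧
      Module.finrank K (weightSpace hR a b c d 1 (-1)) =
        Module.finrank K (weightSpace hR a b c d (-1) (-1)) ∧
      Module.finrank K (quadSpace hR a b c d) =
        3 * Module.finrank K (weightSpace hR a b c d (-1) (-1)) ∧
      0 < Module.finrank K (weightSpace hR a b c d (-1) (-1)) := by
  obtain ⟨h1, -, -, -, -, hdc, -⟩ := nodup_quad h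
  have hinj : Function.Injective (hR.L a b c) := by
    obtain ⟨g, -, hg⟩ := hR.L_eq_rho hr h1
    rw [hg]
    exact rho_injective g
  have step : ∀ s t : K, Module.finrank K (weightSpace hR a b c d s t) ≤
      Module.finrank K (weightSpace hR a b c d t (s * t)) := fun s t =>
    LinearMap.finrank_le_finrank_of_injective
      (f := (hR.L a b c).restrict (weight_cycle hR hr hu h s t))
      (fun u v huv => Subtype.ext (hinj (congrArg Subtype.val huv)))
  have s1 := step (-1) 1
  have s2 := step 1 (-1)
  have s3 := step (-1) (-1)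
  rw [show (-1 : K) * 1 = -1 by ring] at s1
  rw [show (1 : K) * -1 = -1 by ring] at s2
  rw [show (-1 : K) * -1 = 1 by ring] at s3
  have hA := hu h
  have hB := hu hdc
  have hAB := unsigned_commute hR hr hu h
  have eA := eigen_split h2 hB hAB (-1)
  have eB := eigen_split h2 hA hAB.symm (-1)
  have hinf : Module.End.eigenspace (quadLift hR a b c d) (-1) ⊓
      Module.End.eigenspace (quadLift hR a b d c) (-1) = weightSpace hR a b c d (-1) (-1) := rfl
  have hinf' : Module.End.eigenspace (quadLift hR a b d c) (-1) ⊓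
      Module.End.eigenspace (quadLift hR a b c d) (-1) = weightSpace hR a b c d (-1) (-1) :=
    inf_comm _ _
  have hinf'' : Module.End.eigenspace (quadLift hR a b d c) (-1) ⊓
      Module.End.eigenspace (quadLift hR a b c d) 1 = weightSpace hR a b c d 1 (-1) :=
    inf_comm _ _
  rw [hinf', hinf''] at eB
  rw [hinf, show Module.End.eigenspace (quadLift hR a b c d) (-1) ⊓
    Module.End.eigenspace (quadLift hR a b d c) 1 = weightSpace hR a b c d (-1) 1 from rfl] at eA
  have hsum := Submodule.finrank_sup_add_finrank_inf_eq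
    (LinearMap.range (quadLift hR a b c d - 1)) (LinearMap.range (quadLift hR a b d c - 1))
  have hQ : quadSpace hR a b c d = Module.End.eigenspace (quadLift hR a b c d) (-1) ⊔
      Module.End.eigenspace (quadLift hR a b d c) (-1) := by
    rw [quadSpace, range_sub_eq_eigen h2 hA, range_sub_eq_eigen h2 hB]
  have hsum' := Submodule.finrank_sup_add_finrank_inf_eq
    (Module.End.eigenspace (quadLift hR a b c d) (-1))
    (Module.End.eigenspace (quadLift hR a b d c) (-1))
  rw [hinf, ← hQ] at hsum'
  refine ⟨by omega, by omega, by omega, Nat.pos_of_ne_zero fun h0 => ?_⟩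
  have hz : Module.finrank K (Module.End.eigenspace (quadLift hR a b c d) (-1)) = 0 := by omega
  have h1' : LinearMap.range (quadLift hR a b c d - 1) = ⊥ := by
    rw [range_sub_eq_eigen h2 hA]; exact Submodule.finrank_eq_zero.mp hz
  obtain ⟨g, hg, -, hne⟩ := quadLift_eq_rho hR hr h
  refine hne ((hR.scalar_iff g).mpr ⟨1, ?_⟩)
  rw [hg, one_smul]
  exact sub_eq_zero.mp (LinearMap.range_eq_bot.mp h1')

end CfsgAltMinDeg
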