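import Cfsg.Agent.AltMinDeg.Basic

/-!
Reduction of the degree bound for alternating sections of linear groups to irreducible
groups whose kernel onto the alternating group consists of scalars.
-/

set_option autoImplicit false

namespace CfsgAltMinDeg

open Equiv Equiv.Perm
open scoped commutatorElement

/-- The degree bound, phrased in the field. -/
def Bound (K : Type*) [Field K] (r n : ℕ) : Prop :=
  r ≤ n + 2 ∧ ((r : K) ≠ 0 → r ≤ n + 1)

theorem Bound.mono {K : Type*} [Field K] {r m n : ℕ} (h : Bound K r m) (hmn : m ≤ n) :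
    Bound K r n :=
  ⟨h.1.trans (by omega), fun hr => (h.2 hr).trans (by omega)⟩

theorem add_two_le_of_not_bound {K : Type*} [Field K] {r n : ℕ} (h : ¬ Bound K r n) :
    n + 2 ≤ r := by
  by_contra hc
  exact h ⟨by omega, fun _ => by omega⟩

/-- A group mapped onto the alternating group with exactly the scalars as kernel. -/
structure IsAltRep {K : Type*} [Field K] {V : Type*} [AddCommGroup V] [Module K V] {r : ℕ}
    {H : Type*} [Group H] (ρ : H →* Module.End K V) (φ : H →* alternatingGroup (Fin r)) :
    Prop where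
  surj : Function.Surjective φ
  scalar_iff : ∀ h, φ h = 1 ↔ ∃ c : K, ρ h = c • 1

/-- No proper nonzero invariant subspace. -/
def Irred {K : Type*} [Field K] {V : Type*} [AddCommGroup V] [Module K V]
    {H : Type*} [Group H] (ρ : H →* Module.End K V) : Prop :=
  ∀ W : Submodule K V, (∀ h, ∀ w ∈ W, ρ h w ∈ W) → W = ⊥ ∨ W = ⊤

/-- The bound holds for all sections isomorphic to the alternating group of degree `r`. -/
def Good (r : ℕ) : Prop :=
  ∀ (K : Type) [Field K] [IsAlgClosed K] (V : Type) [AddCommGroup V] [Module K V]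
    [FiniteDimensional K V] (H : Type) [Group H] [Finite H]
    (ρ : H →* Module.End K V) (φ : H →* alternatingGroup (Fin r)),
    Function.Surjective φ → ρ.ker ≤ φ.ker → Bound K r (Module.finrank K V)

variable {r : ℕ}

theorem isSimple (hr : 5 ≤ r) : IsSimpleGroup (alternatingGroup (Fin r)) :=
  alternatingGroup.isSimpleGroup (by simpa using hr)

theorem factorial_bound {m : ℕ} (hr : 9 ≤ r) (hm : m + 2 ≤ r) :
    2 * m.factorial < r.factorial := by
  obtain ⟨k, rfl⟩ : ∃ k, r = k + 2 := ⟨r - 2, by omega⟩
  have h1 : m.factorial ≤ k.factorial := Nat.factorial_le (by omega)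
  have h2 : (k + 2).factorial = (k + 2) * ((k + 1) * k.factorial) := by
    rw [Nat.factorial_succ, Nat.factorial_succ]
  have h3 : 0 < k.factorial := Nat.factorial_pos k
  have h4 : 3 * k.factorial ≤ (k + 2) * ((k + 1) * k.factorial) := by
    rw [← mul_assoc]
    exact Nat.mul_le_mul_right _ (by nlinarith)
  omega

theorem two_mul_card_alt (hr : 9 ≤ r) :
    2 * Nat.card (alternatingGroup (Fin r)) = r.factorial := by
  haveI : Nontrivial (Fin r) := Fin.nontrivial_iff_two_le.mpr (by omega)
  rw [two_mul_nat_card_alternatingGroup, Nat.card_perm, Nat.card_fin]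

section Hom

variable {H : Type*} [Group H] (φ : H →* alternatingGroup (Fin r))

theorem normal_dichotomy (hr : 5 ≤ r) (hφ : Function.Surjective φ)
    (hmin : ∀ S : Subgroup H, S.map φ = ⊤ → S = ⊤) (N : Subgroup H) [hN : N.Normal] :
    N ≤ φ.ker ∨ N = ⊤ := by
  haveI := isSimple hr
  rcases (hN.map φ hφ).eq_bot_or_eq_top with h | h
  · exact Or.inl ((Subgroup.map_eq_bot_iff N).mp h)
  · exact Or.inr (hmin N h)

theorem perfect_of_minimal (hr : 5 ≤ r) (hφ : Function.Surjective φ)
    (hmin : ∀ S : Subgroup H, S.map φ = ⊤ → S = ⊤) : commutator H = ⊤ := by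
  rcases normal_dichotomy φ hr hφ hmin (commutator H) with h | h
  · exfalso
    have hc : ∀ x y : alternatingGroup (Fin r), x * y = y * x := by
      intro x y
      obtain ⟨a, rfl⟩ := hφ x
      obtain ⟨b, rfl⟩ := hφ y
      have hm : ⁅a, b⁆ ∈ φ.ker :=
        h (Subgroup.commutator_mem_commutator (Subgroup.mem_top a) (Subgroup.mem_top b))
      rw [MonoidHom.mem_ker, map_commutatorElement, commutatorElement_eq_one_iff_mul_comm] at hm
      exact hm
    have := alternatingGroup.isMulCommutative_iff_card_le_three.mp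
      (⟨⟨hc⟩⟩ : IsMulCommutative (alternatingGroup (Fin r)))
    simp at this
    omega
  · exact h

theorem not_comm_of_surj (hr : 5 ≤ r) (hφ : Function.Surjective φ) :
    ¬ ∀ a b : H, a * b = b * a := by
  intro h
  have hc : ∀ x y : alternatingGroup (Fin r), x * y = y * x := by
    intro x y
    obtain ⟨a, rfl⟩ := hφ x
    obtain ⟨b, rfl⟩ := hφ y
    rw [← map_mul, ← map_mul, h]
  have := alternatingGroup.isMulCommutative_iff_card_le_three.mp
    (⟨⟨hc⟩⟩ : IsMulCommutative (alternatingGroup (Fin r)))
  simp at this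
  omega

theorem index_ker_le {N : Subgroup H} [Finite H] (hφ : Function.Surjective φ) (hN : N ≤ φ.ker) :
    Nat.card (alternatingGroup (Fin r)) ≤ N.index := by
  have h1 : φ.ker.index = Nat.card (alternatingGroup (Fin r)) := by
    rw [Subgroup.index_ker, MonoidHom.range_eq_top.mpr hφ, Subgroup.card_top]
  rw [← h1]
  exact Nat.le_of_dvd (Nat.pos_of_ne_zero Subgroup.index_ne_zero_of_finite)
    (Subgroup.index_dvd_of_le hN)

theorem trivial_hom_of_perfect (hperf : commutator H = ⊤) {C : Type*} [CommGroup C]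
    (f : H →* C) (h : H) : f h = 1 := by
  have hker : commutator H ≤ f.ker := by
    rw [commutator_def, Subgroup.commutator_le]
    intro a _ b _
    rw [MonoidHom.mem_ker, map_commutatorElement, commutatorElement_eq_one_iff_mul_comm]
    exact mul_comm _ _
  exact hker (hperf ▸ Subgroup.mem_top h)

end Hom

section Elementary

variable {H : Type} [Group H] {E : Type} [CommGroup E] [Finite E]

/-- The matrices of an action on an elementary abelian group. -/
theorem exists_matrix_rep' (s : ℕ) [Fact s.Prime] [Module (ZMod s) (Additive E)]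
    (σ : H →* MulAut E) :
    ∃ d : ℕ, Nat.card E = s ^ d ∧ ∃ M : H →* Matrix (Fin d) (Fin d) (ZMod s),
      M.ker ≤ σ.ker ∧ Nat.card σ.range ≤ Nat.card E ^ d := by
  classical
  haveI : Finite (Additive E) := inferInstanceAs (Finite E)
  haveI : Module.Finite (ZMod s) (Additive E) := Module.Finite.of_finite
  let b := Module.finBasis (ZMod s) (Additive E)
  let τ : H →* Module.End (ZMod s) (Additive E) :=
    { toFun := fun h => AddMonoidHom.toZModLinearMap s (MonoidHom.toAdditive (σ h).toMonoidHom)
      map_one' := LinearMap.ext fun x => by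
        show Additive.ofMul (σ 1 x.toMul) = x
        rw [map_one]; rfl
      map_mul' := fun g h => LinearMap.ext fun x => by
        show Additive.ofMul (σ (g * h) x.toMul) = Additive.ofMul (σ g (σ h x.toMul))
        rw [map_mul]; rfl }
  refine ⟨Module.finrank (ZMod s) (Additive E), ?_,
    (LinearMap.toMatrixAlgEquiv b).toRingEquiv.toMonoidHom.comp τ, ?_, ?_⟩
  · haveI := Fintype.ofFinite (Additive E)
    have := Module.card_eq_pow_finrank (K := ZMod s) (V := Additive E)
    rw [ZMod.card, ← Nat.card_eq_fintype_card] at this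
    exact this
  · intro h hh
    rw [MonoidHom.mem_ker] at hh ⊢
    have hτ : τ h = 1 := (LinearMap.toMatrixAlgEquiv b).injective (hh.trans (map_one _).symm)
    exact MulEquiv.ext fun x => LinearMap.congr_fun hτ (Additive.ofMul x)
  · let f : σ.range → (Fin (Module.finrank (ZMod s) (Additive E)) → Additive E) :=
      fun g i => Additive.ofMul ((g : MulAut E) (b i).toMul)
    have hf : Function.Injective f := by
      intro g g' hgg
      have hlin : AddMonoidHom.toZModLinearMap s (MonoidHom.toAdditive (g : MulAut E).toMonoidHom)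
          = AddMonoidHom.toZModLinearMap s (MonoidHom.toAdditive (g' : MulAut E).toMonoidHom) :=
        b.ext fun i => congrFun hgg i
      exact Subtype.ext (MulEquiv.ext fun x => LinearMap.congr_fun hlin (Additive.ofMul x))
    refine (Nat.card_le_card_of_injective f hf).trans (le_of_eq ?_)
    rw [Nat.card_fun, Nat.card_fin]
    rfl

/-- An action on a finite elementary abelian group gives matrices over the prime field. -/
theorem exists_matrix_rep (s : ℕ) [Fact s.Prime] (hE : ∀ x : E, x ^ s = 1) (σ : H →* MulAut E) :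
    ∃ d : ℕ, Nat.card E = s ^ d ∧ ∃ M : H →* Matrix (Fin d) (Fin d) (ZMod s),
      M.ker ≤ σ.ker ∧ Nat.card σ.range ≤ Nat.card E ^ d :=
  @exists_matrix_rep' H _ E _ _ s _
    (AddCommGroup.zmodModule (n := s) (G := Additive E) fun x => by
      show Additive.ofMul (x.toMul ^ s) = 0
      rw [hE]; rfl) σ

end Elementary

section Linear

variable {K : Type} [Field K] [IsAlgClosed K] {V : Type} [AddCommGroup V] [Module K V]
  [FiniteDimensional K V] {H : Type} [Group H]

theorem end_mul_inv (ρ : H →* Module.End K V) (h : H) : ρ h * ρ h⁻¹ = 1 := by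
  rw [← map_mul, mul_inv_cancel, map_one]

theorem end_inv_mul (ρ : H →* Module.End K V) (h : H) : ρ h⁻¹ * ρ h = 1 := by
  rw [← map_mul, inv_mul_cancel, map_one]

theorem apply_inv_apply (ρ : H →* Module.End K V) (h : H) (v : V) : ρ h (ρ h⁻¹ v) = v := by
  rw [← Module.End.mul_apply, end_mul_inv, Module.End.one_apply]

theorem inv_apply_apply (ρ : H →* Module.End K V) (h : H) (v : V) : ρ h⁻¹ (ρ h v) = v := by
  rw [← Module.End.mul_apply, end_inv_mul, Module.End.one_apply]

theorem scalar_of_commute [Nontrivial V] {ρ : H →* Module.End K V} (hirr : Irred ρ)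
    (T : Module.End K V) (hT : ∀ h, Commute T (ρ h)) : ∃ c : K, T = c • 1 := by
  obtain ⟨c, hc⟩ := Module.End.exists_eigenvalue T
  refine ⟨c, ?_⟩
  have hinv : ∀ h, ∀ w ∈ Module.End.eigenspace T c, ρ h w ∈ Module.End.eigenspace T c := by
    intro h w hw
    rw [Module.End.mem_eigenspace_iff] at hw ⊢
    rw [← Module.End.mul_apply, (hT h).eq, Module.End.mul_apply, hw, map_smul]
  have htop := (hirr _ hinv).resolve_left (Module.End.hasEigenvalue_iff.mp hc)
  ext v
  have hv : v ∈ Module.End.eigenspace T c := htop ▸ Submodule.mem_top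
  simpa using Module.End.mem_eigenspace_iff.mp hv

theorem abelian_normal_scalar [Finite H] [Nontrivial V] (hr : 9 ≤ r) {ρ : H →* Module.End K V}
    {φ : H →* alternatingGroup (Fin r)} (hφ : Function.Surjective φ)
    (hmin : ∀ S : Subgroup H, S.map φ = ⊤ → S = ⊤) (hirr : Irred ρ)
    (hn : Module.finrank K V + 2 ≤ r) (A : Subgroup H) [hA : A.Normal]
    (hc : ∀ a ∈ A, ∀ b ∈ A, a * b = b * a) : ∀ a ∈ A, ∃ c : K, ρ a = c • 1 := by
  classical
  let Wt := {χ : A → K // ∃ v : V, v ≠ 0 ∧ ∀ a : A, ρ a v = χ a • v}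
  choose vec hvec0 hvec using fun χ : Wt => χ.2
  have hli : LinearIndependent K vec :=
    linearIndependent_of_weights (fun a : A => ρ a) vec (fun χ => χ.1) hvec0
      Subtype.val_injective hvec
  haveI : Finite Wt := hli.finite
  haveI : Fintype Wt := Fintype.ofFinite _
  have hcardW : Nat.card Wt ≤ Module.finrank K V := by
    rw [Nat.card_eq_fintype_card]; exact hli.fintype_card_le_finrank
  have hmemconj : ∀ (h : H) (a : A), h * a * h⁻¹ ∈ A := fun h a => hA.conj_mem a a.2 h
  let act : H → Wt → Wt := fun h χ => ⟨fun a => χ.1 ⟨h⁻¹ * a * h⁻¹⁻¹, hmemconj h⁻¹ a⟩, by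
    obtain ⟨v, hv0, hv⟩ := χ.2
    refine ⟨ρ h v, fun e => hv0 (by simpa [inv_apply_apply] using congrArg (ρ h⁻¹) e), fun a => ?_⟩
    have := congrArg (ρ h) (hv ⟨h⁻¹ * a * h⁻¹⁻¹, hmemconj h⁻¹ a⟩)
    rw [map_smul] at this
    rw [← this, ← Module.End.mul_apply, ← Module.End.mul_apply, ← map_mul, ← map_mul]
    congr 1
    group⟩
  have act_one : ∀ χ, act 1 χ = χ := fun χ => by
    apply Subtype.ext; funext a; simp [act]
  have act_mul : ∀ g h χ, act (g * h) χ = act g (act h χ) := fun g h χ => by
    apply Subtype.ext; funext a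
    simp only [act]
    refine congrArg χ.1 (Subtype.ext ?_)
    show (g * h)⁻¹ * (a : H) * (g * h)⁻¹⁻¹ = h⁻¹ * (g⁻¹ * (a : H) * g⁻¹⁻¹) * h⁻¹⁻¹
    group
  let π : H →* Equiv.Perm Wt :=
    MonoidHom.mk'
      (fun h => ⟨act h, act h⁻¹, fun χ => by rw [← act_mul, inv_mul_cancel, act_one],
        fun χ => by rw [← act_mul, mul_inv_cancel, act_one]⟩)
      (fun g h => Equiv.ext (act_mul g h))
  rcases normal_dichotomy φ (by omega) hφ hmin π.ker with hk | hk
  · exfalso
    have h1 := index_ker_le φ hφ hk
    rw [Subgroup.index_ker] at h1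
    have h2 : Nat.card π.range ≤ (Nat.card Wt).factorial := by
      rw [← Nat.card_perm]
      exact Subgroup.card_le_card_group _
    have h3 := two_mul_card_alt hr
    have h4 := factorial_bound hr (m := Nat.card Wt) (by omega)
    omega
  · intro a ha
    obtain ⟨v, -, hv0, hv⟩ := exists_common_eigen (Set.range fun b : A => ρ b)
      (by rintro _ ⟨b, rfl⟩ _ ⟨c, rfl⟩
          show ρ b * ρ c = ρ c * ρ b
          rw [← map_mul, ← map_mul, hc b b.2 c c.2])
      ⊤ (by simp) (fun _ _ _ _ => Submodule.mem_top)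
    choose χ hχ using fun b : A => hv (ρ b) ⟨b, rfl⟩
    let X : Wt := ⟨χ, v, hv0, hχ⟩
    let W : Submodule K V := ⨅ b : A, Module.End.eigenspace (ρ b) (χ b)
    have hinv : ∀ h, ∀ w ∈ W, ρ h w ∈ W := by
      intro h w hw
      simp only [W, Submodule.mem_iInf, Module.End.mem_eigenspace_iff] at hw ⊢
      intro b
      have hX : act h X = X := by
        have : h ∈ π.ker := hk ▸ Subgroup.mem_top h
        exact congrArg (fun e : Equiv.Perm Wt => e X) (MonoidHom.mem_ker.mp this)
      have hb : χ ⟨h⁻¹ * b * h⁻¹⁻¹, hmemconj h⁻¹ b⟩ = χ b :=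
        congrFun (congrArg Subtype.val hX) b
      have := congrArg (ρ h) (hw ⟨h⁻¹ * b * h⁻¹⁻¹, hmemconj h⁻¹ b⟩)
      rw [map_smul, hb] at this
      rw [← this, ← Module.End.mul_apply, ← Module.End.mul_apply, ← map_mul, ← map_mul]
      congr 1
      group
    have hvW : v ∈ W := by
      simp only [W, Submodule.mem_iInf, Module.End.mem_eigenspace_iff]
      exact hχ
    have htop := (hirr W hinv).resolve_left (fun e => hv0 ((Submodule.eq_bot_iff _).mp e v hvW))
    refine ⟨χ ⟨a, ha⟩, ?_⟩
    ext w
    have hw : w ∈ W := htop ▸ Submodule.mem_top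
    simp only [W, Submodule.mem_iInf, Module.End.mem_eigenspace_iff] at hw
    simpa using hw ⟨a, ha⟩

theorem kernel_scalar [Finite H] [Nontrivial V] (hr : 9 ≤ r) {ρ : H →* Module.End K V}
    {φ : H →* alternatingGroup (Fin r)} (hφ : Function.Surjective φ)
    (hinj : Function.Injective ρ)
    (hmin : ∀ S : Subgroup H, S.map φ = ⊤ → S = ⊤) (hirr : Irred ρ)
    (hn : Module.finrank K V + 2 ≤ r)
    (ih : ∀ (K' : Type) [Field K'] [IsAlgClosed K'] (V' : Type) [AddCommGroup V'] [Module K' V']
      [FiniteDimensional K' V'] (H' : Type) [Group H'] [Finite H']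
      (ρ' : H' →* Module.End K' V') (φ' : H' →* alternatingGroup (Fin r)),
      Module.finrank K' V' < Module.finrank K V → Function.Surjective φ' → ρ'.ker ≤ φ'.ker →
        r ≤ Module.finrank K' V' + 2) :
    IsAltRep ρ φ := by
  classical
  have hperf := perfect_of_minimal φ (by omega) hφ hmin
  let Z : Subgroup H := Subgroup.center H
  have hZiff : ∀ h, h ∈ Z ↔ ∃ c : K, ρ h = c • 1 := by
    intro h
    refine ⟨fun hh => scalar_of_commute hirr (ρ h) fun g => ?_, ?_⟩
    · show ρ h * ρ g = ρ g * ρ h
      rw [← map_mul, ← map_mul, Subgroup.mem_center_iff.mp hh g]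
    · rintro ⟨c, hc⟩
      refine Subgroup.mem_center_iff.mpr fun g => hinj ?_
      rw [map_mul, map_mul, hc]
      simp
  have hZK : Z ≤ φ.ker := by
    refine (normal_dichotomy φ (by omega) hφ hmin Z).resolve_right fun h => ?_
    exact not_comm_of_surj φ (by omega) hφ fun a b =>
      (Subgroup.mem_center_iff.mp (h ▸ Subgroup.mem_top b : b ∈ Z) a)
  suffices hK : φ.ker ≤ Z by
    exact ⟨hφ, fun h => ⟨fun hh => (hZiff h).mp (hK hh), fun hh => hZK ((hZiff h).mpr hh)⟩⟩
  by_contra hK
  have hFr : φ.ker ≤ frattini H := by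
    refine le_iInf₂ fun M hM => ?_
    by_contra hle
    have htop : M ⊔ φ.ker = ⊤ := hM.2 _ (left_lt_sup.mpr hle)
    refine hM.1 (hmin M ?_)
    have := congrArg (Subgroup.map φ) htop
    rwa [Subgroup.map_sup, (Subgroup.map_eq_bot_iff _).mpr le_rfl, sup_bot_eq,
      Subgroup.map_top_of_surjective _ hφ] at this
  haveI : Group.IsNilpotent (frattini H) := frattini_nilpotent
  haveI hnil : Group.IsNilpotent φ.ker :=
    Group.nilpotent_of_surjective
      (Subgroup.subgroupOfEquivOfLe hFr).toMonoidHom (MulEquiv.surjective _)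
  let q := QuotientGroup.mk' Z
  let KB : Subgroup (H ⧸ Z) := φ.ker.map q
  haveI : Group.IsNilpotent KB :=
    Group.nilpotent_of_surjective (q.subgroupMap φ.ker) (q.subgroupMap_surjective φ.ker)
  haveI : KB.Normal := φ.normal_ker.map q (QuotientGroup.mk'_surjective Z)
  haveI : Nontrivial KB := by
    rw [Subgroup.nontrivial_iff_ne_bot]
    intro e
    rw [Subgroup.map_eq_bot_iff, QuotientGroup.ker_mk'] at e
    exact hK e
  let C : Subgroup (H ⧸ Z) := (Subgroup.center KB).map KB.subtype
  haveI hCn : C.Normal := inferInstance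
  have hCne : Subgroup.center KB ≠ ⊥ :=
    Group.IsNilpotent.center_ne_bot KB
  have hC1 : Nat.card C ≠ 1 := by
    rw [Ne, Subgroup.card_eq_one, Subgroup.map_eq_bot_iff, Subgroup.ker_subtype]
    exact fun e => hCne (le_bot_iff.mp e)
  obtain ⟨s, hs, hsd⟩ := Nat.exists_prime_and_dvd hC1
  haveI := Fact.mk hs
  obtain ⟨c0, hc0⟩ := exists_prime_orderOf_dvd_card' s hsd
  have hCcomm : ∀ x ∈ C, ∀ y ∈ C, x * y = y * x := by
    rintro x ⟨a, ha, rfl⟩ y ⟨b, hb, rfl⟩
    rw [← map_mul, ← map_mul, (Subgroup.mem_center_iff.mp hb a)]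
  let E : Subgroup (H ⧸ Z) :=
    { carrier := {x | x ∈ C ∧ x ^ s = 1}
      one_mem' := ⟨one_mem _, one_pow _⟩
      mul_mem' := fun {x y} hx hy => ⟨mul_mem hx.1 hy.1, by
        rw [Commute.mul_pow (hCcomm x hx.1 y hy.1), hx.2, hy.2, one_mul]⟩
      inv_mem' := fun {x} hx => ⟨inv_mem hx.1, by rw [inv_pow, hx.2, inv_one]⟩ }
  haveI hEn : E.Normal := ⟨fun x hx g => ⟨hCn.conj_mem x hx.1 g, by
    rw [conj_pow, hx.2, mul_one, mul_inv_cancel]⟩⟩
  let U : Subgroup H := E.comap q
  haveI hUn : U.Normal := hEn.comap q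
  have hUK : U ≤ φ.ker := by
    intro u hu
    have h1 : q u ∈ KB := by
      obtain ⟨a, -, ha⟩ := (Subgroup.mem_comap.mp hu).1
      rw [← ha]
      exact a.2
    obtain ⟨k, hk, hk'⟩ := h1
    have : k⁻¹ * u ∈ Z := QuotientGroup.eq.mp hk'
    have := mul_mem hk (hZK this)
    rwa [mul_inv_cancel_left] at this
  have hUcomm : ∀ u ∈ U, ∀ v ∈ U, ⁅u, v⁆ ∈ Z := by
    intro u hu v hv
    rw [← QuotientGroup.eq_one_iff]
    show q ⁅u, v⁆ = 1
    rw [map_commutatorElement, commutatorElement_eq_one_iff_mul_comm]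
    exact hCcomm _ hu.1 _ hv.1
  let A : Subgroup H := U ⊓ Subgroup.centralizer (U : Set H)
  haveI : A.Normal := inferInstance
  have hAZ : A ≤ Z := fun a ha => (hZiff a).mpr (abelian_normal_scalar hr hφ hmin hirr hn A
    (fun x hx y hy => (Subgroup.mem_centralizer_iff.mp hy.2 x hx.1)) a ha)
  -- scalar values of commutators
  choose sc hsc using fun (v : U) (u : U) => (hZiff ⁅(v : H), (u : H)⁆).mp (hUcomm v v.2 u u.2)
  choose rep hrep using fun x : E => QuotientGroup.mk'_surjective Z (x : H ⧸ Z)
  have hrepU : ∀ x : E, rep x ∈ U := fun x => by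
    show q (rep x) ∈ E
    rw [hrep x]; exact x.2
  have hcard : Nat.card E ≤ Module.finrank K V * Module.finrank K V := by
    haveI : Fintype E := Fintype.ofFinite _
    rw [Nat.card_eq_fintype_card, ← Module.finrank_linearMap K K V V]
    refine card_le_finrank_of_weights
      (fun v : U => LinearMap.mulLeft K (ρ v) ∘ₗ LinearMap.mulRight K (ρ (v : H)⁻¹))
      (fun x : E => ρ (rep x)) (fun x v => sc v ⟨rep x, hrepU x⟩) ?_ ?_ ?_
    · intro x e
      have := end_mul_inv ρ (rep x)
      rw [e, zero_mul] at this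
      exact zero_ne_one this
    · intro x y hxy
      have hw : ∀ v : U, (v : H) * ((rep x)⁻¹ * rep y) = ((rep x)⁻¹ * rep y) * v := by
        intro v
        have hx := hsc v ⟨rep x, hrepU x⟩
        have hy := hsc v ⟨rep y, hrepU y⟩
        have hxy' : sc v ⟨rep x, hrepU x⟩ = sc v ⟨rep y, hrepU y⟩ := congrFun hxy v
        rw [← hxy', ← hx] at hy
        have he : ⁅(v : H), rep y⁆ = ⁅(v : H), rep x⁆ := hinj hy
        have hz := Subgroup.mem_center_iff.mp (hUcomm v v.2 (rep x) (hrepU x))
        have h1 : (v : H) * rep x = ⁅(v : H), rep x⁆ * rep x * v := by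
          simp [commutatorElement_def, mul_assoc]
        have h2 : (v : H) * rep y = ⁅(v : H), rep x⁆ * rep y * v := by
          rw [← he]; simp [commutatorElement_def, mul_assoc]
        calc (v : H) * ((rep x)⁻¹ * rep y)
            = (rep x)⁻¹ * ((rep x * v) * ((rep x)⁻¹ * rep y)) := by group
          _ = (rep x)⁻¹ * ((⁅(v : H), rep x⁆⁻¹ * ((v : H) * rep x)) * ((rep x)⁻¹ * rep y)) := by
              conv_rhs => rw [h1]
              group
          _ = (rep x)⁻¹ * (⁅(v : H), rep x⁆⁻¹ * ((v : H) * rep y)) := by group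
          _ = (rep x)⁻¹ * rep y * v := by rw [h2]; group
      have hmem : (rep x)⁻¹ * rep y ∈ A :=
        Subgroup.mem_inf.mpr ⟨U.mul_mem (U.inv_mem (hrepU x)) (hrepU y),
          Subgroup.mem_centralizer_iff.mpr fun v hv => hw ⟨v, hv⟩⟩
      apply Subtype.ext
      rw [← hrep x, ← hrep y]
      exact QuotientGroup.eq.mpr (hAZ hmem)
    · intro x v
      show ρ v * (ρ (rep x) * ρ (v : H)⁻¹) = _
      rw [← map_mul, ← map_mul]
      have : (v : H) * (rep x * (v : H)⁻¹) = ⁅(v : H), rep x⁆ * rep x := by
        simp [commutatorElement_def, mul_assoc]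
      rw [this, map_mul, hsc v ⟨rep x, hrepU x⟩, smul_mul_assoc, one_mul]
  -- the action on E
  letI : CommGroup E :=
    { (inferInstance : Group E) with
      mul_comm := fun x y => Subtype.ext (hCcomm x x.2.1 y y.2.1) }
  let σ : H →* MulAut E := (MulAut.conjNormal (H := E)).comp q
  rcases normal_dichotomy φ (by omega) hφ hmin σ.ker with hk | hk
  · -- faithful action: use induction
    obtain ⟨d, hEd, M, hM, hrange⟩ := exists_matrix_rep (E := E) s
      (fun x => Subtype.ext (by simpa using x.2.2)) σ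
    have h2d : 2 ^ d ≤ Nat.card E := hEd ▸ Nat.pow_le_pow_left hs.two_le d
    by_cases hdn : d < Module.finrank K V
    · let F := AlgebraicClosure (ZMod s)
      let ρ' : H →* Module.End F (Fin d → F) :=
        (Matrix.toLinAlgEquiv' (R := F) (n := Fin d)).toRingEquiv.toMonoidHom.comp
          ((algebraMap (ZMod s) F).mapMatrix.toMonoidHom.comp M)
      have hker : ρ'.ker ≤ φ.ker := by
        refine le_trans (fun h hh => hM ?_) hk
        rw [MonoidHom.mem_ker] at hh ⊢
        apply Matrix.map_injective (f := algebraMap (ZMod s) F) (RingHom.injective _)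
        show (algebraMap (ZMod s) F).mapMatrix (M h) = (algebraMap (ZMod s) F).mapMatrix 1
        apply (Matrix.toLinAlgEquiv' (R := F) (n := Fin d)).injective
        show ρ' h = _
        rw [hh, map_one, map_one]
      have := ih F (Fin d → F) H ρ' φ (by simpa using hdn) hφ hker
      simp at this
      omega
    · push Not at hdn
      have hsmall : Module.finrank K V ≤ 4 := by
        by_contra hc
        push Not at hc
        have h3 : 2 ^ Module.finrank K V ≤ Module.finrank K V * Module.finrank K V :=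
          (Nat.pow_le_pow_right (by norm_num) hdn).trans (h2d.trans hcard)
        have hgrow : ∀ k, 5 ≤ k → k * k < 2 ^ k := by
          intro k hk
          induction k, hk using Nat.le_induction with
          | base => norm_num
          | succ k hk ih => rw [pow_succ]; nlinarith
        exact absurd h3 (not_le.mpr (hgrow _ hc))
      have hE16 : Nat.card E ≤ 16 := hcard.trans (by nlinarith)
      have hd4 : d ≤ 4 := by
        by_contra hc
        have : 2 ^ 5 ≤ 2 ^ d := Nat.pow_le_pow_right (by norm_num) (by omega)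
        omega
      have h1 := index_ker_le φ hφ hk
      rw [Subgroup.index_ker] at h1
      have h3 : Nat.card E ^ d ≤ 16 ^ 4 :=
        (Nat.pow_le_pow_left hE16 d).trans (Nat.pow_le_pow_right (by norm_num) hd4)
      have h4 := two_mul_card_alt hr
      have h5 : Nat.factorial 9 ≤ r.factorial := Nat.factorial_le hr
      have h6 : Nat.factorial 9 = 362880 := by decide
      omega
  · -- trivial action: U would be central
    have hfix : ∀ (h : H), ∀ u ∈ U, ⁅h, u⁆ ∈ Z := by
      intro h u hu
      have : h ∈ σ.ker := hk ▸ Subgroup.mem_top h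
      have he := congrArg (fun e : MulAut E => ((e ⟨q u, hu⟩ : E) : H ⧸ Z)) (MonoidHom.mem_ker.mp this)
      rw [← QuotientGroup.eq_one_iff]
      show q ⁅h, u⁆ = 1
      rw [map_commutatorElement, commutatorElement_eq_one_iff_mul_comm]
      have he' : q h * q u * (q h)⁻¹ = q u := he
      calc q h * q u = q h * q u * (q h)⁻¹ * q h := by group
        _ = q u * q h := by rw [he']
    have hUZ : U ≤ Z := by
      intro u hu
      choose cc hcc using fun h => (hZiff ⁅h, u⁆).mp (hfix h u hu)
      have hmul : ∀ g h : H, ⁅g * h, u⁆ = ⁅g, u⁆ * ⁅h, u⁆ := by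
        intro g h
        rw [commutatorElement_def, commutatorElement_def, commutatorElement_def]
        have hz := Subgroup.mem_center_iff.mp (hfix h u hu) g
        rw [commutatorElement_def] at hz
        have hz' := Subgroup.mem_center_iff.mp (hfix h u hu) (g * u * g⁻¹ * u⁻¹)
        rw [commutatorElement_def] at hz'
        calc g * h * u * (g * h)⁻¹ * u⁻¹
            = g * (h * u * h⁻¹ * u⁻¹) * u * g⁻¹ * u⁻¹ := by group
          _ = (h * u * h⁻¹ * u⁻¹) * g * u * g⁻¹ * u⁻¹ := by rw [hz]
          _ = (h * u * h⁻¹ * u⁻¹) * (g * u * g⁻¹ * u⁻¹) := by group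
          _ = _ := hz'.symm
      have hsc_mul : ∀ g h, cc (g * h) = cc g * cc h := by
        intro g h
        have := congrArg ρ (hmul g h)
        rw [map_mul, hcc, hcc, hcc, smul_mul_smul_comm, one_mul] at this
        exact smul_left_injective K (one_ne_zero (α := Module.End K V)) this
      have hsc_one : cc 1 = 1 := by
        have := hcc 1
        rw [commutatorElement_one_left, map_one] at this
        exact (smul_left_injective K (one_ne_zero (α := Module.End K V))
          (show (1 : K) • (1 : Module.End K V) = cc 1 • 1 by rwa [one_smul])).symm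
      let f : H →* Kˣ := (⟨⟨cc, hsc_one⟩, hsc_mul⟩ : H →* K).toHomUnits
      refine Subgroup.mem_center_iff.mpr fun g => ?_
      have hg : cc g = 1 := congrArg Units.val (trivial_hom_of_perfect hperf f g)
      have := hcc g
      rw [hg, one_smul] at this
      have hone : ⁅g, u⁆ = 1 := hinj (by rw [this, map_one])
      exact commutatorElement_eq_one_iff_mul_comm.mp hone
    obtain ⟨u, hu⟩ := QuotientGroup.mk'_surjective Z (c0 : H ⧸ Z)
    have hc0' : orderOf (c0 : H ⧸ Z) = s := by simpa [Subgroup.orderOf_coe] using hc0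
    have huU : u ∈ U := by
      show q u ∈ E
      rw [hu]
      exact ⟨c0.2, hc0' ▸ pow_orderOf_eq_one _⟩
    have h1 : q u = 1 := (QuotientGroup.eq_one_iff u).mpr (hUZ huU)
    rw [hu] at h1
    rw [h1, orderOf_one] at hc0'
    exact hs.one_lt.ne hc0'

end Linear

/-- The bound follows from the irreducible case with scalar kernel. -/
theorem good_of_core (hr : 9 ≤ r)
    (core : ∀ (K : Type) [Field K] [IsAlgClosed K] (V : Type) [AddCommGroup V] [Module K V]
      [FiniteDimensional K V] (H : Type) [Group H] [Finite H] (ρ : H →* Module.End K V)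
      (φ : H →* alternatingGroup (Fin r)),
      IsAltRep ρ φ → Irred ρ → 0 < Module.finrank K V → Bound K r (Module.finrank K V)) :
    Good r := by
  intro K _ _ V _ _ _ H _ _ ρ φ hφ hker
  induction hn : Module.finrank K V using Nat.strong_induction_on generalizing K V H with
  | _ n ihn =>
  subst hn
  induction hm : Nat.card H using Nat.strong_induction_on generalizing H with
  | _ m ihm =>
  subst hm
  by_contra hb
  have hn2 := add_two_le_of_not_bound hb
  -- faithful
  have hinj : Function.Injective ρ := by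
    rw [← MonoidHom.ker_eq_bot_iff]
    by_contra hk
    have hlt : Nat.card (H ⧸ ρ.ker) < Nat.card H := by
      rw [Subgroup.card_eq_card_quotient_mul_card_subgroup ρ.ker]
      exact lt_mul_of_one_lt_right Nat.card_pos (ρ.ker.one_lt_card_iff_ne_bot.mpr hk)
    let ρ₁ : H ⧸ ρ.ker →* Module.End K V := QuotientGroup.lift ρ.ker ρ le_rfl
    let φ₁ : H ⧸ ρ.ker →* alternatingGroup (Fin r) := QuotientGroup.lift ρ.ker φ hker
    have hφ₁ : Function.Surjective φ₁ := QuotientGroup.lift_surjective_of_surjective _ _ hφ _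
    have hk₁ : ρ₁.ker ≤ φ₁.ker := by
      intro x hx
      obtain ⟨g, rfl⟩ := QuotientGroup.mk'_surjective ρ.ker x
      exact hker hx
    exact hb (ihm _ hlt (H ⧸ ρ.ker) ρ₁ φ₁ hφ₁ hk₁ rfl)
  -- minimal
  have hmin : ∀ S : Subgroup H, S.map φ = ⊤ → S = ⊤ := by
    intro S hS
    by_contra hne
    have hlt : Nat.card S < Nat.card H := by
      refine lt_of_le_of_ne (Subgroup.card_le_card_group S) fun e => hne ?_
      exact Subgroup.eq_top_of_card_eq S e
    refine hb (ihm _ hlt S (ρ.comp S.subtype) (φ.comp S.subtype) ?_ ?_ rfl)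
    · rw [← MonoidHom.range_eq_top, MonoidHom.range_comp, Subgroup.range_subtype, hS]
    · intro x hx
      exact hker (show (x : H) ∈ ρ.ker from hx)
  haveI hV : Nontrivial V := by
    by_contra hV
    rw [not_nontrivial_iff_subsingleton] at hV
    exact not_comm_of_surj φ (by omega) hφ fun a b => hinj (LinearMap.ext fun v => Subsingleton.elim _ _)
  -- irreducible
  have hirr : Irred ρ := by
    intro W hW
    by_contra hc
    push Not at hc
    let ρW : H →* Module.End K W :=
      { toFun := fun h => (ρ h).restrict (hW h)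
        map_one' := by ext x; simp
        map_mul' := fun g h => by ext x; simp }
    let ρQ : H →* Module.End K (V ⧸ W) :=
      { toFun := fun h => W.mapQ W (ρ h) (hW h)
        map_one' := by ext x; simp
        map_mul' := fun g h => by ext x; simp }
    have hW' : Module.finrank K W < Module.finrank K V := Submodule.finrank_lt hc.2
    have hQ' : Module.finrank K (V ⧸ W) < Module.finrank K V := by
      have := W.finrank_quotient_add_finrank
      have hpos : 0 < Module.finrank K W :=
        Nat.pos_of_ne_zero fun e => hc.1 (Submodule.finrank_eq_zero.mp e)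
      omega
    have t1 : ρW.ker = ⊤ := (normal_dichotomy φ (by omega) hφ hmin ρW.ker).resolve_left fun h =>
      hb ((ihn _ hW' K W H ρW φ hφ h rfl).mono hW'.le)
    have t2 : ρQ.ker = ⊤ := (normal_dichotomy φ (by omega) hφ hmin ρQ.ker).resolve_left fun h =>
      hb ((ihn _ hQ' K (V ⧸ W) H ρQ φ hφ h rfl).mono hQ'.le)
    have h1 : ∀ h, ∀ w ∈ W, ρ h w = w := fun h w hw =>
      congrArg Subtype.val (LinearMap.congr_fun
        (MonoidHom.mem_ker.mp (t1 ▸ Subgroup.mem_top h : h ∈ ρW.ker)) ⟨w, hw⟩)
    have h2 : ∀ h v, ρ h v - v ∈ W := fun h v => (Submodule.Quotient.eq W).mp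
      (LinearMap.congr_fun (MonoidHom.mem_ker.mp (t2 ▸ Subgroup.mem_top h : h ∈ ρQ.ker))
        (Submodule.Quotient.mk v))
    refine not_comm_of_surj φ (by omega) hφ fun a b => hinj (LinearMap.ext fun v => ?_)
    rw [map_mul, map_mul, Module.End.mul_apply, Module.End.mul_apply]
    have e1 : ρ a (ρ b v) = ρ a v + (ρ b v - v) := by
      rw [← h1 a _ (h2 b v), ← map_add, add_sub_cancel]
    have e2 : ρ b (ρ a v) = ρ b v + (ρ a v - v) := by
      rw [← h1 b _ (h2 a v), ← map_add, add_sub_cancel]
    rw [e1, e2]; abel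
  have hrep := kernel_scalar hr hφ hinj hmin hirr hn2 fun K' _ _ V' _ _ _ H' _ _ ρ' φ' hlt hs hk =>
    (ihn _ hlt K' V' H' ρ' φ' hs hk rfl).1
  exact hb (core K V H ρ φ hrep hirr Module.finrank_pos)

end CfsgAltMinDeg
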