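import Cfsg.Agent.AltMinDeg.Reduce

/-!
Canonical lifts of three-cycles in a group mapped onto the alternating group with scalar
kernel, and restriction to the alternating group on a subset of the points.
-/

set_option autoImplicit false

namespace CfsgAltMinDeg

open Equiv Equiv.Perm
open scoped commutatorElement

section Cycles

variable {α : Type*} [Fintype α] [DecidableEq α]

theorem cyc_inv {a b c : α} (hab : a ≠ b) (hbc : b ≠ c) : (cyc a b c)⁻¹ = cyc c b a := by
  apply Subtype.ext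
  rw [Subgroup.coe_inv, coe_cyc hab hbc, coe_cyc hbc.symm hab.symm, mul_inv_rev, swap_inv,
    swap_inv, swap_comm b c, swap_comm a b]

theorem cyc_rot {a b c : α} (hab : a ≠ b) (hbc : b ≠ c) (hac : a ≠ c) :
    cyc b c a = cyc a b c := by
  apply Subtype.ext
  refine Equiv.ext fun x => ?_
  by_cases h1 : x = a
  · subst h1; rw [cyc_apply_left hab hbc hac, cyc_apply_right hbc hac.symm]
  by_cases h2 : x = b
  · subst h2; rw [cyc_apply_mid hab hbc hac, cyc_apply_left hbc hac.symm hab.symm]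
  by_cases h3 : x = c
  · subst h3; rw [cyc_apply_right hab hbc, cyc_apply_mid hbc hac.symm hab.symm]
  rw [cyc_apply_other h1 h2 h3, cyc_apply_other h2 h3 h1]

theorem cyc_eq_one_of_pow {a b c : α} (hab : a ≠ b) (hbc : b ≠ c) (hac : a ≠ c) :
    cyc a b c ^ 4 = cyc a b c := by
  rw [pow_succ, cyc_cube hab hbc hac, one_mul]

/-- A three-cycle commutes with every even permutation fixing its three points. -/
theorem commute_cyc_of_fix {σ : alternatingGroup α} {a b c : α} (ha : (σ : Perm α) a = a)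
    (hb : (σ : Perm α) b = b) (hc : (σ : Perm α) c = c) : Commute σ (cyc a b c) := by
  have := conj_cyc σ a b c
  rw [ha, hb, hc] at this
  calc σ * cyc a b c = σ * cyc a b c * σ⁻¹ * σ := by group
    _ = cyc a b c * σ := by rw [this]

theorem commute_cyc_cyc {a b c x y z : α} (ha : a ≠ x ∧ a ≠ y ∧ a ≠ z)
    (hb : b ≠ x ∧ b ≠ y ∧ b ≠ z) (hc : c ≠ x ∧ c ≠ y ∧ c ≠ z) :
    Commute (cyc x y z) (cyc a b c) :=
  commute_cyc_of_fix (cyc_apply_other ha.1 ha.2.1 ha.2.2) (cyc_apply_other hb.1 hb.2.1 hb.2.2)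
    (cyc_apply_other hc.1 hc.2.1 hc.2.2)

theorem commutator_cyc {a b c d e : α} (h : [a, b, c, d, e].Nodup) :
    ⁅cyc a b d, cyc a c e⁆ = cyc a b c := by
  simp only [List.nodup_cons, List.mem_cons, List.not_mem_nil, or_false, not_or] at h
  obtain ⟨⟨hab, hac, had, hae⟩, ⟨hbc, hbd, hbe⟩, ⟨hcd, hce⟩, hde, -⟩ := h
  rw [commutatorElement_def, cyc_inv hab hbd, cyc_inv hac hce]
  apply Subtype.ext
  refine Equiv.ext fun x => ?_
  simp only [Subgroup.coe_mul, Perm.mul_apply]
  by_cases h1 : x = a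
  · subst h1
    rw [cyc_apply_right (Ne.symm hce) (Ne.symm hac), cyc_apply_other (Ne.symm hde) (Ne.symm hbe) (Ne.symm hae),
      cyc_apply_right hac hce, cyc_apply_left hab hbd had, cyc_apply_left hab hbc hac]
  by_cases h2 : x = b
  · subst h2
    rw [cyc_apply_other hbe hbc (Ne.symm hab), cyc_apply_mid (Ne.symm hbd) (Ne.symm hab) (Ne.symm had),
      cyc_apply_left hac hce hae, cyc_apply_other (Ne.symm hac) (Ne.symm hbc) hcd,
      cyc_apply_mid hab hbc hac]
  by_cases h3 : x = c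
  · subst h3
    rw [cyc_apply_mid (Ne.symm hce) (Ne.symm hac) (Ne.symm hae), cyc_apply_right (Ne.symm hbd) (Ne.symm hab),
      cyc_apply_other (Ne.symm had) (Ne.symm hcd) hde, cyc_apply_right hab hbd, cyc_apply_right hab hbc]
  by_cases h4 : x = d
  · subst h4
    rw [cyc_apply_other hde (Ne.symm hcd) (Ne.symm had), cyc_apply_left (Ne.symm hbd) (Ne.symm hab) (Ne.symm had),
      cyc_apply_other (Ne.symm hab) hbc hbe, cyc_apply_mid hab hbd had, cyc_apply_other h1 h2 h3]
  by_cases h5 : x = e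
  · subst h5
    rw [cyc_apply_left (Ne.symm hce) (Ne.symm hac) (Ne.symm hae), cyc_apply_other hcd (Ne.symm hbc) (Ne.symm hac),
      cyc_apply_mid hac hce hae, cyc_apply_other (Ne.symm hae) (Ne.symm hbe) (Ne.symm hde),
      cyc_apply_other h1 h2 h3]
  rw [cyc_apply_other h5 h3 h1, cyc_apply_other h4 h2 h1, cyc_apply_other h1 h3 h5,
    cyc_apply_other h1 h2 h4, cyc_apply_other h1 h2 h3]

end Cycles

variable {r : ℕ} {K : Type} [Field K] {V : Type} [AddCommGroup V] [Module K V]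
  {H : Type} [Group H] {ρ : H →* Module.End K V} {φ : H →* alternatingGroup (Fin r)}

theorem exists_notMem_fin (l : List (Fin r)) (h : l.length < r) : ∃ x, x ∉ l :=
  exists_notMem l (by simpa using h)

theorem exists_map_fin (l m : List (Fin r)) (hl : l.Nodup) (hm : m.Nodup)
    (hlen : l.length = m.length) (hr : l.length + 2 ≤ r) :
    ∃ σ : alternatingGroup (Fin r), l.map (σ : Perm (Fin r)) = m :=
  exists_map_list l m hl hm hlen (by simpa using hr)

namespace IsAltRep

theorem central (hR : IsAltRep ρ φ) {z : H} (hz : φ z = 1) (T : Module.End K V) :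
    ρ z * T = T * ρ z := by
  obtain ⟨c, hc⟩ := (hR.scalar_iff z).mp hz
  rw [hc]; simp

theorem rho_comm_congr_left (hR : IsAltRep ρ φ) {x x' y : H} (hx : φ x = φ x') :
    ρ ⁅x, y⁆ = ρ ⁅x', y⁆ := by
  have hz : φ (x * x'⁻¹) = 1 := by rw [map_mul, map_inv, hx, mul_inv_cancel]
  generalize hzdef : x * x'⁻¹ = z at hz
  obtain rfl : x = z * x' := by rw [← hzdef]; group
  have e : ⁅z * x', y⁆ = z * (x' * y * x'⁻¹) * (z⁻¹ * y⁻¹) := by
    rw [commutatorElement_def]; group
  rw [e, map_mul, map_mul ρ z, hR.central hz (ρ (x' * y * x'⁻¹)), map_mul ρ z⁻¹,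
    mul_assoc, ← mul_assoc (ρ z), ← map_mul, mul_inv_cancel, map_one, one_mul,
    ← map_mul, commutatorElement_def]

theorem rho_comm_congr (hR : IsAltRep ρ φ) {x x' y y' : H} (hx : φ x = φ x') (hy : φ y = φ y') :
    ρ ⁅x, y⁆ = ρ ⁅x', y'⁆ := by
  rw [hR.rho_comm_congr_left hx]
  have h := hR.rho_comm_congr_left (x := y) (x' := y') (y := x') hy
  have inv_eq : ∀ u v : H, ρ u = ρ v → ρ u⁻¹ = ρ v⁻¹ := fun u v huv => by
    calc ρ u⁻¹ = ρ u⁻¹ * (ρ v * ρ v⁻¹) := by rw [← map_mul, ← map_mul, mul_inv_cancel, mul_one]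
      _ = ρ u⁻¹ * ρ u * ρ v⁻¹ := by rw [huv, mul_assoc]
      _ = ρ v⁻¹ := by rw [← map_mul, ← map_mul, inv_mul_cancel, one_mul]
  rw [← commutatorElement_inv y x', ← commutatorElement_inv y' x']
  exact inv_eq _ _ h

theorem rho_conj_comm (hR : IsAltRep ρ φ) (g : H) {x y x' y' : H}
    (hx : φ g * φ x * (φ g)⁻¹ = φ x') (hy : φ g * φ y * (φ g)⁻¹ = φ y') :
    ρ g * ρ ⁅x, y⁆ * ρ g⁻¹ = ρ ⁅x', y'⁆ := by
  rw [← map_mul, ← map_mul, conjugate_commutatorElement]
  exact hR.rho_comm_congr (by rw [map_mul, map_mul, map_inv, hx])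
    (by rw [map_mul, map_mul, map_inv, hy])

theorem commute_comm (hR : IsAltRep ρ φ) (g : H) {x y : H} (hx : Commute (φ g) (φ x))
    (hy : Commute (φ g) (φ y)) : Commute (ρ g) (ρ ⁅x, y⁆) := by
  have h := hR.rho_conj_comm g (x := x) (y := y) (x' := x) (y' := y)
    (by rw [hx.eq, mul_inv_cancel_right]) (by rw [hy.eq, mul_inv_cancel_right])
  show ρ g * ρ ⁅x, y⁆ = ρ ⁅x, y⁆ * ρ g
  calc ρ g * ρ ⁅x, y⁆ = ρ g * ρ ⁅x, y⁆ * (ρ g⁻¹ * ρ g) := by
        rw [← map_mul ρ g⁻¹, inv_mul_cancel, map_one, mul_one]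
    _ = ρ ⁅x, y⁆ * ρ g := by rw [← mul_assoc, h]

/-- An arbitrary lift. -/
noncomputable def lift (hR : IsAltRep ρ φ) (σ : alternatingGroup (Fin r)) : H :=
  (hR.surj σ).choose

theorem map_lift (hR : IsAltRep ρ φ) (σ : alternatingGroup (Fin r)) : φ (hR.lift σ) = σ :=
  (hR.surj σ).choose_spec

/-- A commutator of lifts over the three-cycle on the first three of five points. -/
noncomputable def C5 (hR : IsAltRep ρ φ) (a b c d e : Fin r) : H :=
  ⁅hR.lift (cyc a b d), hR.lift (cyc a c e)⁆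

theorem map_C5 (hR : IsAltRep ρ φ) {a b c d e : Fin r} (h : [a, b, c, d, e].Nodup) :
    φ (hR.C5 a b c d e) = cyc a b c := by
  rw [C5, map_commutatorElement, map_lift, map_lift, commutator_cyc h]

theorem rho_conj_C5 (hR : IsAltRep ρ φ) (g : H) (a b c d e : Fin r) :
    ρ g * ρ (hR.C5 a b c d e) * ρ g⁻¹ = ρ (hR.C5 ((φ g : Perm (Fin r)) a) ((φ g : Perm (Fin r)) b)
      ((φ g : Perm (Fin r)) c) ((φ g : Perm (Fin r)) d) ((φ g : Perm (Fin r)) e)) :=
  hR.rho_conj_comm g (by rw [map_lift, map_lift, conj_cyc]) (by rw [map_lift, map_lift, conj_cyc])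

theorem commute_of_disjoint (hR : IsAltRep ρ φ) (hr : 8 ≤ r) {g h : H} {a b c x y z : Fin r}
    (hd : [a, b, c, x, y, z].Nodup) (hg : φ g = cyc x y z) (hh : φ h = cyc a b c) :
    Commute (ρ h) (ρ g) := by
  obtain ⟨s, hs⟩ := exists_notMem_fin [a, b, c, x, y, z] (by simp; omega)
  obtain ⟨t, ht⟩ := exists_notMem_fin [a, b, c, x, y, z, s] (by simp; omega)
  simp only [List.mem_cons, List.not_mem_nil, or_false, not_or] at hs ht
  simp only [List.nodup_cons, List.mem_cons, List.not_mem_nil, or_false, not_or] at hd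
  have h5 : [x, y, z, s, t].Nodup := by
    simp only [List.nodup_cons, List.mem_cons, List.not_mem_nil, or_false, not_or]
    grind
  have hz : φ (g * (hR.C5 x y z s t)⁻¹) = 1 := by
    rw [map_mul, map_inv, hg, hR.map_C5 h5, mul_inv_cancel]
  have hc : Commute (ρ h) (ρ (hR.C5 x y z s t)) :=
    hR.commute_comm h (by rw [hh, map_lift]; exact commute_cyc_cyc (by grind) (by grind) (by grind))
      (by rw [hh, map_lift]; exact commute_cyc_cyc (by grind) (by grind) (by grind))
  have hsplit : ρ g = ρ (g * (hR.C5 x y z s t)⁻¹) * ρ (hR.C5 x y z s t) := by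
    rw [← map_mul, inv_mul_cancel_right]
  rw [hsplit]
  exact Commute.mul_right ((hR.central hz _).symm) hc

theorem C5_step (hR : IsAltRep ρ φ) (hr : 9 ≤ r) {a b c d e e' : Fin r}
    (h : [a, b, c, d, e].Nodup) (h' : [a, b, c, d, e'].Nodup) :
    ρ (hR.C5 a b c d e) = ρ (hR.C5 a b c d e') := by
  rcases eq_or_ne e e' with rfl | hee
  · rfl
  obtain ⟨f, hf⟩ := exists_notMem_fin [a, b, c, d, e, e'] (by simp; omega)
  simp only [List.mem_cons, List.not_mem_nil, or_false, not_or] at hf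
  simp only [List.nodup_cons, List.mem_cons, List.not_mem_nil, or_false, not_or] at h'
  have hh := h
  simp only [List.nodup_cons, List.mem_cons, List.not_mem_nil, or_false, not_or] at hh
  have hd : [a, b, c, e, e', f].Nodup := by
    simp only [List.nodup_cons, List.mem_cons, List.not_mem_nil, or_false, not_or]
    grind
  have hc := hR.commute_of_disjoint (by omega) hd (hR.map_lift (cyc e e' f)) (hR.map_C5 h)
  have hconj := hR.rho_conj_C5 (hR.lift (cyc e e' f)) a b c d e
  rw [hR.map_lift, cyc_apply_other (by grind) (by grind) (by grind),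
    cyc_apply_other (by grind) (by grind) (by grind), cyc_apply_other (by grind) (by grind) (by grind),
    cyc_apply_other (by grind) (by grind) (by grind),
    cyc_apply_left hee (by grind) (by grind)] at hconj
  rw [← hconj, ← hc.eq, mul_assoc, ← map_mul (f := ρ), mul_inv_cancel, map_one, mul_one]

theorem inv_eq_swap (hR : IsAltRep ρ φ) {a b c d e : Fin r} :
    (hR.C5 a b c d e)⁻¹ = hR.C5 a c b e d :=
  commutatorElement_inv _ _

theorem rho_inv_congr (_hR : IsAltRep ρ φ) {u v : H} (huv : ρ u = ρ v) : ρ u⁻¹ = ρ v⁻¹ := by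
  calc ρ u⁻¹ = ρ u⁻¹ * (ρ v * ρ v⁻¹) := by rw [← map_mul, ← map_mul, mul_inv_cancel, mul_one]
    _ = ρ u⁻¹ * ρ u * ρ v⁻¹ := by rw [huv, mul_assoc]
    _ = ρ v⁻¹ := by rw [← map_mul, ← map_mul, inv_mul_cancel, one_mul]

theorem C5_step_left (hR : IsAltRep ρ φ) (hr : 9 ≤ r) {a b c d d' e : Fin r}
    (h : [a, b, c, d, e].Nodup) (h' : [a, b, c, d', e].Nodup) :
    ρ (hR.C5 a b c d e) = ρ (hR.C5 a b c d' e) := by
  simp only [List.nodup_cons, List.mem_cons, List.not_mem_nil, or_false, not_or] at h h'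
  have := hR.rho_inv_congr (hR.C5_step hr (a := a) (b := c) (c := b) (d := e) (e := d) (e' := d')
    (by simp only [List.nodup_cons, List.mem_cons, List.not_mem_nil, or_false, not_or]; grind)
    (by simp only [List.nodup_cons, List.mem_cons, List.not_mem_nil, or_false, not_or]; grind))
  rwa [hR.inv_eq_swap, hR.inv_eq_swap] at this

theorem C5_indep (hR : IsAltRep ρ φ) (hr : 9 ≤ r) {a b c d e d' e' : Fin r}
    (h : [a, b, c, d, e].Nodup) (h' : [a, b, c, d', e'].Nodup) :
    ρ (hR.C5 a b c d e) = ρ (hR.C5 a b c d' e') := by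
  obtain ⟨f, hf⟩ := exists_notMem_fin [a, b, c, d, e, d', e'] (by simp; omega)
  obtain ⟨g, hg⟩ := exists_notMem_fin [a, b, c, d, e, d', e', f] (by simp; omega)
  simp only [List.mem_cons, List.not_mem_nil, or_false, not_or] at hf hg
  simp only [List.nodup_cons, List.mem_cons, List.not_mem_nil, or_false, not_or] at h h'
  have nd : ∀ u v : Fin r, u ≠ a → u ≠ b → u ≠ c → v ≠ a → v ≠ b → v ≠ c → u ≠ v →
      [a, b, c, u, v].Nodup := by
    intro u v h1 h2 h3 h4 h5 h6 h7
    simp only [List.nodup_cons, List.mem_cons, List.not_mem_nil, or_false, not_or]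
    grind
  have e1 : [a, b, c, d, e].Nodup := nd d e (by grind) (by grind) (by grind) (by grind) (by grind) (by grind) (by grind)
  have e2 : [a, b, c, d, g].Nodup := nd d g (by grind) (by grind) (by grind) (by grind) (by grind) (by grind) (by grind)
  have e3 : [a, b, c, f, g].Nodup := nd f g (by grind) (by grind) (by grind) (by grind) (by grind) (by grind) (by grind)
  have e4 : [a, b, c, f, e'].Nodup := nd f e' (by grind) (by grind) (by grind) (by grind) (by grind) (by grind) (by grind)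
  have e5 : [a, b, c, d', e'].Nodup := nd d' e' (by grind) (by grind) (by grind) (by grind) (by grind) (by grind) (by grind)
  rw [hR.C5_step hr e1 e2, hR.C5_step_left hr e2 e3, hR.C5_step hr e3 e4,
    hR.C5_step_left hr e4 e5]

open Classical in
/-- The canonical lift of a three-cycle, as an operator. -/
noncomputable def L (hR : IsAltRep ρ φ) (a b c : Fin r) : Module.End K V :=
  if h : ∃ d e, [a, b, c, d, e].Nodup then
    ρ (hR.C5 a b c h.choose h.choose_spec.choose) ^ 4
  else 1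

theorem exists_two_more (hr : 5 ≤ r) {a b c : Fin r} (h : [a, b, c].Nodup) :
    ∃ d e, [a, b, c, d, e].Nodup := by
  obtain ⟨d, hd⟩ := exists_notMem_fin [a, b, c] (by simp; omega)
  obtain ⟨e, he⟩ := exists_notMem_fin [a, b, c, d] (by simp; omega)
  simp only [List.mem_cons, List.not_mem_nil, or_false, not_or] at hd he
  simp only [List.nodup_cons, List.mem_cons, List.not_mem_nil, or_false, not_or] at h
  refine ⟨d, e, ?_⟩
  simp only [List.nodup_cons, List.mem_cons, List.not_mem_nil, or_false, not_or]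
  grind

theorem nodup_three {a b c d e : Fin r} (h : [a, b, c, d, e].Nodup) :
    a ≠ b ∧ b ≠ c ∧ a ≠ c := by
  simp only [List.nodup_cons, List.mem_cons, List.not_mem_nil, or_false, not_or] at h
  grind

theorem L_eq (hR : IsAltRep ρ φ) (hr : 9 ≤ r) {a b c d e : Fin r} (h : [a, b, c, d, e].Nodup) :
    hR.L a b c = ρ (hR.C5 a b c d e) ^ 4 := by
  have hex : ∃ d e, [a, b, c, d, e].Nodup := ⟨d, e, h⟩
  rw [L, dif_pos hex, hR.C5_indep hr hex.choose_spec.choose_spec h]

theorem L_eq_rho (hR : IsAltRep ρ φ) (hr : 9 ≤ r) {a b c : Fin r} (h : [a, b, c].Nodup) :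
    ∃ g, φ g = cyc a b c ∧ hR.L a b c = ρ g := by
  obtain ⟨d, e, h5⟩ := exists_two_more (by omega) h
  obtain ⟨hab, hbc, hac⟩ := nodup_three h5
  exact ⟨hR.C5 a b c d e ^ 4, by rw [map_pow, hR.map_C5 h5, cyc_eq_one_of_pow hab hbc hac],
    by rw [hR.L_eq hr h5, map_pow]⟩

theorem L_conj (hR : IsAltRep ρ φ) (hr : 9 ≤ r) (g : H) {a b c : Fin r} (h : [a, b, c].Nodup) :
    ρ g * hR.L a b c * ρ g⁻¹ =
      hR.L ((φ g : Perm (Fin r)) a) ((φ g : Perm (Fin r)) b) ((φ g : Perm (Fin r)) c) := by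
  obtain ⟨d, e, h5⟩ := exists_two_more (by omega) h
  rw [hR.L_eq hr h5, hR.L_eq hr (h5.map (φ g : Perm (Fin r)).injective), ← map_pow, ← map_pow,
    ← map_mul, ← map_mul, ← conj_pow, map_pow, map_pow, map_mul, map_mul, hR.rho_conj_C5]

/-- Transport of an identity along a permutation. -/
theorem L_move (hR : IsAltRep ρ φ) (hr : 9 ≤ r) (g : H) {a b c : Fin r} (h : [a, b, c].Nodup) :
    ρ g * hR.L a b c =
      hR.L ((φ g : Perm (Fin r)) a) ((φ g : Perm (Fin r)) b) ((φ g : Perm (Fin r)) c) * ρ g := by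
  rw [← hR.L_conj hr g h, mul_assoc, ← map_mul, inv_mul_cancel, map_one, mul_one]

theorem L_commute (hR : IsAltRep ρ φ) (hr : 9 ≤ r) {g : H} {a b c : Fin r} (h : [a, b, c].Nodup)
    (ha : (φ g : Perm (Fin r)) a = a) (hb : (φ g : Perm (Fin r)) b = b)
    (hc : (φ g : Perm (Fin r)) c = c) : Commute (ρ g) (hR.L a b c) := by
  have := hR.L_move hr g h
  rwa [ha, hb, hc] at this

theorem L_rot (hR : IsAltRep ρ φ) (hr : 9 ≤ r) {a b c : Fin r} (h : [a, b, c].Nodup) :
    hR.L b c a = hR.L a b c := by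
  obtain ⟨g, hg, hL⟩ := hR.L_eq_rho hr h
  simp only [List.nodup_cons, List.mem_cons, List.not_mem_nil, or_false, not_or] at h
  have := hR.L_conj hr g (a := a) (b := b) (c := c)
    (by simp only [List.nodup_cons, List.mem_cons, List.not_mem_nil, or_false, not_or]; grind)
  rw [hg, cyc_apply_left (by grind) (by grind) (by grind),
    cyc_apply_mid (by grind) (by grind) (by grind), cyc_apply_right (by grind) (by grind), hL] at this
  rw [← this, hL, mul_assoc, ← map_mul, mul_inv_cancel, map_one, mul_one]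

theorem L_cube (hR : IsAltRep ρ φ) (hr : 9 ≤ r) {a b c : Fin r} (h : [a, b, c].Nodup) :
    hR.L a b c ^ 3 = 1 := by
  obtain ⟨d, e, h5⟩ := exists_two_more (by omega) h
  obtain ⟨hab, hbc, hac⟩ := nodup_three h5
  have hz : φ (hR.C5 a b c d e ^ 3) = 1 := by rw [map_pow, hR.map_C5 h5, cyc_cube hab hbc hac]
  have h5' : [a, c, b, e, d].Nodup := by
    simp only [List.nodup_cons, List.mem_cons, List.not_mem_nil, or_false, not_or] at h5 ⊢
    grind
  obtain ⟨σ, hσ⟩ := exists_map_fin [a, b, c, d, e] [a, c, b, e, d] h5 h5' rfl (by simp; omega)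
  simp only [List.map_cons, List.map_nil, List.cons.injEq, and_true] at hσ
  have hg := hR.rho_conj_C5 (hR.lift σ) a b c d e
  rw [hR.map_lift, hσ.1, hσ.2.1, hσ.2.2.1, hσ.2.2.2.1, hσ.2.2.2.2, show hR.C5 a c b e d = (hR.C5 a b c d e)⁻¹ from hR.inv_eq_swap.symm] at hg
  rw [hR.L_eq hr h5, ← pow_mul, ← map_pow]
  generalize hR.C5 a b c d e = u at hz hg ⊢
  generalize hR.lift σ = g at hg
  have h1 : ρ (u ^ 3) = ρ ((g * u * g⁻¹) ^ 3) := by
    rw [conj_pow, map_mul, map_mul, ← hR.central hz (ρ g), mul_assoc, ← map_mul ρ g, mul_inv_cancel,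
      map_one, mul_one]
  have h2 : ρ ((g * u * g⁻¹) ^ 3) = ρ ((u⁻¹) ^ 3) := by
    rw [map_pow, map_pow, map_mul, map_mul, hg]
  calc ρ (u ^ (4 * 3)) = (ρ (u ^ 3) * ρ (u ^ 3)) ^ 2 := by
        rw [← map_mul, ← map_pow, ← pow_add, ← pow_mul]
    _ = (ρ (u⁻¹ ^ 3) * ρ (u ^ 3)) ^ 2 := by
        nth_rewrite 1 [h1]
        rw [h2]
    _ = 1 := by rw [← map_mul, inv_pow, inv_mul_cancel, map_one, one_pow]

theorem L_swap (hR : IsAltRep ρ φ) (hr : 9 ≤ r) {a b c : Fin r} (h : [a, b, c].Nodup) :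
    hR.L a c b * hR.L a b c = 1 := by
  obtain ⟨d, e, h5⟩ := exists_two_more (by omega) h
  have h5' : [a, c, b, e, d].Nodup := by
    simp only [List.nodup_cons, List.mem_cons, List.not_mem_nil, or_false, not_or] at h5 ⊢
    grind
  rw [hR.L_eq hr h5', hR.L_eq hr h5, ← hR.inv_eq_swap, ← map_pow, ← map_pow, ← map_mul, inv_pow,
    inv_mul_cancel, map_one]

theorem L_not_scalar (hR : IsAltRep ρ φ) (hr : 9 ≤ r) {a b c : Fin r} (h : [a, b, c].Nodup)
    (k : K) : hR.L a b c ≠ k • 1 := by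
  intro hk
  obtain ⟨g, hg, hL⟩ := hR.L_eq_rho hr h
  simp only [List.nodup_cons, List.mem_cons, List.not_mem_nil, or_false, not_or] at h
  refine cyc_ne_one (a := a) (b := b) (c := c) (by grind) (by grind) (by grind) ?_
  rw [← hg]
  exact (hR.scalar_iff g).mpr ⟨k, hL ▸ hk⟩

/-- The group of a subset of the points acting on an invariant subspace where it is not scalar. -/
theorem restrict_subset (hR : IsAltRep ρ φ) (s : Finset (Fin r)) (hs : 5 ≤ s.card)
    (W : Submodule K V)
    (hW : ∀ h : H, (φ h : Perm (Fin r)).support ⊆ s → ∀ w ∈ W, ρ h w ∈ W)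
    (hns : ∃ h : H, (φ h : Perm (Fin r)).support ⊆ s ∧ ¬ ∃ c : K, ∀ w ∈ W, ρ h w = c • w) :
    ∃ (P : Subgroup H) (ρ' : P →* Module.End K W) (φ' : P →* alternatingGroup (Fin s.card)),
      IsAltRep ρ' φ' ∧ (∀ h : H, (φ h : Perm (Fin r)).support ⊆ s → h ∈ P) ∧
        (∀ g : P, φ' g = 1 → φ (g : H) = 1) ∧
        ∀ (g : P) (w : W), ((ρ' g w : W) : V) = ρ g w := by
  classical
  let ι := alternatingGroup.ofSubtype (α := Fin r) s
  let P : Subgroup H := ι.range.comap φ
  have hP : ∀ h : H, h ∈ P ↔ (φ h : Perm (Fin r)).support ⊆ s := fun h =>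
    alternatingGroup.mem_range_ofSubtype_iff s (φ h)
  let e : ι.range ≃* alternatingGroup (Fin s.card) :=
    (MonoidHom.ofInjective (f := ι) alternatingGroup.ofSubtype_injective).symm.trans
      s.equivFin.altCongrHom
  let φ₀ : P →* ι.range := φ.subgroupComap ι.range
  let φ' : P →* alternatingGroup (Fin s.card) := e.toMonoidHom.comp φ₀
  let ρ' : P →* Module.End K W :=
    { toFun := fun h => (ρ h).restrict (hW h ((hP h).mp h.2))
      map_one' := by ext x; simp
      map_mul' := fun g h => by ext x; simp }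
  have hφ0 : Function.Surjective φ₀ := by
    rintro ⟨σ, hσ⟩
    obtain ⟨h, rfl⟩ := hR.surj σ
    exact ⟨⟨h, hσ⟩, rfl⟩
  have hφ' : Function.Surjective φ' := e.surjective.comp hφ0
  refine ⟨P, ρ', φ', ⟨hφ', fun h => ⟨fun hh => ?_, fun hh => ?_⟩⟩, fun h hh => (hP h).mpr hh,
    fun g hg => congrArg Subtype.val (e.injective (hg.trans (map_one e).symm) : φ₀ g = 1),
    fun g w => rfl⟩
  · have h0 : φ₀ h = 1 := e.injective (hh.trans (map_one e).symm)
    obtain ⟨c, hc⟩ := (hR.scalar_iff (h : H)).mp (congrArg Subtype.val h0)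
    refine ⟨c, ?_⟩
    ext w
    show ρ h w = c • (w : V)
    rw [hc]; rfl
  · let N : Subgroup P :=
      { carrier := {g | ∀ k, Commute (ρ' g) (ρ' k) ∧ ∃ c : K, ρ' g = c • 1}
        one_mem' := fun k => ⟨by rw [map_one]; exact Commute.one_left _, 1, by rw [map_one, one_smul]⟩
        mul_mem' := fun {x y} hx hy k => by
          obtain ⟨cx, hcx⟩ := (hx k).2
          obtain ⟨cy, hcy⟩ := (hy k).2
          refine ⟨?_, cx * cy, ?_⟩
          · rw [map_mul]; exact (hx k).1.mul_left (hy k).1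
          · rw [map_mul, hcx, hcy, smul_mul_smul_comm, one_mul]
        inv_mem' := fun {x} hx k => by
          obtain ⟨cx, hcx⟩ := (hx k).2
          have h1 : ρ' x * ρ' x⁻¹ = 1 := by rw [← map_mul, mul_inv_cancel, map_one]
          rw [hcx, smul_mul_assoc, one_mul] at h1
          have hx' : ρ' x⁻¹ = cx⁻¹ • 1 := by
            by_cases h0 : cx = 0
            · rw [h0, zero_smul] at h1
              rw [← mul_one (ρ' x⁻¹), ← h1, mul_zero, smul_zero]
            · rw [← h1, smul_smul, inv_mul_cancel₀ h0, one_smul]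
          exact ⟨by rw [hx']; exact (Commute.one_left _).smul_left _, _, hx'⟩ }
    haveI : N.Normal := ⟨fun x hx g k => by
      obtain ⟨cx, hcx⟩ := (hx g).2
      have : ρ' (g * x * g⁻¹) = cx • 1 := by
        rw [map_mul, map_mul, hcx, mul_smul_comm, mul_one, smul_mul_assoc, ← map_mul, mul_inv_cancel,
          map_one]
      exact ⟨by rw [this]; exact (Commute.one_left _).smul_left _, _, this⟩⟩
    haveI := isSimple (r := s.card) hs
    have hmem : h ∈ N := fun k => by
      obtain ⟨c, hc⟩ := hh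
      exact ⟨by rw [hc]; exact (Commute.one_left _).smul_left _, c, hc⟩
    rcases (Subgroup.Normal.map ‹N.Normal› φ' hφ').eq_bot_or_eq_top with hN | hN
    · exact (Subgroup.eq_bot_iff_forall _).mp hN _ (Subgroup.mem_map_of_mem φ' hmem)
    · exfalso
      obtain ⟨g, hgs, hg⟩ := hns
      obtain ⟨x, hx, hxe⟩ := hN ▸ Subgroup.mem_top (φ' ⟨g, (hP g).mpr hgs⟩)
      obtain ⟨c, hc⟩ := (hx 1).2
      have h0 : φ₀ (x⁻¹ * ⟨g, (hP g).mpr hgs⟩) = 1 := by
        rw [map_mul, map_inv, inv_mul_eq_one]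
        exact e.injective hxe
      obtain ⟨d, hd⟩ := (hR.scalar_iff _).mp (congrArg Subtype.val h0)
      refine hg ⟨c * d, fun w hw => ?_⟩
      have hprod : (⟨g, (hP g).mpr hgs⟩ : P) = x * (x⁻¹ * ⟨g, (hP g).mpr hgs⟩) := by group
      have := congrArg (fun q : P => ρ q w) hprod
      simp only [Subgroup.coe_mul, map_mul, Module.End.mul_apply] at this
      rw [this]
      have hd' : ρ ((x : H)⁻¹ * g) w = d • w := by
        rw [show ρ ((x : H)⁻¹ * g) = d • 1 from hd]; rfl
      have hxw : ρ (x : H) w = c • w := congrArg Subtype.val (LinearMap.congr_fun hc ⟨w, hw⟩)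
      rw [Subgroup.coe_inv, ← Module.End.mul_apply (ρ (x : H)⁻¹), ← map_mul, hd', map_smul, hxw,
        smul_smul, mul_comm]

end IsAltRep

end CfsgAltMinDeg
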